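import Groth.Agent.AlgSt.K735.Rep
import Groth.Prelude.Def_AlgSt4

/-!
# Points of a category fibred in groupoids over `(Sch/S)` (helper735)

* `K735.Pts.exists_restrict`: restriction of a field-valued point along a field extension.
* `K735.Pts.rel_equivalence`, `K735.Pts.mk_eq_mk_iff`.
* `K735.Pts.exists_fp`: points of the 2-fibre product.
* `K735.Pts.injective_iff_surjective_diag` etc.
-/

set_option autoImplicit false
set_option backward.isDefEq.respectTransparency false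
set_option backward.isDefEq.respectTransparency.types false

universe v₉ u₉ v₈ u₈ v₇ u₇ v₆ u₆ v₅ u₅ v₄ u₄ v₃ u₃ v₂ u₂ v u

open CategoryTheory CategoryTheory.Limits AlgebraicGeometry Opposite K735.Fib K735.Fp K735.Rep

namespace K735.Pts

open AlgSt

variable {S : Scheme.{u}}

section

variable {𝒳 : BasedCategory.{v₂, u₂} (Over S)} {𝒴 : BasedCategory.{v₃, u₃} (Over S)}
  {𝒵 : BasedCategory.{v₄, u₄} (Over S)}

/-- The morphism of spectra over `S` underlying a morphism between the objects of two field-valued points. -/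
noncomputable def baseHom {p q : FPt 𝒳} (a : p.obj ⟶ q.obj) : (Over.mk p.str : Over S) ⟶ Over.mk q.str :=
  eqToHom p.lies.symm ≫ 𝒳.p.map a ≫ eqToHom q.lies

/-- Restriction of a field-valued point along a morphism `Spec Ω ⟶ Spec K` over `S`. -/
theorem exists_restrict (h𝒳 : FibCat.IsFibGrpd 𝒳.p) (p : FPt 𝒳) {Ω : Type u} [Field Ω]
    (w : Spec (CommRingCat.of Ω) ⟶ S) (g : (Over.mk w : Over S) ⟶ Over.mk p.str) :
    ∃ (y : 𝒳.obj) (hy : 𝒳.p.obj y = Over.mk w) (φ : y ⟶ p.obj),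
      𝒳.p.map φ = eqToHom hy ≫ g ≫ eqToHom p.lies.symm := by
  obtain ⟨y, φ, e, h⟩ := exists_lift_eq h𝒳 p.lies g
  exact ⟨y, e, φ, h⟩

/-- Two morphisms `Spec Ω₁ ⟶ Spec L`, `Spec Ω₂ ⟶ Spec L` over `S` can be amalgamated. -/
theorem exists_amalg {L Ω₁ Ω₂ : Type u} [Field L] [Field Ω₁] [Field Ω₂] {w : Spec (CommRingCat.of L) ⟶ S}
    {w₁ : Spec (CommRingCat.of Ω₁) ⟶ S} {w₂ : Spec (CommRingCat.of Ω₂) ⟶ S}
    (a : (Over.mk w₁ : Over S) ⟶ Over.mk w) (b : (Over.mk w₂ : Over S) ⟶ Over.mk w) :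
    ∃ (Ω : Type u) (_ : Field Ω) (w' : Spec (CommRingCat.of Ω) ⟶ S) (c : (Over.mk w' : Over S) ⟶ Over.mk w₁)
      (d : (Over.mk w' : Over S) ⟶ Over.mk w₂), c ≫ a = d ≫ b := by
  obtain ⟨Ω, _, i₁, i₂, hi⟩ :=
    AlgSp.FieldPt.exists_amalgamation (Spec.preimage a.left).hom (Spec.preimage b.left).hom
  have hL : Spec.map (CommRingCat.ofHom i₁) ≫ a.left = Spec.map (CommRingCat.ofHom i₂) ≫ b.left := by
    conv_lhs => rw [← Spec.map_preimage a.left]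
    conv_rhs => rw [← Spec.map_preimage b.left]
    rw [← Spec.map_comp, ← Spec.map_comp]
    congr 1
    exact CommRingCat.hom_ext hi
  have e₁ : a.left ≫ w = w₁ := Over.w a
  have e₂ : b.left ≫ w = w₂ := Over.w b
  have hw : Spec.map (CommRingCat.ofHom i₂) ≫ w₂ = Spec.map (CommRingCat.ofHom i₁) ≫ w₁ := by
    rw [← e₁, ← e₂, ← Category.assoc, ← Category.assoc, hL]
  exact ⟨Ω, inferInstance, Spec.map (CommRingCat.ofHom i₁) ≫ w₁, Over.homMk (Spec.map (CommRingCat.ofHom i₁)) rfl,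
    Over.homMk (Spec.map (CommRingCat.ofHom i₂)) hw, Over.OverMorphism.ext hL⟩

/-- The relation on field-valued points is an equivalence relation. -/
theorem rel_equivalence (h𝒳 : FibCat.IsFibGrpd 𝒳.p) : _root_.Equivalence (@FPt.Rel S 𝒳) where
  refl p := ⟨p, 𝟙 _, 𝟙 _, trivial⟩
  symm := by
    rintro p q ⟨r, a, b, -⟩
    exact ⟨r, b, a, trivial⟩
  trans := by
    rintro p q t ⟨r, a, b, -⟩ ⟨s, c, d, -⟩
    obtain ⟨Ω, _, w, i, j, hij⟩ := exists_amalg (baseHom b) (baseHom c)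
    obtain ⟨y, hy, φ, hφ⟩ := exists_restrict h𝒳 r w i
    obtain ⟨χ, hχ1, hχ2⟩ := exists_hom h𝒳 c (φ ≫ b) (eqToHom hy ≫ j ≫ eqToHom s.lies.symm) (by
      rw [Functor.map_comp, hφ]
      have h1 : 𝒳.p.map b = eqToHom r.lies ≫ baseHom b ≫ eqToHom q.lies.symm := by simp [baseHom]
      have h2 : 𝒳.p.map c = eqToHom s.lies ≫ baseHom c ≫ eqToHom q.lies.symm := by simp [baseHom]
      rw [h1, h2]
      simp only [Category.assoc, eqToHom_trans_assoc, eqToHom_refl, Category.id_comp]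
      rw [reassoc_of% hij])
    exact ⟨⟨Ω, w, y, hy⟩, φ ≫ a, χ ≫ d, trivial⟩

theorem mk_eq_mk_iff (h𝒳 : FibCat.IsFibGrpd 𝒳.p) {p q : FPt 𝒳} : Points.mk p = Points.mk q ↔ FPt.Rel p q := by
  constructor
  · intro h
    have := Quot.eqvGen_exact h
    exact (rel_equivalence h𝒳).eqvGen_iff.1 this
  · exact Points.sound

/-- Points with isomorphic objects are equal. -/
theorem mk_eq_of_hom {p q : FPt 𝒳} (a : p.obj ⟶ q.obj) : Points.mk p = Points.mk q :=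
  Points.sound ⟨p, 𝟙 _, a, trivial⟩

/-- Functoriality of the map on points. -/
theorem map_comp (f : 𝒳 ⥤ᵇ 𝒴) (g : 𝒴 ⥤ᵇ 𝒵) (x : Points 𝒳) :
    Points.map (BasedFunctor.comp f g) x = Points.map g (Points.map f x) := by
  obtain ⟨p, rfl⟩ := Points.mk_surjective x
  rfl

theorem map_id (x : Points 𝒳) : Points.map (BasedFunctor.id 𝒳) x = x := by
  obtain ⟨p, rfl⟩ := Points.mk_surjective x
  rfl

theorem map_congr {f g : 𝒳 ⥤ᵇ 𝒴} (e : f ≅ g) (x : Points 𝒳) : Points.map f x = Points.map g x := by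
  obtain ⟨p, rfl⟩ := Points.mk_surjective x
  exact mk_eq_of_hom (p := p.map f) (q := p.map g) (isoApp e p.obj).hom

/-- An equivalence over the base induces a bijection on points. -/
theorem map_bijective_of_isEquivOver {f : 𝒳 ⥤ᵇ 𝒴} (hf : FibCat.IsEquivOver f) :
    Function.Bijective (Points.map f) := by
  obtain ⟨g, ⟨a⟩, ⟨b⟩⟩ := hf
  refine Function.bijective_iff_has_inverse.2 ⟨Points.map g, fun x => ?_, fun x => ?_⟩
  · rw [← map_comp, map_congr a, map_id]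
  · rw [← map_comp, map_congr b, map_id]

end

section Fp

variable {𝒳 : BasedCategory.{v₂, u₂} (Over S)} {𝒴 : BasedCategory.{v₃, u₃} (Over S)}
  {𝒵 : BasedCategory.{v₄, u₄} (Over S)}

/-- Two field-valued points of `𝒵` and `𝒳` with related images in `𝒴` come from a field-valued point of the
fibre product. -/
theorem exists_fp_of_rel (h𝒳 : FibCat.IsFibGrpd 𝒳.p) (h𝒵 : FibCat.IsFibGrpd 𝒵.p) (h𝒴 : FibCat.IsFibGrpd 𝒴.p)
    (g : 𝒵 ⥤ᵇ 𝒴) (f : 𝒳 ⥤ᵇ 𝒴) (z : FPt 𝒵) (x : FPt 𝒳) (h : FPt.Rel (z.map g) (x.map f)) :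
    ∃ (w : FPt (FibCat.fp g f)) (_ : w.obj.obj.fst ⟶ z.obj) (_ : w.obj.obj.snd ⟶ x.obj), True := by
  obtain ⟨r, a, b, -⟩ := h
  obtain ⟨z', hz', φ, hφ⟩ := exists_restrict h𝒵 z r.str (baseHom a)
  obtain ⟨x', hx', ψ, hψ⟩ := exists_restrict h𝒳 x r.str (baseHom b)
  have h1 : 𝒴.p.map a = eqToHom r.lies ≫ baseHom a ≫ eqToHom (z.map g).lies.symm := by simp [baseHom]
  have h2 : 𝒴.p.map b = eqToHom r.lies ≫ baseHom b ≫ eqToHom (x.map f).lies.symm := by simp [baseHom]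
  -- `r ≅ g z'` and `r ≅ f x'`
  obtain ⟨α, hα1, hα2⟩ := exists_hom h𝒴 (g.map φ) a (eqToHom (r.lies.trans (hz'.symm.trans (g.w_obj z').symm))) (by
    rw [map_map, hφ, h1]
    simp)
  obtain ⟨β, hβ1, hβ2⟩ := exists_hom h𝒴 (f.map ψ) b (eqToHom (r.lies.trans (hx'.symm.trans (f.w_obj x').symm))) (by
    rw [map_map, hψ, h2]
    simp)
  have hα : Vert 𝒴.p α := vert_of_map_eq _ hα1
  have hβ : Vert 𝒴.p β := vert_of_map_eq _ hβ1
  have := hα.isIso h𝒴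
  have := hβ.isIso h𝒴
  exact ⟨⟨r.K, r.str, mkFp g f z' x' ((asIso α).symm ≪≫ asIso β) (hα.inv.comp hβ), hz'⟩, φ, ψ, trivial⟩

theorem exists_fp (h𝒳 : FibCat.IsFibGrpd 𝒳.p) (h𝒵 : FibCat.IsFibGrpd 𝒵.p) (h𝒴 : FibCat.IsFibGrpd 𝒴.p)
    (g : 𝒵 ⥤ᵇ 𝒴) (f : 𝒳 ⥤ᵇ 𝒴) (z : Points 𝒵) (x : Points 𝒳) (h : Points.map g z = Points.map f x) :
    ∃ w : Points (FibCat.fp g f),
      Points.map (FibCat.fpFst g f) w = z ∧ Points.map (FibCat.fpSnd g f) w = x := by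
  obtain ⟨z, rfl⟩ := Points.mk_surjective z
  obtain ⟨x, rfl⟩ := Points.mk_surjective x
  obtain ⟨w, a, b, -⟩ := exists_fp_of_rel h𝒳 h𝒵 h𝒴 g f z x ((mk_eq_mk_iff h𝒴).1 h)
  exact ⟨Points.mk w, mk_eq_of_hom (p := w.map (FibCat.fpFst g f)) a, mk_eq_of_hom (p := w.map (FibCat.fpSnd g f)) b⟩

/-- Surjectivity on points is stable under base change. -/
theorem surjective_fpFst (h𝒳 : FibCat.IsFibGrpd 𝒳.p) (h𝒵 : FibCat.IsFibGrpd 𝒵.p) (h𝒴 : FibCat.IsFibGrpd 𝒴.p)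
    (g : 𝒵 ⥤ᵇ 𝒴) (f : 𝒳 ⥤ᵇ 𝒴) (hf : Function.Surjective (Points.map f)) :
    Function.Surjective (Points.map (FibCat.fpFst g f)) := by
  intro z
  obtain ⟨x, hx⟩ := hf (Points.map g z)
  obtain ⟨w, h1, -⟩ := exists_fp h𝒳 h𝒵 h𝒴 g f z x hx.symm
  exact ⟨w, h1⟩

/-- Two field-valued points of a fibre product with the same field of definition. -/
theorem exists_common (h𝒳 : FibCat.IsFibGrpd 𝒳.p) {p q : FPt 𝒳} (h : FPt.Rel p q) :
    ∃ r : FPt 𝒳, Nonempty (r.obj ⟶ p.obj) ∧ Nonempty (r.obj ⟶ q.obj) := by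
  obtain ⟨r, a, b, -⟩ := h
  exact ⟨r, ⟨a⟩, ⟨b⟩⟩

/-- If the diagonal of `f` is surjective on points then every base change of `f` is injective on points. -/
theorem injective_fpFst_of_surjective_diag (h𝒳 : FibCat.IsFibGrpd 𝒳.p) (h𝒵 : FibCat.IsFibGrpd 𝒵.p)
    (h𝒴 : FibCat.IsFibGrpd 𝒴.p) (g : 𝒵 ⥤ᵇ 𝒴) (f : 𝒳 ⥤ᵇ 𝒴)
    (hf : Function.Surjective (Points.map (FibCat.diag f))) :
    Function.Injective (Points.map (FibCat.fpFst g f)) := by
  intro w₁ w₂ h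
  obtain ⟨w₁, rfl⟩ := Points.mk_surjective w₁
  obtain ⟨w₂, rfl⟩ := Points.mk_surjective w₂
  -- restrict both points to a common field
  obtain ⟨r, a, b, -⟩ := (mk_eq_mk_iff h𝒵).1 h
  have hfp := isFibGrpd_fp h𝒵 h𝒳 h𝒴 g f
  obtain ⟨y₁, hy₁, φ₁, hφ₁⟩ := exists_restrict hfp w₁ r.str (baseHom a)
  obtain ⟨y₂, hy₂, φ₂, hφ₂⟩ := exists_restrict hfp w₂ r.str (baseHom b)
  have h1 : 𝒵.p.map a = eqToHom r.lies ≫ baseHom a ≫ eqToHom w₁.lies.symm := by simp [baseHom]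
  have h2 : 𝒵.p.map b = eqToHom r.lies ≫ baseHom b ≫ eqToHom w₂.lies.symm := by simp [baseHom]
  -- the two restricted points have first components isomorphic to `r`
  have hφ₁' : 𝒵.p.map φ₁.hom.fst = eqToHom hy₁ ≫ baseHom a ≫ eqToHom w₁.lies.symm := hφ₁
  have hφ₂' : 𝒵.p.map φ₂.hom.fst = eqToHom hy₂ ≫ baseHom b ≫ eqToHom w₂.lies.symm := hφ₂
  obtain ⟨α, hα1, hα2⟩ := exists_hom h𝒵 φ₁.hom.fst a (eqToHom (r.lies.trans hy₁.symm)) (by
    rw [hφ₁', h1]; simp)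
  obtain ⟨β, hβ1, hβ2⟩ := exists_hom h𝒵 φ₂.hom.fst b (eqToHom (r.lies.trans hy₂.symm)) (by
    rw [hφ₂', h2]; simp)
  have hα : Vert 𝒵.p α := vert_of_map_eq _ hα1
  have hβ : Vert 𝒵.p β := vert_of_map_eq _ hβ1
  have := hα.isIso h𝒵
  have := hβ.isIso h𝒵
  let γ : y₁.obj.fst ≅ y₂.obj.fst := (asIso α).symm ≪≫ asIso β
  have hγ : Vert 𝒵.p γ.hom := hα.inv.comp hβ
  -- the point `(x₁, x₂, β)` of `𝒳 ×_𝒴 𝒳`
  let δ : f.obj y₁.obj.snd ≅ f.obj y₂.obj.snd := y₁.obj.iso.symm ≪≫ g.mapIso γ ≪≫ y₂.obj.iso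
  have hδ : Vert 𝒴.p δ.hom := (Vert.iso_inv (fp_vert y₁)).comp ((hγ.map g).comp (fp_vert y₂))
  let d : FPt (FibCat.fp f f) :=
    { K := r.K, str := r.str, obj := mkFp f f y₁.obj.snd y₂.obj.snd δ hδ,
      lies := (fp_snd_eq y₁).trans hy₁ }
  obtain ⟨t, ht⟩ := hf (Points.mk d)
  obtain ⟨t, rfl⟩ := Points.mk_surjective t
  obtain ⟨s, u, v, -⟩ := (mk_eq_mk_iff (isFibGrpd_fp h𝒳 h𝒳 h𝒴 f f)).1 ht
  -- `s` maps to the diagonal point of `t` and to `d`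
  -- restrict `y₁` to `s`
  let bs : (Over.mk s.str : Over S) ⟶ Over.mk r.str := baseHom v
  let Y₁ : FPt (FibCat.fp g f) := ⟨r.K, r.str, y₁, hy₁⟩
  obtain ⟨k₁, hk₁, κ₁, hκ₁⟩ := exists_restrict hfp Y₁ s.str bs
  have hv1 : 𝒳.p.map v.hom.fst = eqToHom s.lies ≫ bs ≫ eqToHom d.lies.symm := by
    change (FibCat.fp f f).p.map v = _
    simp [bs, baseHom]
  have hv2 : 𝒳.p.map v.hom.snd = eqToHom ((fp_snd_eq s.obj).trans s.lies) ≫ bs ≫
      eqToHom ((fp_snd_eq d.obj).trans d.lies).symm := by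
    rw [fp_map_snd, hv1]
    simp
  -- compare first components of `s` with the restriction of `y₁.snd`
  have hκ1 : 𝒵.p.map κ₁.hom.fst = eqToHom hk₁ ≫ bs ≫ eqToHom hy₁.symm := hκ₁
  have hκ2 : 𝒳.p.map κ₁.hom.snd = eqToHom ((fp_snd_eq k₁).trans hk₁) ≫ bs ≫
      eqToHom ((fp_snd_eq y₁).trans hy₁).symm := by
    rw [fp_map_snd, hκ1]
    simp
  -- the morphism `k₁.snd ⟶ y₂.snd`
  obtain ⟨i₁, hi1, hi2⟩ := exists_hom h𝒳 v.hom.fst κ₁.hom.snd
    (eqToHom (((fp_snd_eq k₁).trans hk₁).trans s.lies.symm)) (by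
      rw [hv1, hκ2]
      simp)
  -- `u : s ⟶ diag t` gives `s.fst ⟶ t` and `s.snd ⟶ t`
  obtain ⟨j₁, hj1, hj2⟩ := exists_hom h𝒳 u.hom.snd u.hom.fst (eqToHom (fp_snd_eq s.obj).symm) (by
    have := fp_map_snd u
    rw [this]
    simp [FibCat.diag, FibCat.fpLift])
  refine (mk_eq_mk_iff hfp).2 ⟨⟨s.K, s.str, k₁, hk₁⟩, κ₁ ≫ φ₁, homFp (κ₁.hom.fst ≫ γ.hom) (i₁ ≫ j₁ ≫ v.hom.snd) ?_ ≫ φ₂, trivial⟩
  have e1 : f.map j₁ = s.obj.obj.iso.hom := by
    apply hom_ext' h𝒴 (f.map u.hom.snd)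
    · rw [map_map, hj1, (fp_vert s.obj).map_eq]
      simp
    · rw [← f.map_comp, hj2, ← fp_w u]
      exact (Category.comp_id _).symm
  have e2 := fp_w κ₁
  have e3 : f.map v.hom.fst ≫ δ.hom = s.obj.obj.iso.hom ≫ f.map v.hom.snd := fp_w v
  have e4 : g.map γ.hom ≫ y₂.obj.iso.hom = y₁.obj.iso.hom ≫ δ.hom := by simp [δ]
  rw [g.map_comp, Category.assoc, e4, reassoc_of% e2, ← hi2, f.map_comp, Category.assoc, e3, f.map_comp, f.map_comp,
    e1]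

/-- If the base change of `f` along itself is injective on points then the diagonal of `f` is surjective on points. -/
theorem surjective_diag_of_injective (f : 𝒳 ⥤ᵇ 𝒴) (hf : Function.Injective (Points.map (FibCat.fpFst f f))) :
    Function.Surjective (Points.map (FibCat.diag f)) := by
  intro w
  refine ⟨Points.map (FibCat.fpFst f f) w, hf ?_⟩
  rw [← map_comp]
  exact map_id _

end Fp

end K735.Pts
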