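import Groth.Agent.AlgSt.K735.Fp
import Groth.Prelude.Def_AlgSt2

/-!
# Representability by algebraic spaces: formal properties (helper735)

* `K735.RepOver P w`: the category `𝒲` with `w : 𝒲 ⟶ (Sch/U)` is represented by an algebraic space whose map to `U` has `P`.
* `K735.repOver_of_equiv`, `K735.repByAlgSpWith_iff_equiv`.
-/

set_option autoImplicit false
set_option backward.isDefEq.respectTransparency false
set_option backward.isDefEq.respectTransparency.types false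

universe v₉ u₉ v₈ u₈ v₇ u₇ v₆ u₆ v₅ u₅ v₄ u₄ v₃ u₃ v₂ u₂ v u

open CategoryTheory CategoryTheory.Limits AlgebraicGeometry Opposite K735.Fib K735.Fp

namespace K735.Rep

variable {S : Scheme.{u}}

section

variable {𝒲 : BasedCategory.{v₂, u₂} (Over S)} {𝒲' : BasedCategory.{v₃, u₃} (Over S)}

theorem secHom_eq_of_iso {F : AlgSp.Sp S} {U : Over S} {Φ Ψ : AlgSt.ofSp F ⥤ᵇ FibCat.overCat U} (e : Φ ≅ Ψ)
    (a : (AlgSt.ofSp F).obj) : AlgSt.secHom Φ a = AlgSt.secHom Ψ a := by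
  have h1 := (vert_isoApp e a).map_eq
  have h2 : (isoApp e a).hom.left ≫ (Ψ.obj a).hom = (Φ.obj a).hom := Over.w (isoApp e a).hom
  change (isoApp e a).hom.left = _ at h1
  rw [AlgSt.secHom, AlgSt.secHom, ← h2, h1, eqToHom_trans_assoc]

/-- 2-isomorphic functors to a slice determine the same map of sheaves. -/
theorem spMapOfOver_eq_of_iso {F : AlgSp.Sp S} {U : Over S} {Φ Ψ : AlgSt.ofSp F ⥤ᵇ FibCat.overCat U}
    (e : Φ ≅ Ψ) : AlgSt.spMapOfOver Φ = AlgSt.spMapOfOver Ψ := by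
  apply ObjectProperty.hom_ext
  apply NatTrans.ext
  funext T
  ext x
  change (⟨AlgSt.secHom Φ ⟨T.unop, x⟩⟩ : ULift _) = ⟨AlgSt.secHom Ψ ⟨T.unop, x⟩⟩
  rw [secHom_eq_of_iso e]

/-- `𝒲` with `w : 𝒲 ⟶ (Sch/U)` is represented by an algebraic space whose map to `U` has `P`. -/
def RepOver (P : MorphismProperty (AlgSp.Sp S)) {U : Over S} (w : 𝒲 ⥤ᵇ FibCat.overCat U) : Prop :=
  ∃ (F : AlgSp.Space S) (e : AlgSt.ofSp F.obj ⥤ᵇ 𝒲),
    FibCat.IsEquivOver e ∧ P (AlgSt.spMapOfOver (BasedFunctor.comp e w))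

theorem RepOver.of_equiv {P : MorphismProperty (AlgSp.Sp S)} {U : Over S} {w : 𝒲 ⥤ᵇ FibCat.overCat U}
    {w' : 𝒲' ⥤ᵇ FibCat.overCat U} (h : RepOver P w) (k : 𝒲 ⥤ᵇ 𝒲') (hk : FibCat.IsEquivOver k)
    (e : BasedFunctor.comp k w' ≅ w) : RepOver P w' := by
  obtain ⟨F, i, hi, hP⟩ := h
  refine ⟨F, BasedFunctor.comp i k, IsEquivOver.comp hi hk, ?_⟩
  have : AlgSt.spMapOfOver (BasedFunctor.comp (BasedFunctor.comp i k) w') =
      AlgSt.spMapOfOver (BasedFunctor.comp i w) := spMapOfOver_eq_of_iso (whiskerLeftIso i e)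
  rw [this]
  exact hP

theorem RepOver.of_equiv' {P : MorphismProperty (AlgSp.Sp S)} {U : Over S} {w : 𝒲 ⥤ᵇ FibCat.overCat U}
    {w' : 𝒲' ⥤ᵇ FibCat.overCat U} (h : RepOver P w') (k : 𝒲 ⥤ᵇ 𝒲') (hk : FibCat.IsEquivOver k)
    (e : BasedFunctor.comp k w' ≅ w) : RepOver P w := by
  obtain ⟨k', hk', -, ⟨b⟩⟩ := IsEquivOver.exists_inv hk
  refine h.of_equiv k' hk' (whiskerLeftIso k' e.symm ≪≫ ?_)
  exact whiskerRightIso b w'

theorem RepOver.iff_of_equiv {P : MorphismProperty (AlgSp.Sp S)} {U : Over S} {w : 𝒲 ⥤ᵇ FibCat.overCat U}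
    {w' : 𝒲' ⥤ᵇ FibCat.overCat U} (k : 𝒲 ⥤ᵇ 𝒲') (hk : FibCat.IsEquivOver k)
    (e : BasedFunctor.comp k w' ≅ w) : RepOver P w ↔ RepOver P w' :=
  ⟨fun h => h.of_equiv k hk e, fun h => h.of_equiv' k hk e⟩

theorem repByAlgSp_of_equiv (h : AlgSt.RepByAlgSp 𝒲) (k : 𝒲 ⥤ᵇ 𝒲') (hk : FibCat.IsEquivOver k) :
    AlgSt.RepByAlgSp 𝒲' := by
  obtain ⟨F, i, hi⟩ := h
  exact ⟨F, BasedFunctor.comp i k, IsEquivOver.comp hi hk⟩

theorem repByAlgSp_iff_of_equiv (k : 𝒲 ⥤ᵇ 𝒲') (hk : FibCat.IsEquivOver k) :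
    AlgSt.RepByAlgSp 𝒲 ↔ AlgSt.RepByAlgSp 𝒲' := by
  refine ⟨fun h => repByAlgSp_of_equiv h k hk, fun h => ?_⟩
  obtain ⟨k', hk', -, -⟩ := IsEquivOver.exists_inv hk
  exact repByAlgSp_of_equiv h k' hk'

end

section

variable {𝒳 : BasedCategory.{v₂, u₂} (Over S)} {𝒴 : BasedCategory.{v₃, u₃} (Over S)}
  {𝒳' : BasedCategory.{v₄, u₄} (Over S)} {𝒴' : BasedCategory.{v₅, u₅} (Over S)}
  {𝒵 : BasedCategory.{v₆, u₆} (Over S)}

theorem repByAlgSpWith_def (P : MorphismProperty (AlgSp.Sp S)) (f : 𝒳 ⥤ᵇ 𝒴) :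
    AlgSt.RepByAlgSpWith P f ↔ ∀ (U : Over S) (y : FibCat.overCat U ⥤ᵇ 𝒴), RepOver P (FibCat.fpFst y f) := Iff.rfl

/-- `RepByAlgSpWith` descends along an equivalence of sources and a fully faithful functor of targets. -/
theorem repByAlgSpWith_of_sq (P : MorphismProperty (AlgSp.Sp S)) (f : 𝒳 ⥤ᵇ 𝒴) (f' : 𝒳' ⥤ᵇ 𝒴') (a : 𝒳' ⥤ᵇ 𝒳)
    (b : 𝒴' ⥤ᵇ 𝒴) (ha : FibCat.IsEquivOver a) (hb : FibCat.IsEquivOver b)
    (e : BasedFunctor.comp f' b ≅ BasedFunctor.comp a f) (h : AlgSt.RepByAlgSpWith P f) :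
    AlgSt.RepByAlgSpWith P f' := by
  intro U y
  refine RepOver.of_equiv' (h U (BasedFunctor.comp y b))
    (fpMap y f' (BasedFunctor.comp y b) f (BasedFunctor.id _) a b (Iso.refl _) e.symm)
    (isEquivOver_fpMap' _ _ _ _ _ _ _ _ _ isEquivOver_id ha hb) (Iso.refl _)

theorem repByAlgSpWith_iff_of_sq (P : MorphismProperty (AlgSp.Sp S)) (f : 𝒳 ⥤ᵇ 𝒴) (f' : 𝒳' ⥤ᵇ 𝒴') (a : 𝒳' ⥤ᵇ 𝒳)
    (b : 𝒴' ⥤ᵇ 𝒴) (ha : FibCat.IsEquivOver a) (hb : FibCat.IsEquivOver b)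
    (e : BasedFunctor.comp f' b ≅ BasedFunctor.comp a f) :
    AlgSt.RepByAlgSpWith P f ↔ AlgSt.RepByAlgSpWith P f' := by
  refine ⟨repByAlgSpWith_of_sq P f f' a b ha hb e, ?_⟩
  obtain ⟨a', ha', ⟨a₁⟩, ⟨a₂⟩⟩ := IsEquivOver.exists_inv ha
  obtain ⟨b', hb', ⟨b₁⟩, ⟨b₂⟩⟩ := IsEquivOver.exists_inv hb
  refine repByAlgSpWith_of_sq P f' f a' b' ha' hb' ?_
  -- `f ⋙ b' ≅ a' ⋙ a ⋙ f ⋙ b' ≅ a' ⋙ f' ⋙ b ⋙ b' ≅ a' ⋙ f'`
  exact (whiskerRightIso (whiskerRightIso a₂ f) b').symm ≪≫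
    (whiskerRightIso (whiskerLeftIso a' e.symm) b' :
      BasedFunctor.comp (BasedFunctor.comp a' (BasedFunctor.comp a f)) b' ≅
      BasedFunctor.comp (BasedFunctor.comp a' (BasedFunctor.comp f' b)) b') ≪≫
    (whiskerLeftIso (BasedFunctor.comp a' f') b₁ :
      BasedFunctor.comp (BasedFunctor.comp a' f') (BasedFunctor.comp b b') ≅ _)

/-- Invariance of `RepByAlgSpWith` under 2-isomorphism. -/
theorem repByAlgSpWith_of_iso (P : MorphismProperty (AlgSp.Sp S)) {f g : 𝒳 ⥤ᵇ 𝒴} (e : f ≅ g)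
    (h : AlgSt.RepByAlgSpWith P f) : AlgSt.RepByAlgSpWith P g :=
  repByAlgSpWith_of_sq P f g (BasedFunctor.id _) (BasedFunctor.id _) isEquivOver_id isEquivOver_id e.symm h

theorem repByAlgSp1_iff_top (f : 𝒳 ⥤ᵇ 𝒴) : AlgSt.RepByAlgSp1 f ↔ AlgSt.RepByAlgSpWith ⊤ f := by
  constructor
  · intro h U y
    obtain ⟨F, e, he⟩ := h U y
    exact ⟨F, e, he, trivial⟩
  · intro h U y
    obtain ⟨F, e, he, -⟩ := h U y
    exact ⟨F, e, he⟩

theorem AlgSt_RepByAlgSpWith_mono {P Q : MorphismProperty (AlgSp.Sp S)} (hPQ : P ≤ Q) {f : 𝒳 ⥤ᵇ 𝒴}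
    (h : AlgSt.RepByAlgSpWith P f) : AlgSt.RepByAlgSpWith Q f := by
  intro U y
  obtain ⟨F, e, he, hP⟩ := h U y
  exact ⟨F, e, he, hPQ _ hP⟩

theorem repByAlgSp1_of_with {P : MorphismProperty (AlgSp.Sp S)} {f : 𝒳 ⥤ᵇ 𝒴}
    (h : AlgSt.RepByAlgSpWith P f) : AlgSt.RepByAlgSp1 f := by
  intro U y
  obtain ⟨F, e, he, -⟩ := h U y
  exact ⟨F, e, he⟩

/-- A functor from the category of a sheaf into a slice is the same as a map of sheaves: `Φ ≅ ofSpMap ⋙ toOverCat`. -/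
theorem exists_iso_spMapOfOver {F : AlgSp.Sp S} {U : Over S} (Φ : AlgSt.ofSp F ⥤ᵇ FibCat.overCat U) :
    Nonempty (Φ ≅ BasedFunctor.comp (AlgSt.ofSpMap (AlgSt.spMapOfOver Φ)) (AlgSt.toOverCat U)) := by
  refine ⟨mkIso (fun a => Over.isoMk (eqToIso (Φ.w_obj a)) ?_) ?_ ?_⟩
  · change eqToHom (Φ.w_obj a) ≫ AlgSt.secHom Φ a = (Φ.obj a).hom
    rw [AlgSt.secHom, eqToHom_trans_assoc, eqToHom_refl, Category.id_comp]
  · intro a b φ
    apply Over.OverMorphism.ext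
    change (Φ.map φ).left ≫ eqToHom (Φ.w_obj b) = eqToHom (Φ.w_obj a) ≫ φ.hom
    have : (Φ.map φ).left = eqToHom (Φ.w_obj a) ≫ φ.hom ≫ eqToHom (Φ.w_obj b).symm :=
      IsHomLift.fac' (FibCat.overCat U).p ((AlgSt.ofSp F).p.map φ) (Φ.map φ)
    rw [this]
    simp
  · intro a
    exact vert_of_map_eq (Φ.w_obj a) rfl

end

section ofSp

variable {F G : AlgSp.Sp S}

theorem isFibGrpd_ofSp (F : AlgSp.Sp S) : FibCat.IsFibGrpd (AlgSt.ofSp F).p := Stk.isFibGrpd_ofPsh _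

theorem sec_map_map (G : AlgSp.Sp S) {A B D : Over S} (a : A ⟶ B) (b : B ⟶ D) (s : G.obj.obj (op D)) :
    G.obj.map a.op (G.obj.map b.op s) = G.obj.map (a ≫ b).op s := by
  rw [op_comp, Functor.map_comp_apply]

/-- The map of sheaves attached to a functor between their categories. -/
noncomputable def spMap (Φ : AlgSt.ofSp F ⥤ᵇ AlgSt.ofSp G) : F ⟶ G :=
  ObjectProperty.homMk
    { app := fun T => ↾fun x => G.obj.map (eqToHom (Φ.w_obj ⟨T.unop, x⟩).symm).op (Φ.obj ⟨T.unop, x⟩).sec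
      naturality := fun T T' g => by
        ext x
        change G.obj.map (eqToHom (Φ.w_obj ⟨T'.unop, F.obj.map g x⟩).symm).op (Φ.obj ⟨T'.unop, F.obj.map g x⟩).sec =
          G.obj.map g (G.obj.map (eqToHom (Φ.w_obj ⟨T.unop, x⟩).symm).op (Φ.obj ⟨T.unop, x⟩).sec)
        let ψ : (⟨T'.unop, F.obj.map g x⟩ : (AlgSt.ofSp F).obj) ⟶ ⟨T.unop, x⟩ := ⟨g.unop, rfl⟩
        rw [← (Φ.map ψ).map_sec]
        refine (sec_map_map G _ _ _).trans (Eq.trans ?_ (sec_map_map G g.unop _ _).symm)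
        congr 3
        have : (Φ.map ψ).hom = eqToHom (Φ.w_obj _) ≫ g.unop ≫ eqToHom (Φ.w_obj _).symm := map_map Φ ψ
        rw [this]
        simp }

theorem exists_iso_spMap (Φ : AlgSt.ofSp F ⥤ᵇ AlgSt.ofSp G) : Nonempty (Φ ≅ AlgSt.ofSpMap (spMap Φ)) := by
  have h : ∀ a : (AlgSt.ofSp F).obj, G.obj.map (eqToHom (Φ.w_obj a).symm).op (Φ.obj a).sec = (spMap Φ).hom.app _ a.sec :=
    fun a => rfl
  refine ⟨mkIso (fun a => ⟨⟨eqToHom (Φ.w_obj a), ?_⟩, ⟨eqToHom (Φ.w_obj a).symm, h a⟩, ?_, ?_⟩) ?_ ?_⟩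
  · change G.obj.map _ ((spMap Φ).hom.app _ a.sec) = _
    rw [← h a]
    refine (sec_map_map G _ _ _).trans ?_
    have : eqToHom (Φ.w_obj a) ≫ eqToHom (Φ.w_obj a).symm = 𝟙 (Φ.obj a).base := by simp
    erw [this, op_id, G.obj.map_id]
    rfl
  · exact Stk.EltObj.hom_ext (by simp)
  · exact Stk.EltObj.hom_ext (by simp)
  · intro a b φ
    apply Stk.EltObj.hom_ext
    change (Φ.map φ).hom ≫ eqToHom (Φ.w_obj b) = eqToHom (Φ.w_obj a) ≫ φ.hom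
    have : (Φ.map φ).hom = eqToHom (Φ.w_obj a) ≫ φ.hom ≫ eqToHom (Φ.w_obj b).symm := map_map Φ φ
    rw [this]
    simp
  · intro a
    exact vert_of_map_eq (Φ.w_obj a) rfl

/-- `ofSpMap a` is an equivalence over the base iff `a` is an isomorphism. -/
theorem isEquivOver_ofSpMap_of_isIso (a : F ⟶ G) [IsIso a] : FibCat.IsEquivOver (AlgSt.ofSpMap a) := by
  refine ⟨AlgSt.ofSpMap (inv a), ⟨?_⟩, ⟨?_⟩⟩
  · have : BasedFunctor.comp (AlgSt.ofSpMap a) (AlgSt.ofSpMap (inv a)) = AlgSt.ofSpMap (𝟙 F) := by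
      rw [← IsIso.hom_inv_id a]
      rfl
    rw [this]
    exact Iso.refl _
  · have : BasedFunctor.comp (AlgSt.ofSpMap (inv a)) (AlgSt.ofSpMap a) = AlgSt.ofSpMap (𝟙 G) := by
      rw [← IsIso.inv_hom_id a]
      rfl
    rw [this]
    exact Iso.refl _

/-- The category of a sheaf is fibred in setoids in the strong sense: vertical morphisms between given objects are
unique. -/
theorem ofSp_hom_ext {a b : (AlgSt.ofSp F).obj} {φ ψ : a ⟶ b} (h : (AlgSt.ofSp F).p.map φ = (AlgSt.ofSp F).p.map ψ) :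
    φ = ψ := Stk.EltObj.hom_ext h

theorem ofSpMap_injective {a b : F ⟶ G} (e : AlgSt.ofSpMap a ≅ AlgSt.ofSpMap b) : a = b := by
  apply ObjectProperty.hom_ext
  apply NatTrans.ext
  funext T
  ext x
  have h := (isoApp e ⟨T.unop, x⟩).hom.map_sec
  have h2 : (isoApp e ⟨T.unop, x⟩).hom.hom = 𝟙 T.unop := (vert_isoApp e ⟨T.unop, x⟩).map_eq
  rw [h2] at h
  change G.obj.map (𝟙 _) (b.hom.app _ x) = a.hom.app _ x at h
  rw [G.obj.map_id] at h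
  exact h.symm

theorem isIso_of_isEquivOver_ofSpMap {a : F ⟶ G} (h : FibCat.IsEquivOver (AlgSt.ofSpMap a)) : IsIso a := by
  obtain ⟨Φ, ⟨e₁⟩, ⟨e₂⟩⟩ := h
  obtain ⟨i⟩ := exists_iso_spMap Φ
  refine ⟨spMap Φ, ?_, ?_⟩
  · apply ofSpMap_injective
    exact (whiskerLeftIso (AlgSt.ofSpMap a) i.symm : BasedFunctor.comp (AlgSt.ofSpMap a) (AlgSt.ofSpMap (spMap Φ)) ≅ _) ≪≫ e₁
  · apply ofSpMap_injective
    exact (whiskerRightIso i.symm (AlgSt.ofSpMap a) : BasedFunctor.comp (AlgSt.ofSpMap (spMap Φ)) (AlgSt.ofSpMap a) ≅ _) ≪≫ e₂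

end ofSp

section overCat

theorem isEquivOver_toOverCat (U : Over S) : FibCat.IsEquivOver (AlgSt.toOverCat U) :=
  ⟨AlgSt.ofOverCat U, ⟨Iso.refl _⟩, ⟨Iso.refl _⟩⟩

theorem isEquivOver_ofOverCat (U : Over S) : FibCat.IsEquivOver (AlgSt.ofOverCat U) :=
  ⟨AlgSt.toOverCat U, ⟨Iso.refl _⟩, ⟨Iso.refl _⟩⟩

theorem spMapOfOver_toOverCat (U : Over S) : AlgSt.spMapOfOver (AlgSt.toOverCat U) = 𝟙 _ := by
  apply ObjectProperty.hom_ext
  apply NatTrans.ext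
  funext T
  ext x
  change (⟨AlgSt.secHom (AlgSt.toOverCat U) ⟨T.unop, x⟩⟩ : ULift _) = x
  apply ULift.ext
  simp [AlgSt.secHom, AlgSt.toOverCat]

theorem spMapOfOver_comp_ofSpMap {F G : AlgSp.Sp S} {U : Over S} (a : F ⟶ G) (Φ : AlgSt.ofSp G ⥤ᵇ FibCat.overCat U) :
    AlgSt.spMapOfOver (BasedFunctor.comp (AlgSt.ofSpMap a) Φ) = a ≫ AlgSt.spMapOfOver Φ := by
  apply ObjectProperty.hom_ext
  apply NatTrans.ext
  funext T
  ext x
  rfl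

theorem spMapOfOver_ofSpMap_toOverCat {F : AlgSp.Sp S} {U : Over S} (a : F ⟶ (AlgSp.yon S).obj U) :
    AlgSt.spMapOfOver (BasedFunctor.comp (AlgSt.ofSpMap a) (AlgSt.toOverCat U)) = a := by
  rw [spMapOfOver_comp_ofSpMap, spMapOfOver_toOverCat, Category.comp_id]

theorem repByAlgSp_overCat (U : Over S) : AlgSt.RepByAlgSp (FibCat.overCat U) :=
  ⟨⟨(AlgSp.yon S).obj U, AlgSp.IsAlgSpace.yon_obj U⟩, AlgSt.toOverCat U, isEquivOver_toOverCat U⟩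

/-- Two representing sheaves of the same `𝒲 ⟶ (Sch/U)` differ by an isomorphism over `h_U`. -/
theorem exists_iso_of_rep {𝒲 : BasedCategory.{v₂, u₂} (Over S)} {F G : AlgSp.Sp S} (e : AlgSt.ofSp F ⥤ᵇ 𝒲)
    (e' : AlgSt.ofSp G ⥤ᵇ 𝒲) (he : FibCat.IsEquivOver e) (he' : FibCat.IsEquivOver e') :
    ∃ (i : F ≅ G), Nonempty (BasedFunctor.comp (AlgSt.ofSpMap i.hom) e' ≅ e) := by
  obtain ⟨k, hk, ⟨k₁⟩, ⟨k₂⟩⟩ := IsEquivOver.exists_inv he'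
  obtain ⟨j⟩ := exists_iso_spMap (BasedFunctor.comp e k)
  have h1 : FibCat.IsEquivOver (AlgSt.ofSpMap (spMap (BasedFunctor.comp e k))) :=
    IsEquivOver.of_iso (IsEquivOver.comp he hk) j
  have := isIso_of_isEquivOver_ofSpMap h1
  refine ⟨asIso (spMap (BasedFunctor.comp e k)), ⟨?_⟩⟩
  exact whiskerRightIso j.symm e' ≪≫ (whiskerLeftIso e k₂ : BasedFunctor.comp e (BasedFunctor.comp k e') ≅ _)

/-- For `P` respecting isomorphisms, every representation of `𝒲 ⟶ (Sch/U)` has `P` as soon as one has. -/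
theorem RepOver.of_rep {P : MorphismProperty (AlgSp.Sp S)} [P.RespectsIso]
    {𝒲 : BasedCategory.{v₂, u₂} (Over S)} {U : Over S} {w : 𝒲 ⥤ᵇ FibCat.overCat U} (h : RepOver P w)
    {G : AlgSp.Sp S} (e' : AlgSt.ofSp G ⥤ᵇ 𝒲) (he' : FibCat.IsEquivOver e') :
    AlgSp.IsAlgSpace G ∧ P (AlgSt.spMapOfOver (BasedFunctor.comp e' w)) := by
  obtain ⟨F, e, he, hP⟩ := h
  obtain ⟨i, ⟨j⟩⟩ := exists_iso_of_rep e e' he he'
  refine ⟨F.property.of_iso i, ?_⟩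
  have h1 : AlgSt.spMapOfOver (BasedFunctor.comp e w) = i.hom ≫ AlgSt.spMapOfOver (BasedFunctor.comp e' w) := by
    rw [← spMapOfOver_comp_ofSpMap]
    exact spMapOfOver_eq_of_iso (whiskerRightIso j.symm w)
  rw [h1] at hP
  exact (MorphismProperty.cancel_left_of_respectsIso P i.hom _).1 hP

end overCat

end K735.Rep
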