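import Groth.Agent.AlgSt.K735.Rep

/-!
# Categories fibred in setoids (helper735)

* `K735.Setoid.isFibSetoid_iff`, `K735.Setoid.isFibSetoid_of_isEquivOver`, `isFibSetoid_ofSp`, `isFibSetoid_of_repByAlgSp`.
* `K735.Setoid.isEquivOver_inertiaToBase_iff`: the inertia is trivial iff fibred in setoids.
-/

set_option autoImplicit false
set_option backward.isDefEq.respectTransparency false
set_option backward.isDefEq.respectTransparency.types false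

universe v₉ u₉ v₈ u₈ v₇ u₇ v₆ u₆ v₅ u₅ v₄ u₄ v₃ u₃ v₂ u₂ v u

open CategoryTheory CategoryTheory.Limits AlgebraicGeometry Opposite K735.Fib K735.Fp K735.Rep

namespace K735.Setoid

section

variable {C : Type u} [Category.{v} C]

theorem isFibSetoid_iff {𝒳 : Type u₂} [Category.{v₂} 𝒳] {p : 𝒳 ⥤ C} :
    FibCat.IsFibSetoid p ↔ FibCat.IsFibGrpd p ∧ ∀ {a b : 𝒳} (φ ψ : a ⟶ b), Vert p φ → Vert p ψ → φ = ψ := by
  constructor
  · rintro ⟨h1, h2⟩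
    refine ⟨h1, fun {a b} φ ψ hφ hψ => ?_⟩
    have := (h2 (p.obj a) ⟨a, rfl⟩ ⟨b, hφ.eq⟩).elim ⟨φ, hφ⟩ ⟨ψ, hψ⟩
    exact congrArg Subtype.val this
  · rintro ⟨h1, h2⟩
    refine ⟨h1, fun U a b => ⟨fun φ ψ => Subtype.ext ?_⟩⟩
    exact h2 _ _ (vert_of_isHomLift φ.2) (vert_of_isHomLift ψ.2)

/-- In a category fibred in setoids morphisms are determined by their image in the base. -/
theorem hom_ext_of_isFibSetoid {𝒳 : Type u₂} [Category.{v₂} 𝒳] {p : 𝒳 ⥤ C} (h : FibCat.IsFibSetoid p)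
    {a b : 𝒳} (φ ψ : a ⟶ b) (e : p.map φ = p.map ψ) : φ = ψ := by
  obtain ⟨h1, h2⟩ := isFibSetoid_iff.1 h
  obtain ⟨χ, h3, h4⟩ := exists_hom h1 φ ψ (𝟙 _) (by simp [e])
  have : χ = 𝟙 a := h2 χ (𝟙 a) (vert_of_map_eq rfl (by simpa using h3)) (vert_id a)
  rw [← h4, this, Category.id_comp]

theorem isFibSetoid_of_hom_ext {𝒳 : Type u₂} [Category.{v₂} 𝒳] {p : 𝒳 ⥤ C} (h : FibCat.IsFibGrpd p)
    (h' : ∀ {a b : 𝒳} (φ ψ : a ⟶ b), p.map φ = p.map ψ → φ = ψ) : FibCat.IsFibSetoid p :=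
  isFibSetoid_iff.2 ⟨h, fun φ ψ hφ hψ => h' φ ψ (hφ.map_eq.trans hψ.map_eq.symm)⟩

variable {𝒳 : BasedCategory.{v₂, u₂} C} {𝒴 : BasedCategory.{v₃, u₃} C}

/-- A faithful functor to a category fibred in setoids has source fibred in setoids. -/
theorem isFibSetoid_of_faithful {F : 𝒳 ⥤ᵇ 𝒴} (h𝒳 : FibCat.IsFibGrpd 𝒳.p) (h𝒴 : FibCat.IsFibSetoid 𝒴.p)
    (hF : ∀ {a b : 𝒳.obj} (φ ψ : a ⟶ b), F.map φ = F.map ψ → φ = ψ) : FibCat.IsFibSetoid 𝒳.p :=
  isFibSetoid_of_hom_ext h𝒳 (fun φ ψ h => hF φ ψ (hom_ext_of_isFibSetoid h𝒴 _ _ (by rw [map_map, map_map, h])))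

theorem isFibSetoid_of_isEquivOver {F : 𝒳 ⥤ᵇ 𝒴} (hF : FibCat.IsEquivOver F) (h𝒳 : FibCat.IsFibSetoid 𝒳.p) :
    FibCat.IsFibSetoid 𝒴.p := by
  obtain ⟨G, hG, -, -⟩ := IsEquivOver.exists_inv hF
  exact isFibSetoid_of_faithful (isFibGrpd_of_isEquivOver hF h𝒳.1) h𝒳 (fun φ ψ => IsEquivOver.faithful hG)

/-- The inertia of a category fibred in groupoids is fibred in groupoids. -/
theorem isFibGrpd_inertia (h𝒳 : FibCat.IsFibGrpd 𝒳.p) (h𝒴 : FibCat.IsFibGrpd 𝒴.p) (F : 𝒳 ⥤ᵇ 𝒴) :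
    FibCat.IsFibGrpd (FibCat.inertia F).p := by
  refine isFibGrpd_mk ?_ ?_ ?_
  · intro x V f
    obtain ⟨y, φ, e, hφ⟩ := exists_lift h𝒳 (x := x.pt) f
    have hv : Vert 𝒳.p x.aut.hom := by
      rw [← vert_map_iff F]
      rw [x.map_aut]
      exact vert_id _
    have hv' : Vert 𝒳.p x.aut.inv := Vert.iso_inv hv
    obtain ⟨α, h1, h2⟩ := exists_hom h𝒳 φ (φ ≫ x.aut.hom) (𝟙 _) (by
      rw [Functor.map_comp, hv.map_eq]; simp)
    obtain ⟨β, h3, h4⟩ := exists_hom h𝒳 φ (φ ≫ x.aut.inv) (𝟙 _) (by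
      rw [Functor.map_comp, hv'.map_eq]; simp)
    let a : y ≅ y :=
      { hom := α
        inv := β
        hom_inv_id := by
          apply hom_ext' h𝒳 φ
          · rw [Functor.map_comp, h1, h3]; simp
          · rw [Category.assoc, h4, ← Category.assoc, h2, Category.assoc, Iso.hom_inv_id]; simp
        inv_hom_id := by
          apply hom_ext' h𝒳 φ
          · rw [Functor.map_comp, h1, h3]; simp
          · rw [Category.assoc, h2, ← Category.assoc, h4, Category.assoc, Iso.inv_hom_id]; simp }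
    refine ⟨⟨y, a, ?_⟩, ⟨φ, h2⟩, e, hφ⟩
    apply hom_ext' h𝒴 (F.map φ)
    · rw [map_map]
      change _ ≫ 𝒳.p.map α ≫ _ = _
      rw [h1]
      simp
    · change F.map α ≫ _ = _
      rw [← F.map_comp, h2, F.map_comp, x.map_aut, Category.comp_id, Category.id_comp]
  · intro x y z φ ψ g w
    obtain ⟨χ, h1, h2⟩ := exists_hom h𝒳 φ.hom ψ.hom g w
    have hvy : Vert 𝒳.p y.aut.hom := by
      rw [← vert_map_iff F, y.map_aut]
      exact vert_id _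
    have hvz : Vert 𝒳.p z.aut.hom := by
      rw [← vert_map_iff F, z.map_aut]
      exact vert_id _
    refine ⟨⟨χ, ?_⟩, h1, FibCat.InertiaObj.hom_ext h2⟩
    apply hom_ext' h𝒳 φ.hom
    · rw [Functor.map_comp, Functor.map_comp, hvy.map_eq, hvz.map_eq]
      simp
    · rw [Category.assoc, Category.assoc, φ.comm, h2, ← Category.assoc, h2, ψ.comm]
  · intro x y z φ χ χ' h1 h2
    exact FibCat.InertiaObj.hom_ext (hom_ext' h𝒳 φ.hom h1 (congrArg (fun t => t.hom) h2))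

/-- The inertia of `𝒳` over the base is trivial iff `𝒳` is fibred in setoids. -/
theorem isEquivOver_inertiaToBase_iff (h𝒳 : FibCat.IsFibGrpd 𝒳.p) :
    FibCat.IsEquivOver (FibCat.inertiaToBase (FibCat.toSelf 𝒳)) ↔ FibCat.IsFibSetoid 𝒳.p := by
  have hv : ∀ x : (FibCat.inertia (FibCat.toSelf 𝒳)).obj, Vert 𝒳.p x.aut.hom := fun x => by
    rw [← vert_map_iff (FibCat.toSelf 𝒳), x.map_aut]
    exact vert_id _
  constructor
  · intro h
    refine isFibSetoid_iff.2 ⟨h𝒳, fun {a b} φ ψ hφ hψ => ?_⟩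
    have := hψ.isIso h𝒳
    have := hφ.isIso h𝒳
    -- the automorphism `φ ψ⁻¹` of `a`
    let α : a ≅ a := asIso φ ≪≫ (asIso ψ).symm
    have hα : Vert 𝒳.p α.hom := hφ.comp hψ.inv
    let x₁ : (FibCat.inertia (FibCat.toSelf 𝒳)).obj := ⟨a, α, by
      change 𝒳.p.map α.hom = 𝟙 _
      rw [hα.map_eq]; rfl⟩
    let x₀ : (FibCat.inertia (FibCat.toSelf 𝒳)).obj := ⟨a, Iso.refl a, by
      change 𝒳.p.map (𝟙 a) = 𝟙 _
      simp⟩
    obtain ⟨θ, hθ⟩ := IsEquivOver.full h (a := x₀) (b := x₁) (𝟙 a)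
    have h1 := θ.comm
    change θ.hom = 𝟙 a at hθ
    rw [hθ] at h1
    change 𝟙 a ≫ 𝟙 a = 𝟙 a ≫ (φ ≫ inv ψ) at h1
    rw [Category.id_comp, Category.id_comp] at h1
    rw [← cancel_mono (inv ψ), ← h1, IsIso.hom_inv_id]
  · intro h
    obtain ⟨-, h2⟩ := isFibSetoid_iff.1 h
    refine isEquivOver_of ?_ ?_ ?_
    · intro x y φ ψ e
      exact FibCat.InertiaObj.hom_ext e
    · intro x y φ
      refine ⟨⟨φ, ?_⟩, rfl⟩
      have h3 : x.aut.hom = 𝟙 _ := h2 _ _ (hv x) (vert_id _)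
      have h4 : y.aut.hom = 𝟙 _ := h2 _ _ (hv y) (vert_id _)
      rw [h3, h4, Category.id_comp]
      exact (Category.comp_id _).symm
    · intro y
      exact ⟨⟨y, Iso.refl y, by change 𝒳.p.map (𝟙 y) = 𝟙 _; simp⟩, Iso.refl y, vert_id y⟩

end

section

variable {S : Scheme.{u}}

theorem isFibSetoid_ofSp (F : AlgSp.Sp S) : FibCat.IsFibSetoid (AlgSt.ofSp F).p :=
  isFibSetoid_of_hom_ext (isFibGrpd_ofSp F) (fun _ _ h => ofSp_hom_ext h)

theorem isFibSetoid_of_repByAlgSp {𝒳 : BasedCategory.{v₂, u₂} (Over S)} (hr : AlgSt.RepByAlgSp 𝒳) :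
    FibCat.IsFibSetoid 𝒳.p := by
  obtain ⟨F, e, he⟩ := hr
  exact isFibSetoid_of_isEquivOver he (isFibSetoid_ofSp F.obj)

theorem isFibGrpd_of_repByAlgSp {𝒳 : BasedCategory.{v₂, u₂} (Over S)} (hr : AlgSt.RepByAlgSp 𝒳) :
    FibCat.IsFibGrpd 𝒳.p := (isFibSetoid_of_repByAlgSp hr).1

end

end K735.Setoid
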