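import Groth.Agent.AlgSt.K735.Setoid
import Groth.Agent.AlgSp.K609.Points

/-!
# 2-fibre products of categories of sheaves and of schemes (helper735)

* `K735.SpFp.theta`: for a pullback square of sheaves, `ofSp P ⟶ fp (ofSpMap g) (ofSpMap a)` is an equivalence.
* `K735.SpFp.chart a : (Sch/U) ⟶ ofSp F` for `a : h_U ⟶ F`, `exists_iso_chart`: every functor is of this form.
* `K735.SpFp.repOver_chart_iff`, `repByAlgSpWith_ofSpMap_iff`.
-/

set_option autoImplicit false
set_option backward.isDefEq.respectTransparency false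
set_option backward.isDefEq.respectTransparency.types false

universe v₉ u₉ v₈ u₈ v₇ u₇ v₆ u₆ v₅ u₅ v₄ u₄ v₃ u₃ v₂ u₂ v u

open CategoryTheory CategoryTheory.Limits AlgebraicGeometry Opposite K735.Fib K735.Fp K735.Rep K735.Setoid

namespace K735.SpFp

variable {S : Scheme.{u}}

section

variable {P A F G : AlgSp.Sp S} {fst : P ⟶ A} {snd : P ⟶ F} {g : A ⟶ G} {a : F ⟶ G}

/-- The comparison functor of a commutative square of sheaves. -/
noncomputable def theta (w : fst ≫ g = snd ≫ a) :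
    AlgSt.ofSp P ⥤ᵇ FibCat.fp (AlgSt.ofSpMap g) (AlgSt.ofSpMap a) :=
  FibCat.fpLift (AlgSt.ofSpMap fst) (AlgSt.ofSpMap snd)
    (eqToIso (congrArg (fun t : P ⟶ G => AlgSt.ofSpMap t) w :
      AlgSt.ofSpMap (fst ≫ g) = AlgSt.ofSpMap (snd ≫ a)))

theorem theta_fst (w : fst ≫ g = snd ≫ a) :
    BasedFunctor.comp (theta w) (FibCat.fpFst _ _) = AlgSt.ofSpMap fst := rfl

theorem theta_snd (w : fst ≫ g = snd ≫ a) :
    BasedFunctor.comp (theta w) (FibCat.fpSnd _ _) = AlgSt.ofSpMap snd := rfl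

/-- A morphism of the category of a sheaf is determined by a morphism of the base. -/
theorem ofSp_map_eq {x y : (AlgSt.ofSp F).obj} (φ : x ⟶ y) : F.obj.map φ.hom.op y.sec = x.sec := φ.map_sec

theorem isEquivOver_theta (sq : IsPullback fst snd g a) : FibCat.IsEquivOver (theta sq.w) := by
  refine isEquivOver_of ?_ ?_ ?_
  · intro x y φ ψ h
    apply ofSp_hom_ext
    have h1 := congrArg (fun t => t.hom.fst.hom) h
    exact h1
  · intro x y φ
    have h1 : F.obj.map φ.hom.snd.hom.op (snd.hom.app _ y.sec) = snd.hom.app _ x.sec := φ.hom.snd.map_sec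
    have h2 : A.obj.map φ.hom.fst.hom.op (fst.hom.app _ y.sec) = fst.hom.app _ x.sec := φ.hom.fst.map_sec
    have h3 : φ.hom.snd.hom = φ.hom.fst.hom := by
      have := fp_map_snd φ
      change φ.hom.snd.hom = eqToHom _ ≫ φ.hom.fst.hom ≫ eqToHom _ at this
      rw [this]
      erw [eqToHom_refl, eqToHom_refl, Category.comp_id, Category.id_comp]
    rw [h3] at h1
    refine ⟨⟨φ.hom.fst.hom, ?_⟩, ?_⟩
    · apply K609.Points.section_ext_of_isPullback sq
      · rw [NatTrans.naturality_apply]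
        exact h2
      · rw [NatTrans.naturality_apply]
        exact h1
    · refine fp_hom_ext (Stk.EltObj.hom_ext rfl) (Stk.EltObj.hom_ext h3.symm)
  · intro z
    have e : z.obj.snd.base = z.obj.fst.base := fp_snd_eq z
    let s' : F.obj.obj (op z.obj.fst.base) := F.obj.map (eqToHom e.symm).op z.obj.snd.sec
    have hiso := z.obj.iso.hom.map_sec
    change G.obj.map z.obj.iso.hom.hom.op (a.hom.app _ z.obj.snd.sec) = g.hom.app _ z.obj.fst.sec at hiso
    have hv : z.obj.iso.hom.hom = eqToHom e.symm := (fp_vert z).map_eq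
    rw [hv] at hiso
    obtain ⟨p, hp1, hp2⟩ := K609.Points.exists_section_of_isPullback sq z.obj.fst.base z.obj.fst.sec s' (by
      rw [← hiso, ← NatTrans.naturality_apply]
      rfl)
    refine ⟨⟨z.obj.fst.base, p⟩, isoFp ⟨⟨𝟙 _, ?_⟩, ⟨𝟙 _, ?_⟩, ?_, ?_⟩ ⟨⟨eqToHom e.symm, ?_⟩, ⟨eqToHom e, ?_⟩, ?_, ?_⟩ ?_, ?_⟩
    · change A.obj.map (𝟙 _) z.obj.fst.sec = fst.hom.app _ p
      rw [hp1, A.obj.map_id]
      rfl
    · change A.obj.map (𝟙 _) (fst.hom.app _ p) = z.obj.fst.sec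
      rw [hp1, A.obj.map_id]
      rfl
    · exact Stk.EltObj.hom_ext (Category.id_comp _)
    · exact Stk.EltObj.hom_ext (Category.id_comp _)
    · exact hp2.symm
    · change F.obj.map (eqToHom e).op (snd.hom.app _ p) = z.obj.snd.sec
      rw [hp2]
      refine (sec_map_map F _ _ _).trans ?_
      rw [eqToHom_trans, eqToHom_refl, op_id, F.obj.map_id]
      rfl
    · refine Stk.EltObj.hom_ext ?_
      change eqToHom e.symm ≫ eqToHom e = 𝟙 _
      simp
    · refine Stk.EltObj.hom_ext ?_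
      change eqToHom e ≫ eqToHom e.symm = 𝟙 _
      simp
    · apply ofSp_hom_ext
      rw [Functor.map_comp, Functor.map_comp, (fp_vert z).map_eq, (fp_vert _).map_eq]
      change 𝟙 _ ≫ _ = _ ≫ eqToHom e.symm
      rw [Category.id_comp]
      exact (eqToHom_trans _ _).symm
    · rw [vert_fp_iff]
      exact vert_of_map_eq rfl rfl

end

/-! ### Charts -/

section Chart

variable {F G : AlgSp.Sp S} {U : Over S}

/-- The functor `(Sch/U) ⟶ ofSp F` attached to `a : h_U ⟶ F`. -/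
noncomputable def chart (a : (AlgSp.yon S).obj U ⟶ F) : FibCat.overCat U ⥤ᵇ AlgSt.ofSp F :=
  BasedFunctor.comp (AlgSt.ofOverCat U) (AlgSt.ofSpMap a)

/-- The map of sheaves attached to a functor `(Sch/U) ⟶ ofSp F`. -/
noncomputable def unchart (x : FibCat.overCat U ⥤ᵇ AlgSt.ofSp F) : (AlgSp.yon S).obj U ⟶ F :=
  spMap (BasedFunctor.comp (AlgSt.toOverCat U) x)

theorem exists_iso_chart (x : FibCat.overCat U ⥤ᵇ AlgSt.ofSp F) : Nonempty (x ≅ chart (unchart x)) := by
  obtain ⟨e⟩ := exists_iso_spMap (BasedFunctor.comp (AlgSt.toOverCat U) x)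
  exact ⟨(whiskerLeftIso (AlgSt.ofOverCat U) e :
    BasedFunctor.comp (AlgSt.ofOverCat U) (BasedFunctor.comp (AlgSt.toOverCat U) x) ≅ _)⟩

theorem chart_comp (a : (AlgSp.yon S).obj U ⟶ F) (b : F ⟶ G) :
    BasedFunctor.comp (chart a) (AlgSt.ofSpMap b) = chart (a ≫ b) := rfl

/-- The represented 2-fibre product of a chart with a map of sheaves. -/
theorem exists_theta {P : AlgSp.Sp S} {fst : P ⟶ (AlgSp.yon S).obj U} {snd : P ⟶ F}
    {g : (AlgSp.yon S).obj U ⟶ G} {a : F ⟶ G} (sq : IsPullback fst snd g a) :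
    ∃ (e : AlgSt.ofSp P ⥤ᵇ FibCat.fp (chart g) (AlgSt.ofSpMap a)), FibCat.IsEquivOver e ∧
      AlgSt.spMapOfOver (BasedFunctor.comp e (FibCat.fpFst _ _)) = fst ∧
      Nonempty (BasedFunctor.comp e (FibCat.fpSnd _ _) ≅ AlgSt.ofSpMap snd) := by
  refine ⟨BasedFunctor.comp (theta sq.w) (fpMap (AlgSt.ofSpMap g) (AlgSt.ofSpMap a) (chart g) (AlgSt.ofSpMap a)
    (AlgSt.toOverCat U) (BasedFunctor.id _) (BasedFunctor.id _) (Iso.refl _) (Iso.refl _)),
    IsEquivOver.comp (isEquivOver_theta sq) (isEquivOver_fpMap' _ _ _ _ _ _ _ _ _ (isEquivOver_toOverCat U)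
      isEquivOver_id isEquivOver_id), ?_, ⟨Iso.refl _⟩⟩
  exact spMapOfOver_ofSpMap_toOverCat fst

/-- `RepByAlgSpWith` on a map of sheaves, in terms of pullback squares. -/
theorem repByAlgSpWith_ofSpMap_iff (Q : MorphismProperty (AlgSp.Sp S)) [Q.RespectsIso] (a : F ⟶ G) :
    AlgSt.RepByAlgSpWith Q (AlgSt.ofSpMap a) ↔ ∀ ⦃U : Over S⦄ ⦃P : AlgSp.Sp S⦄ (g : (AlgSp.yon S).obj U ⟶ G)
      (fst : P ⟶ (AlgSp.yon S).obj U) (snd : P ⟶ F), IsPullback fst snd g a → AlgSp.IsAlgSpace P ∧ Q fst := by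
  constructor
  · intro h U P g fst snd sq
    obtain ⟨e, he, h1, -⟩ := exists_theta sq
    have := RepOver.of_rep (h U (chart g)) e he
    rwa [h1] at this
  · intro h U y
    obtain ⟨i⟩ := exists_iso_chart y
    have sq := IsPullback.of_hasPullback (unchart y) a
    obtain ⟨e, he, h1, -⟩ := exists_theta sq
    obtain ⟨hP, hQ⟩ := h (unchart y) _ _ sq
    have h2 : RepOver Q (FibCat.fpFst (chart (unchart y)) (AlgSt.ofSpMap a)) :=
      ⟨⟨_, hP⟩, e, he, by rwa [h1]⟩
    exact RepOver.of_equiv' h2 (fpMap y (AlgSt.ofSpMap a) (chart (unchart y)) (AlgSt.ofSpMap a) (BasedFunctor.id _)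
      (BasedFunctor.id _) (BasedFunctor.id _) i.symm (Iso.refl _))
      (isEquivOver_fpMap' _ _ _ _ _ _ _ _ _ isEquivOver_id isEquivOver_id isEquivOver_id) (Iso.refl _)

end Chart

end K735.SpFp
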