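import Groth.Agent.AlgSt.K735.PtsSp
import Groth.Agent.AlgSp.K597.LocP

/-!
# The topology of the points of a stack (helper735)

* `K735.Top.exists_rep_fp`, `exists_cover`: points of `(Sch/U) ×_𝒳 𝒱` through a representing space and an etale chart of it.
* `K735.Top.ChartCont 𝒳`: `ofChart x` is continuous for every scheme `U` and every `x : (Sch/U) ⟶ 𝒳`;
  `chartCont_of_atlas` (smooth surjective atlas), `chartCont_ofSp`, `chartCont_of_isAlgStack`.
* `K735.Top.continuous_map`, `isOpenMap_map_of_flat_lfp`, `isOpenMap_ofChart`.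
* `K735.Top.ptsHomeo F : AlgSt.Points (ofSp F) ≃ₜ AlgSp.Points F` for `F` an algebraic space.
* `K735.Top.mapHomeo`: equivalences over the base induce homeomorphisms on points.
-/

set_option autoImplicit false
set_option backward.isDefEq.respectTransparency false
set_option backward.isDefEq.respectTransparency.types false

universe v₉ u₉ v₈ u₈ v₇ u₇ v₆ u₆ v₅ u₅ v₄ u₄ v₃ u₃ v₂ u₂ v u

open CategoryTheory CategoryTheory.Limits AlgebraicGeometry Opposite K735.Fib K735.Fp K735.Rep K735.Setoid K735.SpFp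
  K735.Pts K735.PtsSp

namespace K735.Top

variable {S : Scheme.{u}}

/-- `LocP P` respects isomorphisms. -/
theorem locP_respectsIso (P : MorphismProperty Scheme.{u}) : (AlgSp.LocP (S := S) P).RespectsIso := by
  refine MorphismProperty.RespectsIso.mk _ ?_ ?_
  · intro F F' G i f hf U V a b h ha hb comm
    exact hf (a ≫ i.hom) b h (MorphismProperty.RespectsIso.postcomp _ _ _ ha) hb (by rw [Category.assoc, comm])
  · intro F G G' i f hf U V a b h ha hb comm
    refine hf a (b ≫ i.inv) h ha (MorphismProperty.RespectsIso.postcomp _ _ _ hb) ?_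
    rw [← Category.assoc, ← comm]
    simp

theorem isSurjectiveMor_respectsIso : (AlgSp.IsSurjectiveMor (S := S)).RespectsIso := by
  refine MorphismProperty.RespectsIso.mk _ ?_ ?_
  · intro F F' G i f hf x
    obtain ⟨y, hy⟩ := hf x
    refine ⟨AlgSp.Points.map i.inv y, ?_⟩
    rw [AlgSp.Points.map_comp, ← AlgSp.Points.map_comp i.inv i.hom, i.inv_hom_id, AlgSp.Points.map_id]
    exact hy
  · intro F G G' i f hf x
    obtain ⟨y, hy⟩ := hf (AlgSp.Points.map i.inv x)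
    refine ⟨y, ?_⟩
    rw [AlgSp.Points.map_comp, hy, ← AlgSp.Points.map_comp i.inv i.hom, i.inv_hom_id, AlgSp.Points.map_id]

section

variable {𝒳 : BasedCategory.{v₂, u₂} (Over S)} {𝒴 : BasedCategory.{v₃, u₃} (Over S)}
  {𝒱 : BasedCategory.{v₄, u₄} (Over S)}

/-- Combining two properties of a morphism representable by algebraic spaces. -/
theorem repByAlgSpWith_inf {P Q : MorphismProperty (AlgSp.Sp S)} [Q.RespectsIso] {f : 𝒳 ⥤ᵇ 𝒴}
    (h : AlgSt.RepByAlgSpWith P f) (h' : AlgSt.RepByAlgSpWith Q f) : AlgSt.RepByAlgSpWith (P ⊓ Q) f := by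
  intro U y
  obtain ⟨F, e, he, hP⟩ := h U y
  exact ⟨F, e, he, hP, (RepOver.of_rep (P := Q) (h' U y) e he).2⟩

theorem repByAlgSpWith_of_rep {P : MorphismProperty (AlgSp.Sp S)} [P.RespectsIso] {f : 𝒳 ⥤ᵇ 𝒴}
    (h : AlgSt.RepByAlgSp1 f) (h' : ∀ (U : Over S) (y : FibCat.overCat U ⥤ᵇ 𝒴) (F : AlgSp.Space S)
      (e : AlgSt.ofSp F.obj ⥤ᵇ FibCat.fp y f), FibCat.IsEquivOver e →
        P (AlgSt.spMapOfOver (BasedFunctor.comp e (FibCat.fpFst y f)))) : AlgSt.RepByAlgSpWith P f := by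
  intro U y
  obtain ⟨F, e, he⟩ := h U y
  exact ⟨F, e, he, h' U y F e he⟩

/-- The points of a represented 2-fibre product `(Sch/U) ×_𝒳 𝒱`. -/
theorem exists_rep_fp (h𝒳 : FibCat.IsFibGrpd 𝒳.p) (h𝒱 : FibCat.IsFibGrpd 𝒱.p) {v : 𝒱 ⥤ᵇ 𝒳} {U : Over S}
    (y : FibCat.overCat U ⥤ᵇ 𝒳) {F : AlgSp.Sp S} (e : AlgSt.ofSp F ⥤ᵇ FibCat.fp y v) (he : FibCat.IsEquivOver e)
    (u : ↥U.left) (z : AlgSt.Points 𝒱) :
    AlgSt.Points.ofChart y u = AlgSt.Points.map v z ↔
      ∃ ξ : AlgSp.Points F, AlgSp.Points.map (AlgSt.spMapOfOver (BasedFunctor.comp e (FibCat.fpFst y v))) ξ =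
        AlgSp.Points.ofScheme U u ∧
        AlgSt.Points.map (BasedFunctor.comp e (FibCat.fpSnd y v)) ((ptsEquiv F).symm ξ) = z := by
  have key : ∀ w : AlgSt.Points (AlgSt.ofSp F),
      AlgSt.Points.map (BasedFunctor.comp e (FibCat.fpFst y v)) w = AlgSt.Points.ofChart (BasedFunctor.id _) u ↔
      AlgSp.Points.map (AlgSt.spMapOfOver (BasedFunctor.comp e (FibCat.fpFst y v))) (ptsEquiv F w) =
        AlgSp.Points.ofScheme U u := by
    intro w
    obtain ⟨i⟩ := exists_iso_spMapOfOver (BasedFunctor.comp e (FibCat.fpFst y v))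
    rw [map_congr i, map_comp, ← ptsEquiv_map]
    have h1 : AlgSt.Points.map (AlgSt.toOverCat U) ((ptsEquiv _).symm (AlgSp.Points.ofScheme U u)) =
        AlgSt.Points.ofChart (BasedFunctor.id _) u := by
      rw [← show ptsEquiv _ (AlgSt.Points.ofChart (chart (𝟙 _)) u) = AlgSp.Points.ofScheme U u from
        ptsEquiv_ofChart (𝟙 _) u, Equiv.symm_apply_apply]
      rfl
    rw [← h1, (map_bijective_of_isEquivOver (isEquivOver_toOverCat U)).1.eq_iff, Equiv.eq_symm_apply]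
  constructor
  · intro h
    obtain ⟨w, h1, h2⟩ := exists_fp h𝒱 (isFibGrpd_overCat U) h𝒳 y v (AlgSt.Points.ofChart (BasedFunctor.id _) u) z h
    obtain ⟨ξ, rfl⟩ := (map_bijective_of_isEquivOver he).2 w
    refine ⟨ptsEquiv F ξ, ?_, ?_⟩
    · rw [← key, map_comp]
      exact h1
    · rw [Equiv.symm_apply_apply, map_comp]
      exact h2
  · rintro ⟨ξ, h1, h2⟩
    obtain ⟨w, rfl⟩ := (ptsEquiv F).surjective ξ
    rw [← key] at h1
    rw [Equiv.symm_apply_apply] at h2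
    rw [ofChart_eq_map, ← h1, ← h2, ← map_comp, ← map_comp]
    exact map_congr (whiskerLeftIso e (FibCat.fpIso y v)) w

/-- The preimage under a scheme chart of the image of a set of points. -/
theorem preimage_image_map (h𝒳 : FibCat.IsFibGrpd 𝒳.p) (h𝒱 : FibCat.IsFibGrpd 𝒱.p) {v : 𝒱 ⥤ᵇ 𝒳} {U : Over S}
    (y : FibCat.overCat U ⥤ᵇ 𝒳) {F : AlgSp.Sp S} (e : AlgSt.ofSp F ⥤ᵇ FibCat.fp y v) (he : FibCat.IsEquivOver e)
    (D : Set (AlgSt.Points 𝒱)) :
    AlgSt.Points.ofChart y ⁻¹' (AlgSt.Points.map v '' D) = AlgSp.Points.ofScheme U ⁻¹'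
      (AlgSp.Points.map (AlgSt.spMapOfOver (BasedFunctor.comp e (FibCat.fpFst y v))) ''
        ((fun ξ => AlgSt.Points.map (BasedFunctor.comp e (FibCat.fpSnd y v)) ((ptsEquiv F).symm ξ)) ⁻¹' D)) := by
  ext u
  simp only [Set.mem_preimage, Set.mem_image]
  constructor
  · rintro ⟨z, hz, h⟩
    obtain ⟨ξ, h1, h2⟩ := (exists_rep_fp h𝒳 h𝒱 y e he u z).1 h.symm
    exact ⟨ξ, by rwa [h2], h1⟩
  · rintro ⟨ξ, h1, h2⟩
    exact ⟨_, h1, ((exists_rep_fp h𝒳 h𝒱 y e he u _).2 ⟨ξ, h2, rfl⟩).symm⟩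

/-- Sets of points of the second factor, through a represented fibre product. -/
theorem mem_preimage_iff (h𝒳 : FibCat.IsFibGrpd 𝒳.p) (h𝒱 : FibCat.IsFibGrpd 𝒱.p) {v : 𝒱 ⥤ᵇ 𝒳} {U : Over S}
    (y : FibCat.overCat U ⥤ᵇ 𝒳) {F : AlgSp.Sp S} (e : AlgSt.ofSp F ⥤ᵇ FibCat.fp y v) (he : FibCat.IsEquivOver e)
    (W : Set (AlgSt.Points 𝒳)) :
    (fun ξ => AlgSt.Points.map (BasedFunctor.comp e (FibCat.fpSnd y v)) ((ptsEquiv F).symm ξ)) ⁻¹'
        (AlgSt.Points.map v ⁻¹' W) =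
      AlgSp.Points.map (AlgSt.spMapOfOver (BasedFunctor.comp e (FibCat.fpFst y v))) ⁻¹'
        (AlgSp.Points.ofScheme U '' (AlgSt.Points.ofChart y ⁻¹' W)) := by
  ext ξ
  obtain ⟨u, hu⟩ := (AlgSp.Points.schemeEquiv U).surjective
    (AlgSp.Points.map (AlgSt.spMapOfOver (BasedFunctor.comp e (FibCat.fpFst y v))) ξ)
  change AlgSp.Points.ofScheme U u = _ at hu
  have h1 := (exists_rep_fp h𝒳 h𝒱 y e he u _).2 ⟨ξ, hu.symm, rfl⟩
  simp only [Set.mem_preimage, Set.mem_image]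
  rw [← h1, ← hu]
  constructor
  · intro h
    exact ⟨u, h, rfl⟩
  · rintro ⟨u', h, h'⟩
    rwa [(AlgSp.Points.schemeEquiv U).injective h'] at h

end

/-! ### Etale charts of algebraic spaces as smooth charts of their categories -/

section Chart

variable {F G : AlgSp.Sp S}

theorem repByAlgSpWith_ofSpMap_of_repWith {P : MorphismProperty Scheme.{u}} {Q : MorphismProperty (AlgSp.Sp S)}
    [Q.RespectsIso] (hPQ : ∀ ⦃A B : AlgSp.Sp S⦄ (f : A ⟶ B), AlgSp.RepWith P f → Q f) {a : F ⟶ G}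
    (ha : AlgSp.RepWith P a) : AlgSt.RepByAlgSpWith Q (AlgSt.ofSpMap a) := by
  rw [repByAlgSpWith_ofSpMap_iff]
  intro U A g fst snd sq
  obtain ⟨V, s, t, sq'⟩ := ha.1 g
  let i : (AlgSp.yon S).obj V ≅ A := IsPullback.isoIsPullback _ _ sq'.flip sq
  refine ⟨(AlgSp.IsAlgSpace.yon_obj V).of_iso i, hPQ _ ?_⟩
  exact K597.repWith_bc' P sq ha

theorem repByAlgSpWith_chart_iff {Q : MorphismProperty (AlgSp.Sp S)} {U : Over S}
    (a : (AlgSp.yon S).obj U ⟶ F) :
    AlgSt.RepByAlgSpWith Q (chart a) ↔ AlgSt.RepByAlgSpWith Q (AlgSt.ofSpMap a) :=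
  (repByAlgSpWith_iff_of_sq Q (AlgSt.ofSpMap a) (chart a) (AlgSt.ofOverCat U) (BasedFunctor.id _)
    (isEquivOver_ofOverCat U) isEquivOver_id (Iso.refl _)).symm

theorem repByAlgSpWith_chart {P : MorphismProperty Scheme.{u}}
    (hpre : ∀ ⦃A B C : Scheme.{u}⦄ (e : A ⟶ B) (f : B ⟶ C), Etale e → P f → P (e ≫ f))
    {U : Over S} {a : (AlgSp.yon S).obj U ⟶ F} (ha : AlgSp.RepWith P a) :
    AlgSt.RepByAlgSpWith (AlgSp.LocP P) (chart a) := by
  have := locP_respectsIso (S := S) P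
  rw [repByAlgSpWith_chart_iff]
  exact repByAlgSpWith_ofSpMap_of_repWith (fun _ _ _ h => K597.locP_of_repWith hpre h) ha

theorem repByAlgSpWith_smooth_chart {U : Over S} {a : (AlgSp.yon S).obj U ⟶ F} (ha : AlgSp.RepWith @Etale a) :
    AlgSt.RepByAlgSpWith (AlgSp.LocP @Smooth) (chart a) := by
  refine repByAlgSpWith_chart (P := @Smooth) (fun A B C e f he hf => ?_) (K609.Points.repWith_mono ?_ ha)
  · infer_instance
  · intro X Y f hf
    infer_instance

theorem repByAlgSpWith_surjective_chart {U : Over S} {a : (AlgSp.yon S).obj U ⟶ F}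
    (ha : AlgSp.RepWith @Surjective a) :
    AlgSt.RepByAlgSpWith AlgSp.IsSurjectiveMor (chart a) := by
  have := isSurjectiveMor_respectsIso (S := S)
  rw [repByAlgSpWith_chart_iff]
  exact repByAlgSpWith_ofSpMap_of_repWith (Q := AlgSp.IsSurjectiveMor)
    (fun _ _ _ h => K609.Points.surjective_map_of_repWith_surjective h) ha

end Chart

/-! ### Continuity of charts -/

section Cont

variable {𝒳 : BasedCategory.{v₂, u₂} (Over S)} {𝒴 : BasedCategory.{v₃, u₃} (Over S)}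
  {𝒱 : BasedCategory.{v₄, u₄} (Over S)}

/-- All maps from schemes are continuous on points. -/
def ChartCont (𝒳 : BasedCategory.{v₂, u₂} (Over S)) : Prop :=
  ∀ (U : Over S) (x : FibCat.overCat U ⥤ᵇ 𝒳), Continuous (AlgSt.Points.ofChart x)

/-- Every functor between slices comes from a morphism of schemes. -/
theorem exists_iso_overMap {T V : Over S} (x : FibCat.overCat T ⥤ᵇ FibCat.overCat V) :
    ∃ b : T ⟶ V, Nonempty (x ≅ AlgSt.overMap b) := by
  refine ⟨eqToHom (x.w_obj (idObj T)).symm ≫ (x.obj (idObj T)).hom, ⟨yonIso (isFibGrpd_overCat V) x _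
    (Over.homMk (eqToHom (x.w_obj (idObj T))) ?_) ?_⟩⟩
  · have h1 : eqToHom (x.w_obj (idObj T)) ≫ eqToHom (x.w_obj (idObj T)).symm ≫ (x.obj (idObj T)).hom =
        (x.obj (idObj T)).hom := by
      rw [eqToHom_trans_assoc, eqToHom_refl, Category.id_comp]
    exact (congrArg (eqToHom (x.w_obj (idObj T)) ≫ ·) (Category.id_comp _)).trans h1
  · exact vert_of_map_eq (x.w_obj (idObj T)) rfl

/-- Surjectivity of a morphism representable by algebraic spaces, on points. -/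
theorem exists_fpt_chart (h𝒳 : FibCat.IsFibGrpd 𝒳.p) (x : AlgSt.Points 𝒳) :
    ∃ (K : Type u) (_ : Field K) (s : Spec (CommRingCat.of K) ⟶ S) (y : FibCat.overCat (Over.mk s) ⥤ᵇ 𝒳),
      ∀ t, AlgSt.Points.ofChart y t = x := by
  obtain ⟨p, rfl⟩ := AlgSt.Points.mk_surjective x
  refine ⟨p.K, p.field, p.str, yonF h𝒳 p.obj p.lies, fun t => ?_⟩
  let f : (FibCat.overCat (Over.mk p.str)).obj := Over.mk (Over.homMk ((Over.mk p.str).left.fromSpecResidueField t) rfl :
    Over.mk ((Over.mk p.str).left.fromSpecResidueField t ≫ (Over.mk p.str).hom) ⟶ Over.mk p.str)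
  exact mk_eq_of_hom ((yonF h𝒳 p.obj p.lies).map (toId f) ≫ (yonFIso h𝒳 p.obj p.lies).hom)

theorem surjective_of_repByAlgSpWith (h𝒳 : FibCat.IsFibGrpd 𝒳.p) (h𝒱 : FibCat.IsFibGrpd 𝒱.p) {v : 𝒱 ⥤ᵇ 𝒳}
    (hv : AlgSt.RepByAlgSpWith AlgSp.IsSurjectiveMor v) : Function.Surjective (AlgSt.Points.map v) := by
  intro x
  obtain ⟨K, _, s, y, hy⟩ := exists_fpt_chart h𝒳 x
  obtain ⟨F, e, he, hF⟩ := hv _ y
  let t : ↥(Over.mk s : Over S).left := IsLocalRing.closedPoint K
  obtain ⟨ξ, hξ⟩ := hF (AlgSp.Points.ofScheme _ t)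
  have := (exists_rep_fp h𝒳 h𝒱 y e he t _).2 ⟨ξ, hξ, rfl⟩
  exact ⟨_, this.symm.trans (hy t)⟩

theorem repByAlgSpWith_surjective_iff (h𝒳 : FibCat.IsFibGrpd 𝒳.p) (h𝒱 : FibCat.IsFibGrpd 𝒱.p) {v : 𝒱 ⥤ᵇ 𝒳}
    (hv : AlgSt.RepByAlgSp1 v) :
    Function.Surjective (AlgSt.Points.map v) ↔ AlgSt.RepByAlgSpWith AlgSp.IsSurjectiveMor v := by
  have := isSurjectiveMor_respectsIso (S := S)
  refine ⟨fun h => repByAlgSpWith_of_rep hv ?_, surjective_of_repByAlgSpWith h𝒳 h𝒱⟩
  intro U y F e he x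
  obtain ⟨u, rfl⟩ := (AlgSp.Points.schemeEquiv U).surjective x
  obtain ⟨z, hz⟩ := h (AlgSt.Points.ofChart y u)
  obtain ⟨ξ, h1, -⟩ := (exists_rep_fp h𝒳 h𝒱 y e he u z).1 hz.symm
  exact ⟨ξ, h1⟩

/-- The underlying morphism of schemes of an etale chart of a space over `U` with `LocP P`. -/
theorem locP_chart {P : MorphismProperty Scheme.{u}} {F : AlgSp.Sp S} {U T : Over S} {q : F ⟶ (AlgSp.yon S).obj U}
    (hq : AlgSp.LocP P q) {p : (AlgSp.yon S).obj T ⟶ F} (hp : AlgSp.RepWith @Etale p) {a : T ⟶ U}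
    (h : p ≫ q = (AlgSp.yon S).map a) : P a.left :=
  hq p (𝟙 _) a hp (AlgSp.repWith_id _ U) (by rw [h, Category.comp_id])

/-- A map of algebraic spaces to a scheme with `LocP P`, `P` universally open, is open. -/
theorem isOpenMap_of_locP {P : MorphismProperty Scheme.{u}}
    (hP : ∀ ⦃A B : Scheme.{u}⦄ (f : A ⟶ B), P f → IsOpenMap f) {F : AlgSp.Sp S} {U : Over S}
    {q : F ⟶ (AlgSp.yon S).obj U} (hF : AlgSp.IsAlgSpace F) (hq : AlgSp.LocP P q) :
    IsOpenMap (AlgSp.Points.map q) := by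
  obtain ⟨T, p, hp, hs⟩ := hF.atlas
  obtain ⟨a, ha⟩ := (AlgSp.yon S).map_surjective (p ≫ q)
  have h1 : IsOpenMap a.left := hP _ (locP_chart hq hp ha.symm)
  have h2 : AlgSp.Points.map q ∘ AlgSp.Points.ofPt p = AlgSp.Points.schemeHomeo U ∘ a.left := by
    funext t
    change AlgSp.Points.map q (AlgSp.Points.ofPt p t) = AlgSp.Points.ofScheme U (a.left t)
    rw [AlgSp.Points.map_ofPt, ← ha, K609.Points.ofPt_yon_map]
  have h3 : IsOpenMap (AlgSp.Points.map q ∘ AlgSp.Points.ofPt p) := by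
    rw [h2]
    exact (AlgSp.Points.schemeHomeo U).isOpenMap.comp h1
  intro W hW
  have h4 : AlgSp.Points.map q '' W = (AlgSp.Points.map q ∘ AlgSp.Points.ofPt p) '' (AlgSp.Points.ofPt p ⁻¹' W) := by
    rw [Set.image_comp, Set.image_preimage_eq _ (K609.Points.surjective_ofPt_of_repWith_surjective hs)]
  rw [h4]
  exact h3 _ ((AlgSp.Points.continuous_ofPt p).isOpen_preimage _ hW)

theorem isOpenMap_of_smooth ⦃A B : Scheme.{u}⦄ (f : A ⟶ B) (h : @Smooth A B f) : IsOpenMap f := by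
  have : UniversallyOpen f := inferInstance
  exact f.isOpenMap

theorem isOpenMap_of_flat_lfp ⦃A B : Scheme.{u}⦄ (f : A ⟶ B)
    (h : (@Flat ⊓ @LocallyOfFinitePresentation : MorphismProperty Scheme.{u}) f) : IsOpenMap f := by
  have := h.1
  have := h.2
  have : UniversallyOpen f := inferInstance
  exact f.isOpenMap

/-- Points of a slice as a source. -/
theorem continuous_comp_of_chart {T V : Over S} (x : FibCat.overCat V ⥤ᵇ 𝒳) (hx : Continuous (AlgSt.Points.ofChart x))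
    (b : FibCat.overCat T ⥤ᵇ FibCat.overCat V) : Continuous (AlgSt.Points.ofChart (BasedFunctor.comp b x)) := by
  obtain ⟨b', ⟨i⟩⟩ := exists_iso_overMap b
  have : AlgSt.Points.ofChart (BasedFunctor.comp b x) = AlgSt.Points.ofChart x ∘ b'.left := by
    funext t
    rw [Function.comp_apply, ← ofChart_overMap]
    exact ofChart_congr (whiskerRightIso i x) t
  rw [this]
  exact hx.comp b'.left.continuous

/-- If `𝒳` has a surjective smooth atlas from a scheme, all maps from schemes to `𝒳` are continuous on points. -/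
theorem chartCont_of_atlas (h𝒳 : FibCat.IsFibGrpd 𝒳.p) {V : Over S} (v : FibCat.overCat V ⥤ᵇ 𝒳)
    (hv : AlgSt.RepByAlgSpWith (AlgSp.LocP @Smooth) v) (hs : Function.Surjective (AlgSt.Points.map v)) :
    ChartCont 𝒳 := by
  intro U y
  refine ⟨fun W hW => ?_⟩
  obtain ⟨F, e, he, hq⟩ := hv U y
  have h1 := preimage_image_map h𝒳 (isFibGrpd_overCat V) y e he (AlgSt.Points.map v ⁻¹' W)
  rw [Set.image_preimage_eq _ hs] at h1
  rw [h1]
  refine (AlgSp.Points.continuous_ofPt _).isOpen_preimage _ (isOpenMap_of_locP isOpenMap_of_smooth F.property hq _ ?_)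
  -- the preimage of `W` in `|F|` is open, as seen on an etale chart
  obtain ⟨T, p, hp, hps⟩ := F.property.atlas
  rw [← (K609.Points.isQuotientMap_ofPt hp hps).isOpen_preimage]
  have h2 : AlgSp.Points.ofPt p ⁻¹' ((fun ξ => AlgSt.Points.map (BasedFunctor.comp e (FibCat.fpSnd y v))
      ((ptsEquiv F.obj).symm ξ)) ⁻¹' (AlgSt.Points.map v ⁻¹' W)) =
      AlgSt.Points.ofChart (BasedFunctor.comp (BasedFunctor.comp (chart p)
        (BasedFunctor.comp e (FibCat.fpSnd y v))) v) ⁻¹' W := by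
    ext t
    simp only [Set.mem_preimage]
    rw [← ptsEquiv_ofChart, Equiv.symm_apply_apply]
    rfl
  rw [h2]
  exact (continuous_comp_of_chart v ⟨fun W' hW' => hW' V v hv⟩ _).isOpen_preimage _ hW

/-- The points of an algebraic space and of its category are homeomorphic. -/
theorem chartCont_ofSp {F : AlgSp.Sp S} (hF : AlgSp.IsAlgSpace F) : ChartCont (AlgSt.ofSp F) := by
  obtain ⟨T, p, hp, hps⟩ := hF.atlas
  exact chartCont_of_atlas (isFibGrpd_ofSp F) (chart p) (repByAlgSpWith_smooth_chart hp)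
    (surjective_of_repByAlgSpWith (isFibGrpd_ofSp F) (isFibGrpd_overCat T) (repByAlgSpWith_surjective_chart hps))

/-- The homeomorphism between the points of the category of an algebraic space and the points of the space. -/
noncomputable def ptsHomeo {F : AlgSp.Sp S} (hF : AlgSp.IsAlgSpace F) :
    AlgSt.Points (AlgSt.ofSp F) ≃ₜ AlgSp.Points F where
  toEquiv := ptsEquiv F
  continuous_toFun := by
    refine ⟨fun W hW U x _ => ?_⟩
    obtain ⟨i⟩ := exists_iso_chart x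
    have : AlgSt.Points.ofChart x ⁻¹' (ptsEquiv F ⁻¹' W) = AlgSp.Points.ofPt (unchart x) ⁻¹' W := by
      ext t
      simp only [Set.mem_preimage]
      rw [ofChart_congr i, ptsEquiv_ofChart]
    change IsOpen (AlgSt.Points.ofChart x ⁻¹' (ptsEquiv F ⁻¹' W))
    rw [this]
    exact (AlgSp.Points.continuous_ofPt _).isOpen_preimage _ hW
  continuous_invFun := by
    refine ⟨fun W hW => ?_⟩
    rw [AlgSp.Points.isOpen_iff]
    intro T g
    have : AlgSp.Points.ofPt g ⁻¹' ((ptsEquiv F).symm ⁻¹' W) = AlgSt.Points.ofChart (chart g) ⁻¹' W := by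
      ext t
      simp only [Set.mem_preimage]
      rw [← ptsEquiv_ofChart, Equiv.symm_apply_apply]
    change IsOpen (AlgSp.Points.ofPt g ⁻¹' ((ptsEquiv F).symm ⁻¹' W))
    rw [this]
    exact (chartCont_ofSp hF T (chart g)).isOpen_preimage _ hW

@[simp] theorem ptsHomeo_apply {F : AlgSp.Sp S} (hF : AlgSp.IsAlgSpace F) (x : AlgSt.Points (AlgSt.ofSp F)) :
    ptsHomeo hF x = ptsEquiv F x := rfl

@[simp] theorem ptsHomeo_symm_apply {F : AlgSp.Sp S} (hF : AlgSp.IsAlgSpace F) (x : AlgSp.Points F) :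
    (ptsHomeo hF).symm x = (ptsEquiv F).symm x := rfl

/-- Functors into a category all of whose charts are continuous are continuous on points. -/
theorem continuous_map (h𝒴 : ChartCont 𝒴) (f : 𝒳 ⥤ᵇ 𝒴) : Continuous (AlgSt.Points.map f) :=
  ⟨fun _ hW U x _ => (h𝒴 U (BasedFunctor.comp x f)).isOpen_preimage _ hW⟩

/-- A flat and locally finitely presented (or smooth, ...) morphism representable by algebraic spaces is open on
points, when all charts of its source are continuous. -/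
theorem isOpenMap_map {P : MorphismProperty Scheme.{u}} (hP : ∀ ⦃A B : Scheme.{u}⦄ (f : A ⟶ B), P f → IsOpenMap f)
    (h𝒳 : FibCat.IsFibGrpd 𝒳.p) (h𝒱 : FibCat.IsFibGrpd 𝒱.p) (h𝒱' : ChartCont 𝒱) {v : 𝒱 ⥤ᵇ 𝒳}
    (hv : AlgSt.RepByAlgSpWith (AlgSp.LocP P) v) : IsOpenMap (AlgSt.Points.map v) := by
  intro D hD U y _
  obtain ⟨F, e, he, hq⟩ := hv U y
  rw [preimage_image_map h𝒳 h𝒱 y e he]
  refine (AlgSp.Points.continuous_ofPt _).isOpen_preimage _ (isOpenMap_of_locP hP F.property hq _ ?_)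
  obtain ⟨T, p, hp, hps⟩ := F.property.atlas
  rw [← (K609.Points.isQuotientMap_ofPt hp hps).isOpen_preimage]
  have h2 : AlgSp.Points.ofPt p ⁻¹' ((fun ξ => AlgSt.Points.map (BasedFunctor.comp e (FibCat.fpSnd y v))
      ((ptsEquiv F.obj).symm ξ)) ⁻¹' D) =
      AlgSt.Points.ofChart (BasedFunctor.comp (chart p) (BasedFunctor.comp e (FibCat.fpSnd y v))) ⁻¹' D := by
    ext t
    simp only [Set.mem_preimage]
    rw [← ptsEquiv_ofChart, Equiv.symm_apply_apply]
    rfl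
  rw [h2]
  exact (h𝒱' T _).isOpen_preimage _ hD

/-- The identification `U ≃ₜ |(Sch/U)|`. -/
theorem chartCont_overCat (U : Over S) : ChartCont (FibCat.overCat U) := by
  intro T x
  obtain ⟨b, ⟨i⟩⟩ := exists_iso_overMap x
  have h1 : AlgSt.Points.ofChart x = AlgSt.Points.ofChart (BasedFunctor.id (FibCat.overCat U)) ∘ b.left := by
    funext t
    rw [Function.comp_apply, ← ofChart_overMap]
    exact ofChart_congr i t
  rw [h1]
  refine Continuous.comp ?_ b.left.continuous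
  -- the identity chart is a smooth chart
  refine ⟨fun W hW => hW U (BasedFunctor.id _) ?_⟩
  have h2 : AlgSt.RepByAlgSpWith (AlgSp.LocP @Smooth) (chart (𝟙 ((AlgSp.yon S).obj U))) :=
    repByAlgSpWith_smooth_chart (AlgSp.repWith_id _ U)
  exact repByAlgSpWith_of_sq _ (chart (𝟙 ((AlgSp.yon S).obj U))) (BasedFunctor.id (FibCat.overCat U))
    (BasedFunctor.id _) (AlgSt.ofOverCat U) isEquivOver_id (isEquivOver_ofOverCat U)
    (eqToIso (by
      change _ = BasedFunctor.comp (AlgSt.ofOverCat U) (AlgSt.ofSpMap (𝟙 _))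
      rfl)) h2

theorem continuous_ofChart_id (U : Over S) :
    Continuous (AlgSt.Points.ofChart (BasedFunctor.id (FibCat.overCat U))) := chartCont_overCat U U _

/-- `ofChart` is continuous iff the map on points is. -/
theorem isOpenMap_ofChart {U : Over S} (x : FibCat.overCat U ⥤ᵇ 𝒳) (h : IsOpenMap (AlgSt.Points.map x)) :
    IsOpenMap (AlgSt.Points.ofChart x) := by
  have h1 : AlgSt.Points.ofChart x = AlgSt.Points.map x ∘ AlgSt.Points.ofChart (BasedFunctor.id (FibCat.overCat U)) := rfl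
  rw [h1]
  refine h.comp ?_
  intro W hW T y _
  obtain ⟨b, ⟨i⟩⟩ := exists_iso_overMap y
  have h2 : AlgSt.Points.ofChart y ⁻¹' (AlgSt.Points.ofChart (BasedFunctor.id (FibCat.overCat U)) '' W) =
      b.left ⁻¹' W := by
    ext t
    simp only [Set.mem_preimage]
    have h3 : AlgSt.Points.ofChart y t = AlgSt.Points.ofChart (BasedFunctor.id (FibCat.overCat U)) (b.left t) := by
      rw [← ofChart_overMap]
      exact ofChart_congr i t
    rw [h3, (ofChart_id_bijective U).1.mem_set_image]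
  rw [h2]
  exact hW.preimage b.left.continuous

end Cont

/-! ### Algebraic stacks -/

section AlgSt

variable {𝒳 : BasedCategory.{v₂, u₂} (Over S)} {𝒴 : BasedCategory.{v₃, u₃} (Over S)}
  {K : Precoverage Scheme.{u}}

theorem chartCont_of_isAlgStack (h𝒳 : AlgSt.IsAlgStack K 𝒳) : ChartCont 𝒳 := by
  obtain ⟨V, v, h1, h2⟩ := h𝒳.atlas
  exact chartCont_of_atlas h𝒳.isStack.1 v h1 (surjective_of_repByAlgSpWith h𝒳.isStack.1 (isFibGrpd_overCat V) h2)

/-- Every open neighbourhood of a point of an algebraic stack contains a quasi-compact open neighbourhood. -/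
theorem exists_isOpen_isCompact_nhd (h𝒳 : AlgSt.IsAlgStack K 𝒳) (x : AlgSt.Points 𝒳) (W : Set (AlgSt.Points 𝒳))
    (hW : IsOpen W) (hx : x ∈ W) : ∃ V : Set (AlgSt.Points 𝒳), IsOpen V ∧ IsCompact V ∧ x ∈ V ∧ V ⊆ W := by
  obtain ⟨V, v, h1, h2⟩ := h𝒳.atlas
  have hs := surjective_of_repByAlgSpWith h𝒳.isStack.1 (isFibGrpd_overCat V) h2
  rw [surjective_map_iff_surjective_ofChart] at hs
  have ho : IsOpenMap (AlgSt.Points.ofChart v) := isOpenMap_ofChart v
    (isOpenMap_map isOpenMap_of_smooth h𝒳.isStack.1 (isFibGrpd_overCat V) (chartCont_overCat V) h1)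
  have hc : Continuous (AlgSt.Points.ofChart v) := chartCont_of_isAlgStack h𝒳 V v
  obtain ⟨t, rfl⟩ := hs x
  obtain ⟨O, hO, ht, hOW⟩ := (Scheme.isBasis_affineOpens V.left).exists_subset_of_mem_open hx
    (hW.preimage hc)
  have hO' : IsAffineOpen (⟨O, (Scheme.isBasis_affineOpens V.left).isOpen hO⟩ : V.left.Opens) := by
    obtain ⟨O', h3, h4⟩ := hO
    subst h4
    exact h3
  refine ⟨AlgSt.Points.ofChart v '' O, ho _ ((Scheme.isBasis_affineOpens V.left).isOpen hO), ?_, ⟨t, ht, rfl⟩, ?_⟩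
  · exact (hO'.isCompact).image hc
  · rintro _ ⟨s, hs, rfl⟩
    exact hOW hs

end AlgSt

end K735.Top
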