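import Groth.Agent.AlgSt.K735.Fib

/-!
# 2-fibre products and 2-Yoneda over a base category (helper735)

* `K735.mkFp`, `K735.homFp`: objects and morphisms of `FibCat.fp F G`.
* `K735.isFibGrpd_fp`, `K735.isFibGrpd_overCat`, `K735.isFibGrpd_selfOver`.
* `K735.yonF`, `K735.yonIso`: 2-Yoneda.
* `K735.fpMap`, `K735.isEquivOver_fpMap`, `K735.fpSwap`.
-/

set_option autoImplicit false
set_option backward.isDefEq.respectTransparency false
set_option backward.isDefEq.respectTransparency.types false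

universe v₉ u₉ v₈ u₈ v₇ u₇ v₆ u₆ v₅ u₅ v₄ u₄ v₃ u₃ v₂ u₂ v u

open CategoryTheory CategoryTheory.Limits K735.Fib

namespace K735.Fp

variable {C : Type u} [Category.{v} C]

section Mk

variable {𝒳 : Type u₂} [Category.{v₂} 𝒳] {p : 𝒳 ⥤ C}

/-- A criterion for being fibred in groupoids. -/
theorem isFibGrpd_mk
    (h1 : ∀ {x : 𝒳} {V : C} (f : V ⟶ p.obj x), ∃ (y : 𝒳) (φ : y ⟶ x) (e : p.obj y = V), p.map φ = eqToHom e ≫ f)
    (h2 : ∀ {x y z : 𝒳} (φ : y ⟶ x) (ψ : z ⟶ x) (g : p.obj z ⟶ p.obj y), g ≫ p.map φ = p.map ψ →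
      ∃ χ : z ⟶ y, p.map χ = g ∧ χ ≫ φ = ψ)
    (h3 : ∀ {x y z : 𝒳} (φ : y ⟶ x) (χ χ' : z ⟶ y), p.map χ = p.map χ' → χ ≫ φ = χ' ≫ φ → χ = χ') :
    FibCat.IsFibGrpd p where
  exists_lift {x V} f := by
    obtain ⟨y, φ, e, h⟩ := h1 f
    exact ⟨y, φ, IsHomLift.of_fac' p f φ e rfl (by simpa using h)⟩
  isStronglyCartesian {y x} φ := by
    refine ⟨fun {z} g ψ hψ => ?_⟩
    have hw : g ≫ p.map φ = p.map ψ := IsHomLift.eq_of_isHomLift p _ ψ
    obtain ⟨χ, h4, h5⟩ := h2 φ ψ g hw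
    refine ⟨χ, ⟨by rw [← h4]; infer_instance, h5⟩, ?_⟩
    rintro χ' ⟨h6, h7⟩
    exact h3 φ χ' χ ((IsHomLift.eq_of_isHomLift p g χ').symm.trans h4.symm) (h7.trans h5.symm)

end Mk

section Fp

variable {𝒳 : BasedCategory.{v₂, u₂} C} {𝒴 : BasedCategory.{v₃, u₃} C} {𝒮 : BasedCategory.{v₄, u₄} C}
  {F : 𝒳 ⥤ᵇ 𝒮} {G : 𝒴 ⥤ᵇ 𝒮}

/-- Object of the 2-fibre product. -/
def mkFp (F : 𝒳 ⥤ᵇ 𝒮) (G : 𝒴 ⥤ᵇ 𝒮) (x : 𝒳.obj) (y : 𝒴.obj) (e : F.obj x ≅ G.obj y) (he : Vert 𝒮.p e.hom) :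
    (FibCat.fp F G).obj :=
  ⟨{ fst := x, snd := y, iso := e }, he.isHomLift (F.w_obj x)⟩

@[simp] theorem mkFp_fst (x : 𝒳.obj) (y : 𝒴.obj) (e : F.obj x ≅ G.obj y) (he : Vert 𝒮.p e.hom) :
    (mkFp F G x y e he).obj.fst = x := rfl
@[simp] theorem mkFp_snd (x : 𝒳.obj) (y : 𝒴.obj) (e : F.obj x ≅ G.obj y) (he : Vert 𝒮.p e.hom) :
    (mkFp F G x y e he).obj.snd = y := rfl
@[simp] theorem mkFp_iso (x : 𝒳.obj) (y : 𝒴.obj) (e : F.obj x ≅ G.obj y) (he : Vert 𝒮.p e.hom) :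
    (mkFp F G x y e he).obj.iso = e := rfl

theorem fp_vert (x : (FibCat.fp F G).obj) : Vert 𝒮.p x.obj.iso.hom := vert_of_isHomLift x.property

/-- The two components of an object of the fibre product lie over the same object. -/
theorem fp_snd_eq (x : (FibCat.fp F G).obj) : 𝒴.p.obj x.obj.snd = 𝒳.p.obj x.obj.fst :=
  (G.w_obj x.obj.snd).symm.trans ((fp_vert x).eq.trans (F.w_obj x.obj.fst))

/-- Morphism of the 2-fibre product. -/
def homFp {x y : (FibCat.fp F G).obj} (f : x.obj.fst ⟶ y.obj.fst) (g : x.obj.snd ⟶ y.obj.snd)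
    (w : F.map f ≫ y.obj.iso.hom = x.obj.iso.hom ≫ G.map g) : x ⟶ y :=
  ObjectProperty.homMk { fst := f, snd := g, w := w }

@[simp] theorem homFp_fst {x y : (FibCat.fp F G).obj} (f : x.obj.fst ⟶ y.obj.fst) (g : x.obj.snd ⟶ y.obj.snd)
    (w : F.map f ≫ y.obj.iso.hom = x.obj.iso.hom ≫ G.map g) : (homFp f g w).hom.fst = f := rfl
@[simp] theorem homFp_snd {x y : (FibCat.fp F G).obj} (f : x.obj.fst ⟶ y.obj.fst) (g : x.obj.snd ⟶ y.obj.snd)
    (w : F.map f ≫ y.obj.iso.hom = x.obj.iso.hom ≫ G.map g) : (homFp f g w).hom.snd = g := rfl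

theorem fp_hom_ext {x y : (FibCat.fp F G).obj} {f g : x ⟶ y} (h1 : f.hom.fst = g.hom.fst)
    (h2 : f.hom.snd = g.hom.snd) : f = g := by
  apply ObjectProperty.hom_ext
  exact CategoricalPullback.hom_ext h1 h2

@[simp] theorem fp_comp_fst {x y z : (FibCat.fp F G).obj} (f : x ⟶ y) (g : y ⟶ z) :
    (f ≫ g).hom.fst = f.hom.fst ≫ g.hom.fst := rfl
@[simp] theorem fp_comp_snd {x y z : (FibCat.fp F G).obj} (f : x ⟶ y) (g : y ⟶ z) :
    (f ≫ g).hom.snd = f.hom.snd ≫ g.hom.snd := rfl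
@[simp] theorem fp_id_fst (x : (FibCat.fp F G).obj) : (𝟙 x : x ⟶ x).hom.fst = 𝟙 _ := rfl
@[simp] theorem fp_id_snd (x : (FibCat.fp F G).obj) : (𝟙 x : x ⟶ x).hom.snd = 𝟙 _ := rfl

theorem fp_w {x y : (FibCat.fp F G).obj} (f : x ⟶ y) :
    F.map f.hom.fst ≫ y.obj.iso.hom = x.obj.iso.hom ≫ G.map f.hom.snd := f.hom.w

/-- Isomorphism of the 2-fibre product. -/
def isoFp {x y : (FibCat.fp F G).obj} (f : x.obj.fst ≅ y.obj.fst) (g : x.obj.snd ≅ y.obj.snd)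
    (w : F.map f.hom ≫ y.obj.iso.hom = x.obj.iso.hom ≫ G.map g.hom) : x ≅ y where
  hom := homFp f.hom g.hom w
  inv := homFp f.inv g.inv (by
    rw [← cancel_epi (F.map f.hom), ← Category.assoc, ← F.map_comp, f.hom_inv_id, F.map_id, Category.id_comp,
      ← Category.assoc, w, Category.assoc, ← G.map_comp, g.hom_inv_id, G.map_id, Category.comp_id])
  hom_inv_id := fp_hom_ext (by simp) (by simp)
  inv_hom_id := fp_hom_ext (by simp) (by simp)

theorem fp_map_snd {x y : (FibCat.fp F G).obj} (f : x ⟶ y) :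
    𝒴.p.map f.hom.snd = eqToHom (fp_snd_eq x) ≫ 𝒳.p.map f.hom.fst ≫ eqToHom (fp_snd_eq y).symm :=
  map_map (FibCat.fpSnd F G) f

theorem vert_fp_iff {x y : (FibCat.fp F G).obj} (f : x ⟶ y) :
    Vert (FibCat.fp F G).p f ↔ Vert 𝒳.p f.hom.fst := (vert_map_iff (FibCat.fpFst F G) f).symm

theorem vert_fp_iff_snd {x y : (FibCat.fp F G).obj} (f : x ⟶ y) :
    Vert (FibCat.fp F G).p f ↔ Vert 𝒴.p f.hom.snd := (vert_map_iff (FibCat.fpSnd F G) f).symm

/-- The 2-fibre product of categories fibred in groupoids is fibred in groupoids. -/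
theorem isFibGrpd_fp (h𝒳 : FibCat.IsFibGrpd 𝒳.p) (h𝒴 : FibCat.IsFibGrpd 𝒴.p) (h𝒮 : FibCat.IsFibGrpd 𝒮.p)
    (F : 𝒳 ⥤ᵇ 𝒮) (G : 𝒴 ⥤ᵇ 𝒮) : FibCat.IsFibGrpd (FibCat.fp F G).p := by
  refine isFibGrpd_mk ?_ ?_ ?_
  · intro x V f
    obtain ⟨a, φ, ea, hφ⟩ := exists_lift h𝒳 (x := x.obj.fst) f
    obtain ⟨b, ψ, eb, hψ⟩ := exists_lift_eq h𝒴 (fp_snd_eq x) f
    -- the isomorphism `F a ≅ G b`
    obtain ⟨χ, h1, h2⟩ := exists_hom h𝒮 (G.map ψ) (F.map φ ≫ x.obj.iso.hom)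
      (eqToHom ((F.w_obj a).trans (ea.trans (eb.symm.trans (G.w_obj b).symm)))) (by
        rw [Functor.map_comp, map_map, map_map, hφ, hψ, (fp_vert x).map_eq]
        simp)
    have hv : Vert 𝒮.p χ := vert_of_map_eq _ h1
    have := hv.isIso h𝒮
    refine ⟨mkFp F G a b (asIso χ) hv, homFp φ ψ (by simpa using h2.symm), ea, hφ⟩
  · intro x y z φ ψ g w
    obtain ⟨χ₁, h1, h2⟩ := exists_hom h𝒳 φ.hom.fst ψ.hom.fst g w
    obtain ⟨χ₂, h3, h4⟩ := exists_hom h𝒴 φ.hom.snd ψ.hom.snd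
      (eqToHom (fp_snd_eq z) ≫ g ≫ eqToHom (fp_snd_eq y).symm) (by
        rw [fp_map_snd, fp_map_snd]
        change _ = _ ≫ (FibCat.fp F G).p.map ψ ≫ _
        rw [← w]
        simp)
    refine ⟨homFp χ₁ χ₂ ?_, h1, fp_hom_ext h2 h4⟩
    apply hom_ext' h𝒮 (G.map φ.hom.snd)
    · rw [Functor.map_comp, Functor.map_comp, map_map, map_map, h1, h3, (fp_vert y).map_eq, (fp_vert z).map_eq]
      simp
    · rw [Category.assoc, Category.assoc, ← fp_w φ, ← Category.assoc, ← F.map_comp, h2, ← G.map_comp, h4, fp_w ψ]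
  · intro x y z φ χ χ' h1 h2
    refine fp_hom_ext ?_ ?_
    · exact hom_ext' h𝒳 φ.hom.fst h1 (congrArg (fun t => t.hom.fst) h2)
    · refine hom_ext' h𝒴 φ.hom.snd ?_ (congrArg (fun t => t.hom.snd) h2)
      rw [fp_map_snd, fp_map_snd]
      congr 2

end Fp

theorem isFibGrpd_selfOver : FibCat.IsFibGrpd (FibCat.selfOver C).p := by
  refine isFibGrpd_mk ?_ ?_ ?_
  · intro x V f
    exact ⟨V, f, rfl, by simp; rfl⟩
  · intro x y z φ ψ g w
    exact ⟨g, rfl, w⟩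
  · intro x y z φ χ χ' h _
    exact h

theorem isFibGrpd_overCat (U : C) : FibCat.IsFibGrpd (FibCat.overCat U).p := by
  refine isFibGrpd_mk ?_ ?_ ?_
  · intro x V f
    exact ⟨Over.mk (f ≫ x.hom), Over.homMk f, rfl, by simp; rfl⟩
  · intro x y z φ ψ g w
    refine ⟨Over.homMk g ?_, rfl, ?_⟩
    · rw [← Over.w φ, ← Over.w ψ]
      change g ≫ φ.left ≫ _ = ψ.left ≫ _
      rw [← Category.assoc]
      exact congrArg (· ≫ x.hom) w
    · exact Over.OverMorphism.ext w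
  · intro x y z φ χ χ' h _
    exact Over.OverMorphism.ext h

section Yoneda

variable {𝒳 : BasedCategory.{v₂, u₂} C}

/-- The terminal object of the slice. -/
abbrev idObj (U : C) : (FibCat.overCat U).obj := Over.mk (𝟙 U)

/-- The canonical morphism to the terminal object of the slice. -/
abbrev toId {U : C} (f : (FibCat.overCat U).obj) : f ⟶ idObj U := Over.homMk f.hom (by simp)

theorem exists_yonF (h𝒳 : FibCat.IsFibGrpd 𝒳.p) {U : C} (x : 𝒳.obj) (hx : 𝒳.p.obj x = U) :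
    ∃ (F : FibCat.overCat U ⥤ᵇ 𝒳) (e : F.obj (idObj U) ≅ x), Vert 𝒳.p e.hom := by
  have hl := fun (f : Over U) => exists_lift_eq h𝒳 hx f.hom
  choose y φ e hφ using hl
  have hm := fun (f g : Over U) (a : f ⟶ g) => existsUnique_hom h𝒳 (φ g) (φ f)
    (eqToHom (e f) ≫ a.left ≫ eqToHom (e g).symm) (by rw [hφ, hφ]; simp)
  choose m hm1 hm2 using hm
  let F₀ : Over U ⥤ 𝒳.obj :=
    { obj := y
      map := fun {f g} a => m f g a
      map_id := fun f => by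
        symm
        apply hm2
        exact ⟨by simp, by simp⟩
      map_comp := fun {f g h} a b => by
        symm
        apply hm2
        refine ⟨by rw [Functor.map_comp, (hm1 f g a).1, (hm1 g h b).1]; simp, ?_⟩
        change (m f g a ≫ m g h b) ≫ φ h = φ f
        rw [Category.assoc, (hm1 g h b).2, (hm1 f g a).2] }
  let F : FibCat.overCat U ⥤ᵇ 𝒳 :=
    { toFunctor := F₀
      w := Functor.ext e (fun f g a => by
        change 𝒳.p.map (m f g a) = _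
        rw [(hm1 f g a).1]
        rfl) }
  have hv : Vert 𝒳.p (φ (idObj U)) := vert_of_map_eq ((e _).trans hx.symm) (by
    rw [hφ (idObj U)]
    change _ ≫ 𝟙 U ≫ _ = _
    simp)
  have := hv.isIso h𝒳
  exact ⟨F, asIso (φ (idObj U)), hv⟩

/-- The 2-Yoneda functor `C/U ⟶ 𝒳` attached to an object `x` over `U`. -/
noncomputable def yonF (h𝒳 : FibCat.IsFibGrpd 𝒳.p) {U : C} (x : 𝒳.obj) (hx : 𝒳.p.obj x = U) :
    FibCat.overCat U ⥤ᵇ 𝒳 := (exists_yonF h𝒳 x hx).choose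

/-- Its value at the identity is `x`. -/
noncomputable def yonFIso (h𝒳 : FibCat.IsFibGrpd 𝒳.p) {U : C} (x : 𝒳.obj) (hx : 𝒳.p.obj x = U) :
    (yonF h𝒳 x hx).obj (idObj U) ≅ x := (exists_yonF h𝒳 x hx).choose_spec.choose

theorem vert_yonFIso (h𝒳 : FibCat.IsFibGrpd 𝒳.p) {U : C} (x : 𝒳.obj) (hx : 𝒳.p.obj x = U) :
    Vert 𝒳.p (yonFIso h𝒳 x hx).hom := (exists_yonF h𝒳 x hx).choose_spec.choose_spec

theorem exists_yonIso (h𝒳 : FibCat.IsFibGrpd 𝒳.p) {U : C} (F G : FibCat.overCat U ⥤ᵇ 𝒳)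
    (a : F.obj (idObj U) ⟶ G.obj (idObj U)) (ha : Vert 𝒳.p a) :
    ∃ e : F ≅ G, (isoApp e (idObj U)).hom = a := by
  have hm := fun (f : (FibCat.overCat U).obj) => existsUnique_hom h𝒳 (G.map (toId f)) (F.map (toId f) ≫ a)
    (eqToHom ((F.w_obj f).trans (G.w_obj f).symm)) (by
      rw [Functor.map_comp, map_map, map_map, ha.map_eq]
      simp)
  choose α h1 h2 using hm
  have hv : ∀ f, Vert 𝒳.p (α f) := fun f => vert_of_map_eq _ (h1 f).1
  have hi : ∀ f, IsIso (α f) := fun f => (hv f).isIso h𝒳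
  refine ⟨mkIso (fun f => asIso (α f)) ?_ hv, ?_⟩
  · intro f g φ
    apply hom_ext' h𝒳 (G.map (toId g))
    · change 𝒳.p.map (F.map φ ≫ α g) = 𝒳.p.map (α f ≫ G.map φ)
      rw [Functor.map_comp, Functor.map_comp, map_map, map_map, (h1 f).1, (h1 g).1]
      simp
    · change (F.map φ ≫ α g) ≫ _ = (α f ≫ G.map φ) ≫ _
      rw [Category.assoc, (h1 g).2, Category.assoc, ← G.map_comp, ← Category.assoc, ← F.map_comp]
      have e : φ ≫ toId g = toId f := Over.OverMorphism.ext (Over.w φ)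
      rw [e, (h1 f).2]
  · change α (idObj U) = a
    have := (h1 (idObj U)).2
    have e : toId (idObj U) = 𝟙 (idObj U) := Over.OverMorphism.ext rfl
    rwa [e, G.map_id, Category.comp_id, F.map_id, Category.id_comp] at this

/-- 2-Yoneda on 2-isomorphisms. -/
noncomputable def yonIso (h𝒳 : FibCat.IsFibGrpd 𝒳.p) {U : C} (F G : FibCat.overCat U ⥤ᵇ 𝒳)
    (a : F.obj (idObj U) ⟶ G.obj (idObj U)) (ha : Vert 𝒳.p a) : F ≅ G := (exists_yonIso h𝒳 F G a ha).choose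

theorem yonIso_app (h𝒳 : FibCat.IsFibGrpd 𝒳.p) {U : C} (F G : FibCat.overCat U ⥤ᵇ 𝒳)
    (a : F.obj (idObj U) ⟶ G.obj (idObj U)) (ha : Vert 𝒳.p a) :
    (isoApp (yonIso h𝒳 F G a ha) (idObj U)).hom = a := (exists_yonIso h𝒳 F G a ha).choose_spec

/-- Based natural transformations out of a slice into a category fibred in groupoids are determined by their
component at the identity. -/
theorem yon_hom_ext (h𝒳 : FibCat.IsFibGrpd 𝒳.p) {U : C} {F G : FibCat.overCat U ⥤ᵇ 𝒳} (α β : F ⟶ G)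
    (h : α.toNatTrans.app (idObj U) = β.toNatTrans.app (idObj U)) : α = β := by
  apply BasedNatTrans.homCategory.ext
  apply NatTrans.ext
  funext f
  apply hom_ext' h𝒳 (G.map (toId f))
  · rw [(vert_app α f).map_eq, (vert_app β f).map_eq]
  · have h1 : F.map (toId f) ≫ α.toNatTrans.app (idObj U) = α.toNatTrans.app f ≫ G.map (toId f) :=
      α.toNatTrans.naturality (toId f)
    have h2 : F.map (toId f) ≫ β.toNatTrans.app (idObj U) = β.toNatTrans.app f ≫ G.map (toId f) :=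
      β.toNatTrans.naturality (toId f)
    exact h1.symm.trans ((congrArg (F.map (toId f) ≫ ·) h).trans h2)

end Yoneda

section Functoriality

variable {𝒳 : BasedCategory.{v₂, u₂} C} {𝒴 : BasedCategory.{v₃, u₃} C} {𝒮 : BasedCategory.{v₄, u₄} C}
  {𝒳' : BasedCategory.{v₅, u₅} C} {𝒴' : BasedCategory.{v₆, u₆} C} {𝒮' : BasedCategory.{v₇, u₇} C}

/-- Functoriality of the 2-fibre product. -/
def fpMap (F : 𝒳 ⥤ᵇ 𝒮) (G : 𝒴 ⥤ᵇ 𝒮) (F' : 𝒳' ⥤ᵇ 𝒮') (G' : 𝒴' ⥤ᵇ 𝒮') (a : 𝒳 ⥤ᵇ 𝒳') (b : 𝒴 ⥤ᵇ 𝒴')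
    (c : 𝒮 ⥤ᵇ 𝒮') (e₁ : BasedFunctor.comp a F' ≅ BasedFunctor.comp F c)
    (e₂ : BasedFunctor.comp b G' ≅ BasedFunctor.comp G c) : FibCat.fp F G ⥤ᵇ FibCat.fp F' G' where
  toFunctor :=
    { obj := fun x => mkFp F' G' (a.obj x.obj.fst) (b.obj x.obj.snd)
        (isoApp e₁ x.obj.fst ≪≫ c.mapIso x.obj.iso ≪≫ (isoApp e₂ x.obj.snd).symm)
        ((vert_isoApp e₁ _).comp (((fp_vert x).map c).comp (Vert.iso_inv (vert_isoApp e₂ _))))
      map := fun {x y} f => homFp (a.map f.hom.fst) (b.map f.hom.snd) (by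
        change F'.map (a.map f.hom.fst) ≫ (isoApp e₁ y.obj.fst).hom ≫ c.map y.obj.iso.hom ≫ (isoApp e₂ y.obj.snd).inv =
          ((isoApp e₁ x.obj.fst).hom ≫ c.map x.obj.iso.hom ≫ (isoApp e₂ x.obj.snd).inv) ≫ G'.map (b.map f.hom.snd)
        have h1 := isoApp_nat e₁ f.hom.fst
        have h2 := isoApp_inv_nat e₂ f.hom.snd
        change F'.map (a.map f.hom.fst) ≫ _ = _ ≫ c.map (F.map f.hom.fst) at h1
        change c.map (G.map f.hom.snd) ≫ _ = _ ≫ G'.map (b.map f.hom.snd) at h2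
        rw [← Category.assoc, h1, Category.assoc, Category.assoc, Category.assoc, ← h2, ← Category.assoc (c.map _),
          ← c.map_comp, fp_w f, c.map_comp, Category.assoc])
      map_id := fun x => fp_hom_ext (a.map_id _) (b.map_id _)
      map_comp := fun f g => fp_hom_ext (a.map_comp _ _) (b.map_comp _ _) }
  w := Functor.ext (fun x => a.w_obj x.obj.fst) (fun x y f => map_map a f.hom.fst)

variable (F : 𝒳 ⥤ᵇ 𝒮) (G : 𝒴 ⥤ᵇ 𝒮) (F' : 𝒳' ⥤ᵇ 𝒮') (G' : 𝒴' ⥤ᵇ 𝒮') (a : 𝒳 ⥤ᵇ 𝒳') (b : 𝒴 ⥤ᵇ 𝒴')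
    (c : 𝒮 ⥤ᵇ 𝒮') (e₁ : BasedFunctor.comp a F' ≅ BasedFunctor.comp F c)
    (e₂ : BasedFunctor.comp b G' ≅ BasedFunctor.comp G c)

/-- Compatibility with the first projection, on the nose. -/
theorem fpMap_fst : BasedFunctor.comp (fpMap F G F' G' a b c e₁ e₂) (FibCat.fpFst F' G') =
    BasedFunctor.comp (FibCat.fpFst F G) a := rfl

theorem fpMap_snd : BasedFunctor.comp (fpMap F G F' G' a b c e₁ e₂) (FibCat.fpSnd F' G') =
    BasedFunctor.comp (FibCat.fpSnd F G) b := rfl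

/-- Functoriality of 2-fibre products preserves equivalences (over the base one only needs full faithfulness). -/
theorem isEquivOver_fpMap (ha : FibCat.IsEquivOver a) (hb : FibCat.IsEquivOver b)
    (hc1 : ∀ {s t : 𝒮.obj} (φ ψ : s ⟶ t), c.map φ = c.map ψ → φ = ψ)
    (hc2 : ∀ {s t : 𝒮.obj} (φ : c.obj s ⟶ c.obj t), ∃ ψ : s ⟶ t, c.map ψ = φ) :
    FibCat.IsEquivOver (fpMap F G F' G' a b c e₁ e₂) := by
  refine isEquivOver_of ?_ ?_ ?_
  · intro x y φ ψ h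
    refine fp_hom_ext (IsEquivOver.faithful ha ?_) (IsEquivOver.faithful hb ?_)
    · exact congrArg (fun t => t.hom.fst) h
    · exact congrArg (fun t => t.hom.snd) h
  · intro x y φ
    obtain ⟨ψ₁, h1⟩ := IsEquivOver.full ha φ.hom.fst
    obtain ⟨ψ₂, h2⟩ := IsEquivOver.full hb φ.hom.snd
    refine ⟨homFp ψ₁ ψ₂ ?_, fp_hom_ext h1 h2⟩
    apply hc1
    have hw := fp_w φ
    rw [← h1, ← h2] at hw
    change F'.map (a.map ψ₁) ≫ (isoApp e₁ y.obj.fst).hom ≫ c.map y.obj.iso.hom ≫ (isoApp e₂ y.obj.snd).inv =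
          ((isoApp e₁ x.obj.fst).hom ≫ c.map x.obj.iso.hom ≫ (isoApp e₂ x.obj.snd).inv) ≫ G'.map (b.map ψ₂) at hw
    have h3 := isoApp_nat e₁ ψ₁
    have h4 := isoApp_inv_nat e₂ ψ₂
    change F'.map (a.map ψ₁) ≫ _ = _ ≫ c.map (F.map ψ₁) at h3
    change c.map (G.map ψ₂) ≫ _ = _ ≫ G'.map (b.map ψ₂) at h4
    rw [← Category.assoc, h3, Category.assoc, Category.assoc, Category.assoc, ← h4, cancel_epi,
      ← Category.assoc, ← Category.assoc] at hw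
    rw [c.map_comp, c.map_comp]
    exact (cancel_mono (isoApp e₂ y.obj.snd).inv).1 hw
  · intro z
    obtain ⟨x, ex, hx⟩ := IsEquivOver.essSurj ha z.obj.fst
    obtain ⟨y, ey, hy⟩ := IsEquivOver.essSurj hb z.obj.snd
    let k : c.obj (F.obj x) ≅ c.obj (G.obj y) :=
      (isoApp e₁ x).symm ≪≫ F'.mapIso ex ≪≫ z.obj.iso ≪≫ (G'.mapIso ey).symm ≪≫ isoApp e₂ y
    have hk : Vert 𝒮'.p k.hom :=
      (Vert.iso_inv (vert_isoApp e₁ x)).comp ((hx.map F').comp ((fp_vert z).comp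
        ((Vert.iso_inv (φ := G'.mapIso ey) (hy.map G')).comp (vert_isoApp e₂ y))))
    obtain ⟨l, hl⟩ := hc2 k.hom
    obtain ⟨l', hl'⟩ := hc2 k.inv
    let j : F.obj x ≅ G.obj y :=
      { hom := l
        inv := l'
        hom_inv_id := by apply hc1; rw [c.map_comp, hl, hl', Iso.hom_inv_id, c.map_id]
        inv_hom_id := by apply hc1; rw [c.map_comp, hl, hl', Iso.inv_hom_id, c.map_id] }
    have hj : Vert 𝒮.p j.hom := by
      rw [← vert_map_iff c]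
      change Vert 𝒮'.p (c.map l)
      rw [hl]
      exact hk
    refine ⟨mkFp F G x y j hj, isoFp ex ey ?_, (vert_fp_iff _).2 hx⟩
    change F'.map ex.hom ≫ z.obj.iso.hom = ((isoApp e₁ x).hom ≫ c.map l ≫ (isoApp e₂ y).inv) ≫ G'.map ey.hom
    rw [hl]
    change _ = ((isoApp e₁ x).hom ≫ ((isoApp e₁ x).inv ≫ F'.map ex.hom ≫ z.obj.iso.hom ≫ G'.map ey.inv ≫
      (isoApp e₂ y).hom) ≫ (isoApp e₂ y).inv) ≫ G'.map ey.hom
    simp only [Category.assoc, Iso.hom_inv_id_assoc, Iso.hom_inv_id, Category.comp_id]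
    rw [← G'.map_comp, ey.inv_hom_id, G'.map_id, Category.comp_id]

/-- Version with `c` an equivalence. -/
theorem isEquivOver_fpMap' (ha : FibCat.IsEquivOver a) (hb : FibCat.IsEquivOver b) (hc : FibCat.IsEquivOver c) :
    FibCat.IsEquivOver (fpMap F G F' G' a b c e₁ e₂) :=
  isEquivOver_fpMap F G F' G' a b c e₁ e₂ ha hb (fun _ _ h => IsEquivOver.faithful hc h)
    (fun φ => IsEquivOver.full hc φ)

/-- The symmetry of the 2-fibre product. -/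
def fpSwap (F : 𝒳 ⥤ᵇ 𝒮) (G : 𝒴 ⥤ᵇ 𝒮) : FibCat.fp F G ⥤ᵇ FibCat.fp G F where
  toFunctor :=
    { obj := fun x => mkFp G F x.obj.snd x.obj.fst x.obj.iso.symm (Vert.iso_inv (fp_vert x))
      map := fun {x y} f => homFp f.hom.snd f.hom.fst (by
        change G.map f.hom.snd ≫ y.obj.iso.inv = x.obj.iso.inv ≫ F.map f.hom.fst
        rw [← cancel_epi x.obj.iso.hom, ← Category.assoc, ← fp_w f]
        simp)
      map_id := fun x => fp_hom_ext rfl rfl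
      map_comp := fun f g => fp_hom_ext rfl rfl }
  w := Functor.ext (fun x => fp_snd_eq x) (fun x y f => fp_map_snd f)

theorem isEquivOver_fpSwap (F : 𝒳 ⥤ᵇ 𝒮) (G : 𝒴 ⥤ᵇ 𝒮) : FibCat.IsEquivOver (fpSwap F G) := by
  refine isEquivOver_of ?_ ?_ ?_
  · intro x y φ ψ h
    exact fp_hom_ext (congrArg (fun t => t.hom.snd) h) (congrArg (fun t => t.hom.fst) h)
  · intro x y φ
    refine ⟨homFp φ.hom.snd φ.hom.fst ?_, fp_hom_ext rfl rfl⟩
    have := fp_w φ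
    change G.map φ.hom.fst ≫ y.obj.iso.inv = x.obj.iso.inv ≫ F.map φ.hom.snd at this
    rw [← cancel_mono y.obj.iso.inv, Category.assoc, Iso.hom_inv_id, Category.comp_id, Category.assoc, this]
    simp
  · intro y
    refine ⟨mkFp F G y.obj.snd y.obj.fst y.obj.iso.symm (Vert.iso_inv (fp_vert y)), isoFp (Iso.refl _) (Iso.refl _) ?_, ?_⟩
    · change G.map (𝟙 _) ≫ _ = _ ≫ F.map (𝟙 _)
      rw [G.map_id, F.map_id]
      simp [fpSwap]
    · exact (vert_fp_iff _).2 (vert_id _)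

theorem fpSwap_fst : BasedFunctor.comp (fpSwap F G) (FibCat.fpFst G F) = FibCat.fpSnd F G := rfl

theorem fpSwap_snd : BasedFunctor.comp (fpSwap F G) (FibCat.fpSnd G F) = FibCat.fpFst F G := rfl

end Functoriality

end K735.Fp
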