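import Groth.Agent.AlgSt.K735.Univ

/-!
# Universally open/closed/... morphisms of algebraic stacks, representable case (helper735)

`K735.UnivSt.FpAlg` and `K735.UnivSt.SpAlg` are the two inputs (2-fibre products of algebraic stacks are algebraic;
algebraic spaces are algebraic stacks).
-/

set_option autoImplicit false
set_option backward.isDefEq.respectTransparency false
set_option backward.isDefEq.respectTransparency.types false

universe u

open CategoryTheory CategoryTheory.Limits AlgebraicGeometry Opposite K735.Fib K735.Fp K735.Rep K735.Setoid K735.SpFp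
  K735.Pts K735.PtsSp K735.Top K735.Univ

namespace K735.UnivSt

variable {S : Scheme.{u}} {𝒳 𝒴 : AlgSt.Cat S} (f : 𝒳 ⥤ᵇ 𝒴)

theorem chartCont_of_isAlgStack {𝒵 : AlgSt.Cat S} (h : AlgSt.IsAlgStack Scheme.fppfPrecoverage 𝒵) : ChartCont 𝒵 := by
  obtain ⟨V, v, hv, hs⟩ := h.atlas
  exact chartCont_of_atlas h.isStack.1 v hv (surjective_of_repByAlgSpWith h.isStack.1 (isFibGrpd_overCat V) hs)

/-- Input: all base changes of `f` to algebraic stacks are algebraic stacks, as far as the topology is concerned. -/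
structure Inp : Prop where
  fibY : FibCat.IsFibGrpd 𝒴.p
  fibX : FibCat.IsFibGrpd 𝒳.p
  fp : ∀ (𝒵 : AlgSt.Cat S), AlgSt.IsAlgStack Scheme.fppfPrecoverage 𝒵 → ∀ (g : 𝒵 ⥤ᵇ 𝒴),
    AlgSt.IsAlgStack Scheme.fppfPrecoverage (FibCat.fp g f)
  sp : ∀ (Z : AlgSp.Space S), AlgSt.IsAlgStack Scheme.fppfPrecoverage (AlgSt.ofSp Z.obj)

variable {f}

theorem iff_open (I : Inp f) (hf : AlgSt.RepByAlgSp1 f) :
    AlgSt.RepByAlgSpWith AlgSp.IsUnivOpenMor f ↔ AlgSt.IsUnivOpen Scheme.fppfPrecoverage f := by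
  constructor
  · intro h 𝒵 h𝒵 g
    exact isOpenMap_of_with h𝒵.isStack.1 (I.fp 𝒵 h𝒵 g).isStack.1 (chartCont_of_isAlgStack (I.fp 𝒵 h𝒵 g))
      (with_of_univSp (repByAlgSpWith_fpFst g h))
  · intro h
    refine repByAlgSpWith_univ hf (fun φ => IsOpenMap φ) (fun φ => IsOpenMap φ) ?_ (fun Z g => h _ (I.sp Z) g)
    intro X Y X' Y' _ _ _ _ α β hα hβ φ ψ hc hψ
    have h1 : IsOpenMap (β ∘ φ) := hc ▸ hψ.comp hα.isOpenMap
    intro W hW
    have h2 := (h1 W hW).preimage hβ.continuous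
    rwa [Set.image_comp, Set.preimage_image_eq _ hβ.injective] at h2

theorem iff_closed (I : Inp f) (hf : AlgSt.RepByAlgSp1 f) :
    AlgSt.RepByAlgSpWith AlgSp.IsUnivClosedMor f ↔ AlgSt.IsUnivClosed Scheme.fppfPrecoverage f := by
  constructor
  · intro h 𝒵 h𝒵 g
    exact isClosedMap_of_with h𝒵.isStack.1 (I.fp 𝒵 h𝒵 g).isStack.1 (chartCont_of_isAlgStack (I.fp 𝒵 h𝒵 g))
      (with_of_univSp (repByAlgSpWith_fpFst g h))
  · intro h
    refine repByAlgSpWith_univ hf (fun φ => IsClosedMap φ) (fun φ => IsClosedMap φ) ?_ (fun Z g => h _ (I.sp Z) g)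
    intro X Y X' Y' _ _ _ _ α β hα hβ φ ψ hc hψ
    have h1 : IsClosedMap (β ∘ φ) := hc ▸ hψ.comp hα.isClosedMap
    intro W hW
    have h2 := (h1 W hW).preimage hβ.continuous
    rwa [Set.image_comp, Set.preimage_image_eq _ hβ.injective] at h2

theorem iff_submersive (I : Inp f) (hf : AlgSt.RepByAlgSp1 f) :
    AlgSt.RepByAlgSpWith AlgSp.IsUnivSubmersiveMor f ↔ ∀ (𝒵 : AlgSt.Cat S),
      AlgSt.IsAlgStack Scheme.fppfPrecoverage 𝒵 → ∀ (g : 𝒵 ⥤ᵇ 𝒴),
        Topology.IsQuotientMap (AlgSt.Points.map (FibCat.fpFst g f)) := by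
  constructor
  · intro h 𝒵 h𝒵 g
    exact isQuotientMap_of_with h𝒵.isStack.1 (chartCont_of_isAlgStack h𝒵) (I.fp 𝒵 h𝒵 g).isStack.1
      (chartCont_of_isAlgStack (I.fp 𝒵 h𝒵 g)) (with_of_univSp (repByAlgSpWith_fpFst g h))
  · intro h
    refine repByAlgSpWith_univ hf (fun φ => Topology.IsQuotientMap φ) (fun φ => Topology.IsQuotientMap φ) ?_
      (fun Z g => h _ (I.sp Z) g)
    intro X Y X' Y' _ _ _ _ α β hα hβ φ ψ hc hψ
    have h1 : Topology.IsQuotientMap (β ∘ φ) := hc ▸ hψ.comp hα.isQuotientMap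
    let e := hβ.homeomorph
    have h2 : φ = e.symm ∘ (β ∘ φ) := by
      funext x
      exact (e.symm_apply_apply (φ x)).symm
    rw [h2]
    exact e.symm.isQuotientMap.comp h1

theorem iff_injective (I : Inp f) (hf : AlgSt.RepByAlgSp1 f) :
    AlgSt.RepByAlgSpWith AlgSp.IsUnivInjectiveMor f ↔ AlgSt.IsUnivInjective Scheme.fppfPrecoverage f := by
  constructor
  · intro h 𝒵 h𝒵 g
    exact injective_of_with h𝒵.isStack.1 (I.fp 𝒵 h𝒵 g).isStack.1
      (with_of_univSp (repByAlgSpWith_fpFst g h))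
  · intro h
    refine repByAlgSpWith_univ hf (fun φ => Function.Injective φ) (fun φ => Function.Injective φ) ?_
      (fun Z g => h _ (I.sp Z) g)
    intro X Y X' Y' _ _ _ _ α β hα hβ φ ψ hc hψ
    have h1 : Function.Injective (β ∘ φ) := hc ▸ hψ.comp hα.injective
    exact Function.Injective.of_comp h1

theorem iff_homeo (I : Inp f) (hf : AlgSt.RepByAlgSp1 f) :
    AlgSt.RepByAlgSpWith AlgSp.IsUnivHomeoMor f ↔ AlgSt.IsUnivHomeo Scheme.fppfPrecoverage f := by
  constructor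
  · intro h 𝒵 h𝒵 g
    exact isHomeomorph_of_with h𝒵.isStack.1 (chartCont_of_isAlgStack h𝒵) (I.fp 𝒵 h𝒵 g).isStack.1
      (chartCont_of_isAlgStack (I.fp 𝒵 h𝒵 g)) (with_of_univSp (repByAlgSpWith_fpFst g h))
  · intro h
    refine repByAlgSpWith_univ hf (fun φ => IsHomeomorph φ) (fun φ => IsHomeomorph φ) ?_
      (fun Z g => h _ (I.sp Z) g)
    intro X Y X' Y' _ _ _ _ α β hα hβ φ ψ hc hψ
    have h1 : IsHomeomorph (β ∘ φ) := hc ▸ hψ.comp hα
    let e := hβ.homeomorph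
    have h2 : φ = e.symm ∘ (β ∘ φ) := by
      funext x
      exact (e.symm_apply_apply (φ x)).symm
    rw [h2]
    exact e.symm.isHomeomorph.comp h1

end K735.UnivSt
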