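import Groth.Agent.AlgSt.K735.Top
import Mathlib.AlgebraicGeometry.AlgClosed.Basic

/-!
# Lifting rational points over algebraically closed fields (helper735)

* `K735.Lift.exists_rational_section`: a nonempty scheme locally of finite type over an algebraically closed field has
  a rational point.
* `K735.Lift.exists_lift_of_mem_range`: for `v : 𝒱 ⟶ 𝒳` representable by algebraic spaces and locally of finite type,
  every `x : Spec k ⟶ 𝒳`, `k` algebraically closed, whose point is in the image of `|v|` lifts to `𝒱`.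
* `K735.Lift.exists_diag_lift`: objects of `𝒳 ×_𝒴 𝒳` over a field come from `𝒳` after a field extension when `|Δ|` is
  surjective.
-/

set_option autoImplicit false
set_option backward.isDefEq.respectTransparency false
set_option backward.isDefEq.respectTransparency.types false

universe v₄ u₄ v₃ u₃ v₂ u₂ v u

open CategoryTheory CategoryTheory.Limits AlgebraicGeometry Opposite K735.Fib K735.Fp K735.Rep K735.Setoid K735.SpFp
  K735.Pts K735.PtsSp K735.Top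

namespace K735.Lift

theorem exists_rational_section {k : Type u} [Field k] [IsAlgClosed k] {T : Scheme.{u}} (t : T)
    (a : T ⟶ Spec (CommRingCat.of k)) [LocallyOfFiniteType a] :
    ∃ σ : Spec (CommRingCat.of k) ⟶ T, σ ≫ a = 𝟙 _ := by
  have : JacobsonSpace T := LocallyOfFiniteType.jacobsonSpace a
  obtain ⟨z, -, hz⟩ := nonempty_inter_closedPoints (Z := (Set.univ : Set T)) ⟨t, trivial⟩ isClosed_univ.isLocallyClosed
  exact ⟨((pointEquivClosedPoint a).symm ⟨z, hz⟩).1, ((pointEquivClosedPoint a).symm ⟨z, hz⟩).2⟩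

variable {S : Scheme.{u}}

section

variable {𝒳 : BasedCategory.{v₂, u₂} (Over S)} {𝒱 : BasedCategory.{v₃, u₃} (Over S)}

theorem ofChart_yonF (h𝒳 : FibCat.IsFibGrpd 𝒳.p) {k : Type u} [Field k] {s : Spec (CommRingCat.of k) ⟶ S} (x : 𝒳.obj)
    (hx : 𝒳.p.obj x = Over.mk s) (t : ↥(Over.mk s : Over S).left) :
    AlgSt.Points.ofChart (yonF h𝒳 x hx) t = AlgSt.Points.mk ⟨k, s, x, hx⟩ := by
  let f : (FibCat.overCat (Over.mk s)).obj := Over.mk (Over.homMk ((Over.mk s).left.fromSpecResidueField t) rfl :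
    Over.mk ((Over.mk s).left.fromSpecResidueField t ≫ (Over.mk s).hom) ⟶ Over.mk s)
  exact mk_eq_of_hom ((yonF h𝒳 x hx).map (toId f) ≫ (yonFIso h𝒳 x hx).hom)

/-- Points over algebraically closed fields lift along morphisms representable by algebraic spaces and locally of
finite type. -/
theorem exists_lift_of_mem_range (h𝒳 : FibCat.IsFibGrpd 𝒳.p) (h𝒱 : FibCat.IsFibGrpd 𝒱.p) {v : 𝒱 ⥤ᵇ 𝒳}
    (hv : AlgSt.RepByAlgSpWith (AlgSp.LocP @LocallyOfFiniteType) v) {k : Type u} [Field k] [IsAlgClosed k]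
    {s : Spec (CommRingCat.of k) ⟶ S} (x : 𝒳.obj) (hx : 𝒳.p.obj x = Over.mk s)
    (h : AlgSt.Points.mk ⟨k, s, x, hx⟩ ∈ Set.range (AlgSt.Points.map v)) :
    ∃ (a : 𝒱.obj) (φ : v.obj a ⟶ x), 𝒱.p.obj a = Over.mk s ∧ 𝒳.p.IsHomLift (𝟙 (Over.mk s)) φ := by
  obtain ⟨z, hz⟩ := h
  obtain ⟨F, e, he, hq⟩ := hv _ (yonF h𝒳 x hx)
  let t : ↥(Over.mk s : Over S).left := IsLocalRing.closedPoint k
  obtain ⟨ξ, -, -⟩ := (exists_rep_fp h𝒳 h𝒱 (yonF h𝒳 x hx) e he t z).1 ((ofChart_yonF h𝒳 x hx t).trans hz.symm)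
  obtain ⟨T, p, hp, hps⟩ := F.property.atlas
  obtain ⟨t₀, -⟩ := K609.Points.surjective_ofPt_of_repWith_surjective hps ξ
  obtain ⟨a, ha⟩ := (AlgSp.yon S).map_surjective (p ≫ AlgSt.spMapOfOver (BasedFunctor.comp e (FibCat.fpFst (yonF h𝒳 x hx) v)))
  have hlft : LocallyOfFiniteType a.left := locP_chart hq hp ha.symm
  obtain ⟨σ, hσ⟩ := exists_rational_section t₀ a.left
  let σ' : Over.mk s ⟶ T := Over.homMk σ (by
    rw [← Over.w a, ← Category.assoc, hσ]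
    exact Category.id_comp _)
  have hσ' : σ' ≫ a = 𝟙 _ := Over.OverMorphism.ext hσ
  let ζ₀ : (AlgSt.ofSp F.obj).obj := (chart p).obj (Over.mk σ')
  let ζ := e.obj ζ₀
  obtain ⟨i⟩ := exists_iso_spMapOfOver (BasedFunctor.comp e (FibCat.fpFst (yonF h𝒳 x hx) v))
  have h1 : (BasedFunctor.comp (AlgSt.ofSpMap (AlgSt.spMapOfOver (BasedFunctor.comp e (FibCat.fpFst (yonF h𝒳 x hx) v))))
      (AlgSt.toOverCat (Over.mk s))).obj ζ₀ = idObj (Over.mk s) := by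
    change (AlgSt.toOverCat (Over.mk s)).obj ((AlgSt.ofSpMap (p ≫ AlgSt.spMapOfOver
      (BasedFunctor.comp e (FibCat.fpFst (yonF h𝒳 x hx) v)))).obj ((AlgSt.ofOverCat T).obj (Over.mk σ'))) = _
    rw [← ha]
    change Over.mk (σ' ≫ a) = _
    rw [hσ']
  let j : ζ.obj.fst ⟶ idObj (Over.mk s) := (isoApp i ζ₀).hom ≫ eqToHom h1
  have hj : Vert (FibCat.overCat (Over.mk s)).p j := (vert_isoApp i ζ₀).comp (vert_eqToHom h1)
  have hζ : Vert 𝒳.p ζ.obj.iso.hom := vert_of_isHomLift ζ.property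
  have hζ' : Vert 𝒳.p ζ.obj.iso.inv := hζ.iso_inv
  refine ⟨ζ.obj.snd, ζ.obj.iso.inv ≫ (yonF h𝒳 x hx).map j ≫ (yonFIso h𝒳 x hx).hom, ?_, ?_⟩
  · exact (fp_snd_eq ζ).trans (e.w_obj ζ₀)
  · exact (hζ'.comp ((hj.map _).comp (vert_yonFIso h𝒳 x hx))).isHomLift' hx

end

section Diag

variable {𝒳 : BasedCategory.{v₂, u₂} (Over S)} {𝒴 : BasedCategory.{v₃, u₃} (Over S)} {f : 𝒳 ⥤ᵇ 𝒴}

/-- Surjectivity of the diagonal on points gives lifts of 2-arrows over algebraically closed fields, when the diagonal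
is representable by algebraic spaces and locally of finite type. -/
theorem exists_hom_of_surjective_diag (h𝒳 : FibCat.IsFibGrpd 𝒳.p) (h𝒴 : FibCat.IsFibGrpd 𝒴.p)
    (hv : AlgSt.RepByAlgSpWith (AlgSp.LocP @LocallyOfFiniteType) (FibCat.diag f))
    (hΔ : AlgSt.IsSurjective (FibCat.diag f)) {k : Type u} [Field k] [IsAlgClosed k]
    {s : Spec (CommRingCat.of k) ⟶ S} (a₁ a₂ : 𝒳.obj) (h₁ : 𝒳.p.obj a₁ = Over.mk s) (h₂ : 𝒳.p.obj a₂ = Over.mk s)
    (β : f.obj a₁ ⟶ f.obj a₂) (hβ : 𝒴.p.IsHomLift (𝟙 (Over.mk s)) β) :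
    ∃ α : a₁ ⟶ a₂, 𝒳.p.IsHomLift (𝟙 (Over.mk s)) α ∧ f.map α = β := by
  have hβ' : Vert 𝒴.p β := vert_of_isHomLift hβ
  have : IsIso β := hβ'.isIso h𝒴
  let w := mkFp f f a₁ a₂ (asIso β) hβ'
  obtain ⟨a, φ, ha, hφ⟩ := exists_lift_of_mem_range (isFibGrpd_fp h𝒳 h𝒳 h𝒴 f f) h𝒳 hv w h₁ (hΔ _)
  have hφ' := vert_of_isHomLift hφ
  have h3 : Vert 𝒳.p φ.hom.fst := (vert_fp_iff _).1 hφ'
  have h4 : Vert 𝒳.p φ.hom.snd := (vert_fp_iff_snd _).1 hφ'
  have h5 : IsIso φ.hom.fst := h3.isIso h𝒳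
  have h6 : f.map φ.hom.fst ≫ β = 𝟙 _ ≫ f.map φ.hom.snd := φ.hom.w
  refine ⟨inv φ.hom.fst ≫ φ.hom.snd, (h3.inv.comp h4).isHomLift h₁, ?_⟩
  rw [f.map_comp, ← cancel_epi (f.map φ.hom.fst), ← Category.assoc, ← f.map_comp, IsIso.hom_inv_id, f.map_id,
    h6]
  rfl

/-- The converse. -/
theorem surjective_diag_of_exists_hom (h𝒳 : FibCat.IsFibGrpd 𝒳.p) (h𝒴 : FibCat.IsFibGrpd 𝒴.p)
    (H : ∀ (k : Type u) [Field k] [IsAlgClosed k] (s : Spec (CommRingCat.of k) ⟶ S) (a₁ a₂ : 𝒳.obj)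
        (_ : 𝒳.p.obj a₁ = Over.mk s) (_ : 𝒳.p.obj a₂ = Over.mk s) (β : f.obj a₁ ⟶ f.obj a₂),
        𝒴.p.IsHomLift (𝟙 (Over.mk s)) β →
          ∃ α : a₁ ⟶ a₂, 𝒳.p.IsHomLift (𝟙 (Over.mk s)) α ∧ f.map α = β) :
    AlgSt.IsSurjective (FibCat.diag f) := by
  intro z
  obtain ⟨⟨K, s, w, hw⟩, rfl⟩ := AlgSt.Points.mk_surjective z
  let L := AlgebraicClosure K
  let g : Spec (CommRingCat.of L) ⟶ Spec (CommRingCat.of K) := Spec.map (CommRingCat.ofHom (algebraMap K L))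
  let g' : Over.mk (g ≫ s) ⟶ Over.mk s := Over.homMk g rfl
  obtain ⟨w', φ, hw', hφ⟩ := exists_lift_eq (isFibGrpd_fp h𝒳 h𝒳 h𝒴 f f) hw g'
  obtain ⟨α, hα, hα'⟩ := H L (g ≫ s) w'.obj.fst w'.obj.snd hw' ((fp_snd_eq w').trans hw') w'.obj.iso.hom
    ((fp_vert w').isHomLift ((f.w_obj _).trans hw'))
  refine ⟨AlgSt.Points.mk ⟨L, g ≫ s, w'.obj.fst, hw'⟩, ?_⟩
  have h1 : (FibCat.diag f).obj w'.obj.fst ⟶ w' := homFp (𝟙 _) α (by
    change f.map (𝟙 _) ≫ _ = 𝟙 _ ≫ f.map α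
    rw [f.map_id, Category.id_comp, Category.id_comp, hα'])
  exact mk_eq_of_hom (h1 ≫ φ)

end Diag

end K735.Lift
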