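import Mathlib.RingTheory.Spectrum.Prime.Chevalley
import Mathlib.RingTheory.PolynomialAlgebra
import Mathlib.RingTheory.Flat.Basic
import Mathlib.AlgebraicGeometry.Morphisms.FiniteType
import Mathlib.RingTheory.Ideal.MinimalPrime.Localization
import Mathlib.FieldTheory.IsAlgClosed.Basic
import Mathlib.RingTheory.LocalRing.ResidueField.Ideal

/-!
# Two embeddings of a transcendental extension (helper735)

* `K735.Transc.finite_setOf_isUnit_sub`: `b - a` is a unit for only finitely many constants `a` if `b` is transcendental.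
* `K735.Transc.exists_two_embeddings`: two embeddings `α β : K → Ω` over `k` with `β t` transcendental over `α K`.
* `K735.Transc.false_of_lft`: consequence for schemes.
-/

set_option autoImplicit false

universe u v w

open CategoryTheory AlgebraicGeometry Polynomial TensorProduct

namespace K735.Transc

theorem finite_setOf_isUnit_sub {K : Type u} {B : Type v} {Ω : Type w} [Field K] [CommRing B] [Algebra K B]
    [Algebra.FiniteType K B] [Field Ω] (m : B →+* Ω) (b : B)
    (hb : Function.Injective (m.comp (aeval b : K[X] →ₐ[K] B).toRingHom)) :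
    {a : K | IsUnit (b - algebraMap K B a)}.Finite := by
  let φ : K[X] →+* B := (aeval b : K[X] →ₐ[K] B).toRingHom
  have hφ : φ.FinitePresentation := by
    refine RingHom.FinitePresentation.of_finiteType.1 ?_
    refine RingHom.FiniteType.of_comp_finiteType (f := (C : K →+* K[X])) ?_
    have : φ.comp (C : K →+* K[X]) = algebraMap K B := by
      ext a
      simp [φ]
    rw [this, RingHom.finiteType_algebraMap]
    infer_instance
  have hE := PrimeSpectrum.isConstructible_range_comap hφ
  obtain ⟨D, _, g, hg⟩ := PrimeSpectrum.exists_range_eq_of_isConstructible hE.compl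
  -- the generic point is in the range
  have h0 : (⊥ : PrimeSpectrum K[X]) ∈ Set.range (PrimeSpectrum.comap φ) := by
    refine ⟨PrimeSpectrum.comap m ⊥, ?_⟩
    ext x
    change m (φ x) = 0 ↔ x = 0
    exact ⟨fun h => hb (h.trans (map_zero _).symm), fun h => by rw [h, map_zero, map_zero]⟩
  -- hence `ker g ≠ ⊥`
  have h1 : ∃ h : K[X], h ≠ 0 ∧ g h = 0 := by
    by_contra hcon
    push Not at hcon
    have hinj : Function.Injective g := (injective_iff_map_eq_zero g).2 fun a ha => by
      by_contra h
      exact hcon a h ha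
    obtain ⟨P, hP, hP'⟩ := Ideal.exists_comap_eq_of_mem_minimalPrimes_of_injective hinj ⊥
      (by simp [IsDomain.minimalPrimes_eq_singleton_bot])
    have h2 : (⊥ : PrimeSpectrum K[X]) ∈ Set.range (PrimeSpectrum.comap g) :=
      ⟨⟨P, hP⟩, PrimeSpectrum.ext hP'⟩
    rw [hg] at h2
    exact h2 h0
  obtain ⟨h, hh, hgh⟩ := h1
  refine (h.rootSet_finite K).subset ?_
  intro a ha
  by_contra hroot
  have h3 : (⟨Ideal.span {X - C a}, (Ideal.span_singleton_prime (X_sub_C_ne_zero a)).2 (prime_X_sub_C a)⟩ :
      PrimeSpectrum K[X]) ∈ Set.range (PrimeSpectrum.comap φ) := by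
    by_contra hn
    have h4 : _ ∈ (Set.range (PrimeSpectrum.comap φ))ᶜ := hn
    rw [← hg] at h4
    obtain ⟨Q, hQ⟩ := h4
    have h5 : h ∈ Ideal.span {X - C a} := by
      rw [← show (PrimeSpectrum.comap g Q).asIdeal = Ideal.span {X - C a} from congrArg PrimeSpectrum.asIdeal hQ]
      change g h ∈ Q.asIdeal
      rw [hgh]
      exact Q.asIdeal.zero_mem
    apply hroot
    rw [Polynomial.mem_rootSet]
    rw [Ideal.mem_span_singleton, dvd_iff_isRoot] at h5
    exact ⟨hh, by simpa [Polynomial.aeval_def] using h5⟩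
  obtain ⟨Q, hQ⟩ := h3
  have h6 : φ (X - C a) ∈ Q.asIdeal := by
    have h7 : X - C a ∈ (PrimeSpectrum.comap φ Q).asIdeal := by
      rw [hQ]
      exact Ideal.mem_span_singleton_self _
    exact h7
  have h8 : φ (X - C a) = b - algebraMap K B a := by simp [φ]
  rw [h8] at h6
  exact Q.2.ne_top (Ideal.eq_top_of_isUnit_mem _ h6 ha)

theorem exists_two_embeddings (k : Type u) {K : Type u} [Field k] [Field K] [Algebra k K] [IsAlgClosed k] (t : K)
    (ht : t ∉ Set.range (algebraMap k K)) :
    ∃ (Ω : Type u) (_ : Field Ω) (α β : K →+* Ω), α.comp (algebraMap k K) = β.comp (algebraMap k K) ∧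
      ∀ P : K[X], P.eval₂ α (β t) = 0 → P = 0 := by
  have ht' : Transcendental k t := by
    intro h
    have := IntermediateField.isAlgebraic_adjoin_simple h.isIntegral
    have h1 := IntermediateField.eq_bot_of_isAlgClosed_of_isAlgebraic (IntermediateField.adjoin k {t})
    have h2 : t ∈ (⊥ : IntermediateField k K) := h1 ▸ IntermediateField.mem_adjoin_simple_self k t
    exact ht (IntermediateField.mem_bot.1 h2)
  let R := K ⊗[k] K
  -- `K[X] → K ⊗ K` is injective
  let ψ : K[X] →+* R := (aeval ((1 : K) ⊗ₜ[k] t) : K[X] →ₐ[K] R).toRingHom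
  have hψ : Function.Injective ψ := by
    have h1 : Function.Injective (LinearMap.lTensor K (aeval t : k[X] →ₐ[k] K).toLinearMap) :=
      Module.Flat.lTensor_preserves_injective_linearMap _ (transcendental_iff_injective.1 ht')
    have h2 : ∀ P : K[X], ψ P = LinearMap.lTensor K (aeval t : k[X] →ₐ[k] K).toLinearMap (polyEquivTensor k K P) := by
      intro P
      induction P using Polynomial.induction_on' with
      | add p q hp hq => rw [map_add, map_add, map_add, hp, hq]
      | monomial n a =>
        change aeval _ _ = _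
        rw [aeval_monomial, polyEquivTensor_apply, eval₂_monomial]
        rw [Algebra.TensorProduct.tmul_pow, one_pow]
        change algebraMap K R a * _ = LinearMap.lTensor K (aeval t : k[X] →ₐ[k] K).toLinearMap
          ((a ⊗ₜ[k] (1 : k[X])) * _)
        rw [Algebra.TensorProduct.tmul_pow, one_pow, Algebra.TensorProduct.tmul_mul_tmul, LinearMap.lTensor_tmul,
          Algebra.TensorProduct.algebraMap_apply, Algebra.TensorProduct.tmul_mul_tmul]
        simp
    intro P Q hPQ
    rw [h2, h2] at hPQ
    exact (polyEquivTensor k K).injective (h1 hPQ)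
  obtain ⟨Q, hQ, hQ'⟩ := Ideal.exists_comap_eq_of_mem_minimalPrimes_of_injective hψ ⊥
      (by simp [IsDomain.minimalPrimes_eq_singleton_bot])
  let Ω := Q.ResidueField
  let π : R →+* Ω := algebraMap R Ω
  refine ⟨Ω, inferInstance, π.comp (Algebra.TensorProduct.includeLeft : K →ₐ[k] R).toRingHom,
    π.comp (Algebra.TensorProduct.includeRight : K →ₐ[k] R).toRingHom, ?_, ?_⟩
  · ext a
    change π _ = π _
    congr 1
    exact ((Algebra.TensorProduct.includeLeft : K →ₐ[k] R).commutes a).trans
      ((Algebra.TensorProduct.includeRight : K →ₐ[k] R).commutes a).symm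
  · intro P hP
    have h3 : π (ψ P) = 0 := by
      rw [← hP]
      change π (aeval ((1 : K) ⊗ₜ[k] t) P) = _
      rw [aeval_def, hom_eval₂]
      rfl
    have h4 : ψ P ∈ Q := Ideal.algebraMap_residueField_eq_zero.1 h3
    have h5 : P ∈ Q.comap ψ := h4
    rw [hQ'] at h5
    exact h5

/-- Affine case. -/
theorem false_of_finiteType {k K Ω : Type u} {B : Type u} [Field k] [IsAlgClosed k] [Field K] [Field Ω] [Algebra k K]
    [CommRing B] (p q : K →+* B) (hp : p.FiniteType) (hpq : p.comp (algebraMap k K) = q.comp (algebraMap k K))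
    (m : B →+* Ω) (t : K) (ht : t ∉ Set.range (algebraMap k K))
    (htr : ∀ P : K[X], P.eval₂ (m.comp p) (m (q t)) = 0 → P = 0) : False := by
  algebraize [p]
  have : Algebra.FiniteType K B := hp
  have h1 := finite_setOf_isUnit_sub (K := K) m (q t) ((injective_iff_map_eq_zero _).2 fun P hP => by
    apply htr
    rw [← hP]
    change _ = m (aeval (q t) P)
    rw [aeval_def, hom_eval₂]
    rfl)
  have : Infinite k := IsAlgClosed.instInfinite
  have h2 : Set.range (algebraMap k K) ⊆ {a : K | IsUnit (q t - algebraMap K B a)} := by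
    rintro _ ⟨a, rfl⟩
    change IsUnit (q t - p (algebraMap k K a))
    rw [show p (algebraMap k K a) = q (algebraMap k K a) from DFunLike.congr_fun hpq a, ← map_sub]
    refine IsUnit.map q (IsUnit.mk0 _ ?_)
    intro h
    exact ht ⟨a, (sub_eq_zero.1 h).symm⟩
  exact (Set.infinite_range_of_injective (algebraMap k K).injective) (h1.subset h2)

theorem false_of_lft {k K Ω : Type u} [Field k] [IsAlgClosed k] [Field K] [Field Ω] [Algebra k K]
    (T : Scheme.{u}) (p q : T ⟶ Spec (CommRingCat.of K)) [LocallyOfFiniteType p]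
    (hpq : p ≫ Spec.map (CommRingCat.ofHom (algebraMap k K)) = q ≫ Spec.map (CommRingCat.ofHom (algebraMap k K)))
    (m : Spec (CommRingCat.of Ω) ⟶ T) (α β : K →+* Ω) (hα : m ≫ p = Spec.map (CommRingCat.ofHom α))
    (hβ : m ≫ q = Spec.map (CommRingCat.ofHom β)) (t : K) (ht : t ∉ Set.range (algebraMap k K))
    (htr : ∀ P : K[X], P.eval₂ α (β t) = 0 → P = 0) : False := by
  let x : T := m (IsLocalRing.closedPoint Ω)
  obtain ⟨_, ⟨V, hV, rfl⟩, hxV, -⟩ := T.isBasis_affineOpens.exists_subset_of_mem_open (Set.mem_univ x) isOpen_univ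
  let j : Spec Γ(T, V) ⟶ T := hV.fromSpec
  let m' : Spec (CommRingCat.of Ω) ⟶ Spec Γ(T, V) := IsOpenImmersion.lift j m (by
    rintro _ ⟨y, rfl⟩
    rw [hV.range_fromSpec]
    have : y = IsLocalRing.closedPoint Ω := Subsingleton.elim _ _
    rw [this]
    exact hxV)
  have hm' : m' ≫ j = m := IsOpenImmersion.lift_fac _ _ _
  obtain ⟨p', hp'⟩ := Spec.map_surjective (j ≫ p)
  obtain ⟨q', hq'⟩ := Spec.map_surjective (j ≫ q)
  obtain ⟨m'', hm''⟩ := Spec.map_surjective m'
  refine false_of_finiteType (k := k) p'.hom q'.hom ?_ ?_ m''.hom t ht ?_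
  · rw [← HasRingHomProperty.Spec_iff (P := @LocallyOfFiniteType), hp']
    infer_instance
  · have h1 : CommRingCat.ofHom (algebraMap k K) ≫ p' = CommRingCat.ofHom (algebraMap k K) ≫ q' := by
      apply Spec.map_injective
      rw [Spec.map_comp, Spec.map_comp, hp', hq', Category.assoc, Category.assoc, hpq]
    exact congrArg CommRingCat.Hom.hom h1
  · have h1 : p' ≫ m'' = CommRingCat.ofHom α := by
      apply Spec.map_injective
      rw [Spec.map_comp, hp', hm'', ← Category.assoc, hm', hα]
    have h2 : q' ≫ m'' = CommRingCat.ofHom β := by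
      apply Spec.map_injective
      rw [Spec.map_comp, hq', hm'', ← Category.assoc, hm', hβ]
    have h1' : m''.hom.comp p'.hom = α := congrArg CommRingCat.Hom.hom h1
    have h2' : m''.hom (q'.hom t) = β t := DFunLike.congr_fun (congrArg CommRingCat.Hom.hom h2) t
    rw [h1', h2']
    exact htr

end K735.Transc
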