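import Groth.Agent.AlgSt.K735.Lift
import Groth.Agent.AlgSt.K735.Transc

/-!
# Points over algebraically closed fields of stacks with surjective diagonal (helper735)

* `K735.Descend.exists_sec`: objects of the category represented by a sheaf come from sections.
* `K735.Descend.exists_lift_fieldPt`: field valued sections of a space lift to a chart after a field extension.
* `K735.Descend.exists_rational`: an algebraic stack over an algebraically closed field `k` all of whose points are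
  locally isomorphic has a `k`-point.
-/

set_option autoImplicit false
set_option backward.isDefEq.respectTransparency false
set_option backward.isDefEq.respectTransparency.types false

universe v₄ u₄ v₃ u₃ v₂ u₂ v u

open CategoryTheory CategoryTheory.Limits AlgebraicGeometry Opposite K735.Fib K735.Fp K735.Rep K735.Setoid K735.SpFp
  K735.Pts K735.PtsSp K735.Top K735.Lift

namespace K735.Descend

/-- A nonempty scheme has a field-valued point that is locally of finite type. -/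
theorem exists_lft_point {U : Scheme.{u}} (u : U) : ∃ (K : Type u) (_ : Field K) (g : Spec (CommRingCat.of K) ⟶ U),
    LocallyOfFiniteType g := by
  obtain ⟨_, ⟨V, hV, rfl⟩, huV, -⟩ := U.isBasis_affineOpens.exists_subset_of_mem_open (Set.mem_univ u) isOpen_univ
  have hne : Nontrivial Γ(U, V) := by
    have : Nonempty V := ⟨⟨u, huV⟩⟩
    infer_instance
  obtain ⟨M, hM⟩ := Ideal.exists_maximal Γ(U, V)
  let g : Spec (CommRingCat.of (Γ(U, V) ⧸ M)) ⟶ Spec Γ(U, V) := Spec.map (CommRingCat.ofHom (Ideal.Quotient.mk M))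
  have : IsClosedImmersion g := IsClosedImmersion.spec_of_quotient_mk M
  exact ⟨Γ(U, V) ⧸ M, Ideal.Quotient.field M, g ≫ hV.fromSpec, inferInstance⟩

variable {S : Scheme.{u}}

section

variable {𝒲 : BasedCategory.{v₂, u₂} (Over S)} {F : AlgSp.Sp S}

theorem exists_sec (e : AlgSt.ofSp F ⥤ᵇ 𝒲) (he : FibCat.IsEquivOver e) (d : 𝒲.obj) {X : Over S} (hd : 𝒲.p.obj d = X) :
    ∃ (ξ : F.obj.obj (op X)) (φ : e.obj ⟨X, ξ⟩ ⟶ d), Vert 𝒲.p φ := by
  obtain ⟨⟨Y, ξ⟩, φ, hφ⟩ := IsEquivOver.essSurj he d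
  have h : Y = X := ((e.w_obj ⟨Y, ξ⟩).symm.trans hφ.eq.symm).trans hd
  subst h
  exact ⟨ξ, φ.hom, hφ⟩

theorem spMapOfOver_app {U : Over S} (Φ : AlgSt.ofSp F ⥤ᵇ FibCat.overCat U) {X : Over S} (ξ : F.obj.obj (op X))
    {d : (FibCat.overCat U).obj} (φ : Φ.obj ⟨X, ξ⟩ ⟶ d) (hφ : Vert (FibCat.overCat U).p φ) (h : X ⟶ U)
    (hd : eqToHom (hφ.eq.trans (Φ.w_obj ⟨X, ξ⟩)).symm ≫ d.hom = h) :
    (AlgSt.spMapOfOver Φ).hom.app (op X) ξ = ⟨h⟩ := by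
  subst hd
  apply ULift.ext
  change AlgSt.secHom Φ ⟨X, ξ⟩ = _
  have h1 : φ.left = eqToHom hφ.eq.symm := hφ.map_eq
  have h2 : φ.left ≫ d.hom = (Φ.obj ⟨X, ξ⟩).hom := Over.w φ
  rw [AlgSt.secHom, ← h2, h1, eqToHom_trans_assoc]

/-- Field valued sections of a space lift to an etale chart after a field extension. -/
theorem exists_lift_fieldPt {T : Over S} {p : (AlgSp.yon S).obj T ⟶ F} (hps : AlgSp.RepWith @Surjective p)
    {K : Type u} [Field K] {s : Spec (CommRingCat.of K) ⟶ S} (ξ : F.obj.obj (op (Over.mk s))) :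
    ∃ (Ω : Type u) (_ : Field Ω) (w : Spec (CommRingCat.of Ω) ⟶ S) (h : Over.mk w ⟶ Over.mk s) (m : Over.mk w ⟶ T),
      p.hom.app (op (Over.mk w)) ⟨m⟩ = F.obj.map h.op ξ := by
  obtain ⟨t, ht⟩ := K609.Points.surjective_ofPt_of_repWith_surjective hps (AlgSp.Points.mk ⟨K, s, ξ⟩)
  obtain ⟨Ω, _, w, a, b, hab⟩ := AlgSp.Points.mk_eq_mk_iff.1 ht
  refine ⟨Ω, inferInstance, w, b, a ≫ Over.homMk (T.left.fromSpecResidueField t) rfl, ?_⟩
  rw [← hab]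
  change _ = F.obj.map a.op (p.hom.app _ _)
  rw [← NatTrans.naturality_apply]
  rfl

theorem exists_vert_spMap {U : Over S} (Φ : AlgSt.ofSp F ⥤ᵇ FibCat.overCat U) {T : Over S}
    (p : (AlgSp.yon S).obj T ⟶ F) (a : T ⟶ U) (ha : (AlgSp.yon S).map a = p ≫ AlgSt.spMapOfOver Φ) :
    ∃ φ : (Over.mk a : (FibCat.overCat U).obj) ⟶ Φ.obj ((chart p).obj (Over.mk (𝟙 T))), Vert (FibCat.overCat U).p φ := by
  obtain ⟨i⟩ := exists_iso_spMapOfOver Φ
  have h1 : (BasedFunctor.comp (AlgSt.ofSpMap (AlgSt.spMapOfOver Φ)) (AlgSt.toOverCat U)).obj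
      ((chart p).obj (Over.mk (𝟙 T))) = Over.mk a := by
    change (AlgSt.toOverCat U).obj ((AlgSt.ofSpMap (p ≫ AlgSt.spMapOfOver Φ)).obj
      ((AlgSt.ofOverCat T).obj (Over.mk (𝟙 T)))) = _
    rw [← ha]
    change Over.mk (𝟙 T ≫ a) = _
    rw [Category.id_comp]
  exact ⟨eqToHom h1.symm ≫ (isoApp i _).inv, (vert_eqToHom _).comp (vert_isoApp i _).iso_inv⟩

theorem exists_section {𝒵 : BasedCategory.{v₂, u₂} (Over S)} (h𝒵 : FibCat.IsFibGrpd 𝒵.p) {k : Type u} [Field k]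
    [IsAlgClosed k] {s : Spec (CommRingCat.of k) ⟶ S} {U : Over S} (u : ↥U.left) (b : U ⟶ Over.mk s)
    {v : FibCat.overCat U ⥤ᵇ 𝒵} (hv : AlgSt.RepByAlgSpWith (AlgSp.LocP @LocallyOfFiniteType) v)
    (H : ∀ (X : Over S) (a₁ a₂ : X ⟶ U) (φ : v.obj (Over.mk a₁) ⟶ v.obj (Over.mk a₂)), Vert 𝒵.p φ → a₁ ≫ b = a₂ ≫ b)
    (D : ∀ (Ω : Type u) [Field Ω] (s' : Spec (CommRingCat.of Ω) ⟶ S) (a₁ a₂ : Over.mk s' ⟶ U), a₁ ≫ b = a₂ ≫ b →
      ∃ (Ω' : Type u) (_ : Field Ω') (s'' : Spec (CommRingCat.of Ω') ⟶ S) (h : Over.mk s'' ⟶ Over.mk s')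
        (φ : v.obj (Over.mk (h ≫ a₁)) ⟶ v.obj (Over.mk (h ≫ a₂))), Vert 𝒵.p φ) :
    ∃ σ : Over.mk s ⟶ U, σ ≫ b = 𝟙 _ := by
  obtain ⟨K, _, g, hg⟩ := exists_lft_point u
  let Y : Over S := Over.mk (g ≫ U.hom)
  let γ : Y ⟶ U := Over.homMk g rfl
  obtain ⟨ι, hι⟩ := Spec.map_surjective (g ≫ b.left : Spec (CommRingCat.of K) ⟶ Spec (CommRingCat.of k))
  let _ : Algebra k K := ι.hom.toAlgebra
  have hι' : Spec.map (CommRingCat.ofHom (algebraMap k K)) = g ≫ b.left := hι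
  have hU : b.left ≫ s = U.hom := Over.w b
  by_cases hsurj : Function.Surjective (algebraMap k K)
  · let E := RingEquiv.ofBijective (algebraMap k K) ⟨(algebraMap k K).injective, hsurj⟩
    let σ₀ : Spec (CommRingCat.of k) ⟶ Spec (CommRingCat.of K) := Spec.map (CommRingCat.ofHom E.symm.toRingHom)
    have hσ₀ : σ₀ ≫ g ≫ b.left = 𝟙 _ := by
      rw [← hι', ← Spec.map_comp, ← CommRingCat.ofHom_comp]
      have : E.symm.toRingHom.comp (algebraMap k K) = RingHom.id k := by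
        ext a
        exact E.symm_apply_apply a
      rw [this]
      exact Spec.map_id _
    refine ⟨Over.homMk (σ₀ ≫ g) ?_, Over.OverMorphism.ext ?_⟩
    · rw [← hU]
      change (σ₀ ≫ g) ≫ b.left ≫ s = s
      rw [← Category.assoc, Category.assoc σ₀, hσ₀, Category.id_comp]
    · change (σ₀ ≫ g) ≫ b.left = _
      rw [Category.assoc, hσ₀]
      rfl
  · exfalso
    obtain ⟨t, ht⟩ : ∃ t : K, t ∉ Set.range (algebraMap k K) := by
      by_contra hcon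
      push Not at hcon
      exact hsurj hcon
    obtain ⟨Ω, _, α, β, hαβ, htr⟩ := Transc.exists_two_embeddings k t ht
    have hαβ' : Spec.map (CommRingCat.ofHom α) ≫ g ≫ b.left = Spec.map (CommRingCat.ofHom β) ≫ g ≫ b.left := by
      rw [← hι', ← Spec.map_comp, ← Spec.map_comp, ← CommRingCat.ofHom_comp, ← CommRingCat.ofHom_comp, hαβ]
    let X₁ : Over S := Over.mk (Spec.map (CommRingCat.ofHom α) ≫ g ≫ U.hom)
    let α' : X₁ ⟶ Y := Over.homMk (Spec.map (CommRingCat.ofHom α)) rfl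
    let β' : X₁ ⟶ Y := Over.homMk (Spec.map (CommRingCat.ofHom β)) (by
      change Spec.map (CommRingCat.ofHom β) ≫ g ≫ U.hom = Spec.map (CommRingCat.ofHom α) ≫ g ≫ U.hom
      rw [← hU, ← Category.assoc g, ← Category.assoc, ← hαβ']
      simp only [Category.assoc])
    obtain ⟨Ω', _, s'', h, φ, hφ⟩ := D Ω _ (α' ≫ γ) (β' ≫ γ) (Over.OverMorphism.ext (by
      change (Spec.map (CommRingCat.ofHom α) ≫ g) ≫ b.left = (Spec.map (CommRingCat.ofHom β) ≫ g) ≫ b.left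
      rw [Category.assoc, Category.assoc, hαβ']))
    obtain ⟨φ, hφ⟩ : ∃ φ : v.obj (Over.mk ((h ≫ α') ≫ γ)) ⟶ v.obj (Over.mk ((h ≫ β') ≫ γ)), Vert 𝒵.p φ := by
      rw [Category.assoc, Category.assoc]
      exact ⟨φ, hφ⟩
    -- the space `F = Y ×_𝒵 U`
    let x : FibCat.overCat Y ⥤ᵇ 𝒵 := BasedFunctor.comp (AlgSt.overMap γ) v
    obtain ⟨F, e, he, hq⟩ := hv _ x
    have := hφ.isIso h𝒵
    let d : (FibCat.fp x v).obj := mkFp x v (Over.mk (h ≫ α')) (Over.mk ((h ≫ β') ≫ γ)) (asIso φ) hφ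
    obtain ⟨ξ, ψ, hψ⟩ := exists_sec e he d (X := Over.mk s'') rfl
    have h₁ := spMapOfOver_app (BasedFunctor.comp e (FibCat.fpFst x v)) ξ (d := Over.mk (h ≫ α')) ψ.hom.fst
      ((vert_fp_iff _).1 hψ) (h ≫ α') (by
        exact Category.id_comp _)
    have h₂ := spMapOfOver_app (BasedFunctor.comp e (FibCat.fpSnd x v)) ξ (d := Over.mk ((h ≫ β') ≫ γ)) ψ.hom.snd
      ((vert_fp_iff_snd _).1 hψ) ((h ≫ β') ≫ γ) (by
        exact Category.id_comp _)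
    obtain ⟨T, p, hp, hps⟩ := F.property.atlas
    obtain ⟨Ω'', _, w, h', m, hm⟩ := exists_lift_fieldPt hps ξ
    obtain ⟨a, ha⟩ := (AlgSp.yon S).map_surjective (p ≫ AlgSt.spMapOfOver (BasedFunctor.comp e (FibCat.fpFst x v)))
    obtain ⟨r, hr⟩ := (AlgSp.yon S).map_surjective (p ≫ AlgSt.spMapOfOver (BasedFunctor.comp e (FibCat.fpSnd x v)))
    have hlft : LocallyOfFiniteType a.left := locP_chart hq hp ha.symm
    have hma : m ≫ a = h' ≫ h ≫ α' := by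
      have h3 := congrArg (fun c : (AlgSp.yon S).obj T ⟶ (AlgSp.yon S).obj Y => c.hom.app (op (Over.mk w)) ⟨m⟩) ha
      change (⟨m ≫ a⟩ : ULift _) = (AlgSt.spMapOfOver (BasedFunctor.comp e (FibCat.fpFst x v))).hom.app _
        (p.hom.app (op (Over.mk w)) ⟨m⟩) at h3
      rw [hm, NatTrans.naturality_apply, h₁] at h3
      exact congrArg ULift.down h3
    have hmr : m ≫ r = h' ≫ (h ≫ β') ≫ γ := by
      have h3 := congrArg (fun c : (AlgSp.yon S).obj T ⟶ (AlgSp.yon S).obj U => c.hom.app (op (Over.mk w)) ⟨m⟩) hr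
      change (⟨m ≫ r⟩ : ULift _) = (AlgSt.spMapOfOver (BasedFunctor.comp e (FibCat.fpSnd x v))).hom.app _
        (p.hom.app (op (Over.mk w)) ⟨m⟩) at h3
      rw [hm, NatTrans.naturality_apply, h₂] at h3
      exact congrArg ULift.down h3
    -- compatibility over `Spec k`
    have hab : a ≫ γ ≫ b = r ≫ b := by
      obtain ⟨φ₁, hφ₁⟩ := exists_vert_spMap (BasedFunctor.comp e (FibCat.fpFst x v)) p a ha
      obtain ⟨φ₂, hφ₂⟩ := exists_vert_spMap (BasedFunctor.comp e (FibCat.fpSnd x v)) p r hr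
      let ζ := e.obj ((chart p).obj (Over.mk (𝟙 T)))
      have := hφ₂.isIso (isFibGrpd_overCat U)
      have hζ : Vert 𝒵.p ζ.obj.iso.hom := fp_vert ζ
      rw [← Category.assoc]
      refine H T (a ≫ γ) r (x.map φ₁ ≫ ζ.obj.iso.hom ≫ v.map (inv φ₂)) ?_
      exact (hφ₁.map x).comp (hζ.comp (hφ₂.inv.map v))
    -- the scheme `T ×_U Spec K`
    let p' : pullback r.left g ⟶ Spec (CommRingCat.of K) := pullback.fst r.left g ≫ a.left
    let q' : pullback r.left g ⟶ Spec (CommRingCat.of K) := pullback.snd r.left g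
    have hp' : LocallyOfFiniteType p' := inferInstance
    have hpq : p' ≫ Spec.map (CommRingCat.ofHom (algebraMap k K)) =
        q' ≫ Spec.map (CommRingCat.ofHom (algebraMap k K)) := by
      have h3 : a.left ≫ g ≫ b.left = r.left ≫ b.left := congrArg CommaMorphism.left hab
      rw [hι']
      change (pullback.fst r.left g ≫ a.left) ≫ g ≫ b.left = pullback.snd r.left g ≫ g ≫ b.left
      rw [Category.assoc, h3, ← Category.assoc, pullback.condition, Category.assoc]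
    obtain ⟨ω, hω⟩ := Spec.map_surjective ((h' ≫ h).left : Spec (CommRingCat.of Ω'') ⟶ Spec (CommRingCat.of Ω))
    have hma' : m.left ≫ a.left = (h' ≫ h).left ≫ Spec.map (CommRingCat.ofHom α) := by
      have h3 := congrArg CommaMorphism.left hma
      rw [← Category.assoc] at h3
      exact h3
    have hmr' : m.left ≫ r.left = ((h' ≫ h).left ≫ Spec.map (CommRingCat.ofHom β)) ≫ g := by
      have h3 := congrArg CommaMorphism.left hmr
      rw [Category.assoc, ← Category.assoc h' h] at h3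
      exact h3.trans (Category.assoc _ _ _).symm
    let m' : Spec (CommRingCat.of Ω'') ⟶ pullback r.left g :=
      pullback.lift m.left ((h' ≫ h).left ≫ Spec.map (CommRingCat.ofHom β)) hmr'
    refine Transc.false_of_lft (k := k) (pullback r.left g) p' q' hpq m' (ω.hom.comp α) (ω.hom.comp β) ?_ ?_ t ht ?_
    · change m' ≫ pullback.fst r.left g ≫ a.left = _
      rw [← Category.assoc, pullback.lift_fst, hma', ← hω, ← Spec.map_comp]
      rfl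
    · change m' ≫ pullback.snd r.left g = _
      rw [pullback.lift_snd, ← hω, ← Spec.map_comp]
      rfl
    · intro P hP
      apply htr
      apply ω.hom.injective
      rw [map_zero, Polynomial.hom_eval₂]
      exact hP

end

section Main

variable {𝒳 : BasedCategory.{v₂, u₂} (Over S)} {𝒴 : BasedCategory.{v₃, u₃} (Over S)} {f : 𝒳 ⥤ᵇ 𝒴}

/-- Surjectivity of the diagonal: 2-arrows of `𝒴` between objects of `𝒳` over a field lift after a field extension. -/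
theorem exists_lift_hom (h𝒳 : FibCat.IsFibGrpd 𝒳.p) (h𝒴 : FibCat.IsFibGrpd 𝒴.p)
    (hΔ : AlgSt.IsSurjective (FibCat.diag f)) {K : Type u} [Field K] {s : Spec (CommRingCat.of K) ⟶ S} (a₁ a₂ : 𝒳.obj)
    (h₁ : 𝒳.p.obj a₁ = Over.mk s) (β : f.obj a₁ ⟶ f.obj a₂) (hβ : Vert 𝒴.p β) :
    ∃ (Ω : Type u) (_ : Field Ω) (w : Spec (CommRingCat.of Ω) ⟶ S) (h : Over.mk w ⟶ Over.mk s) (c : 𝒳.obj)
      (c₁ : c ⟶ a₁) (c₂ : c ⟶ a₂) (hc : 𝒳.p.obj c = Over.mk w),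
      𝒳.p.map c₁ = eqToHom hc ≫ h ≫ eqToHom h₁.symm ∧ f.map c₁ ≫ β = f.map c₂ := by
  have : IsIso β := hβ.isIso h𝒴
  let w := mkFp f f a₁ a₂ (asIso β) hβ
  obtain ⟨z, hz⟩ := hΔ (AlgSt.Points.mk ⟨K, s, w, h₁⟩)
  obtain ⟨p, rfl⟩ := AlgSt.Points.mk_surjective z
  obtain ⟨r, A, B, -⟩ := (mk_eq_mk_iff (isFibGrpd_fp h𝒳 h𝒳 h𝒴 f f)).1 hz
  obtain ⟨Ω, str, obj, lies⟩ := r
  change obj ⟶ (FibCat.diag f).obj p.obj at A
  change obj ⟶ w at B
  have hA : f.map A.hom.fst = obj.obj.iso.hom ≫ f.map A.hom.snd := (Category.comp_id _).symm.trans A.hom.w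
  have hB : f.map B.hom.fst ≫ β = obj.obj.iso.hom ≫ f.map B.hom.snd := B.hom.w
  obtain ⟨κ, hκ, hκ'⟩ := exists_hom h𝒳 A.hom.snd A.hom.fst (eqToHom (fp_snd_eq obj).symm) (by
    rw [fp_map_snd A, eqToHom_trans_assoc, eqToHom_refl, Category.id_comp]
    exact Category.comp_id _)
  have hκv : Vert 𝒳.p κ := vert_of_map_eq _ hκ
  have hκ'' : f.map κ = obj.obj.iso.hom := by
    apply hom_ext' h𝒴 (f.map A.hom.snd)
    · rw [(hκv.map f).map_eq, (fp_vert obj).map_eq]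
    · rw [← f.map_comp, hκ', hA]
  refine ⟨Ω, inferInstance, str, eqToHom lies.symm ≫ 𝒳.p.map B.hom.fst ≫ eqToHom h₁, obj.obj.fst, B.hom.fst,
    κ ≫ B.hom.snd, lies, ?_, ?_⟩
  · simp
  · rw [hB, f.map_comp, hκ'']

theorem fp_w_comp {𝒰 : BasedCategory.{v₄, u₄} (Over S)} {g : 𝒰 ⥤ᵇ 𝒴} {Z z₁ z₂ : (FibCat.fp g f).obj} (r : Z ⟶ z₁)
    (θ : z₁.obj.fst ⟶ z₂.obj.fst) (ρ : Z.obj.snd ⟶ z₂.obj.snd)
    (h : f.map ρ = f.map r.hom.snd ≫ z₁.obj.iso.inv ≫ g.map θ ≫ z₂.obj.iso.hom) :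
    g.map (r.hom.fst ≫ θ) ≫ z₂.obj.iso.hom = Z.obj.iso.hom ≫ f.map ρ := by
  rw [h, ← Category.assoc Z.obj.iso.hom, ← fp_w r, g.map_comp]
  simp

/-- Points over algebraically closed fields in the image of a morphism with surjective diagonal lift, given a
nonempty chart of the fibre. -/
theorem exists_lift_algClosed (h𝒳 : FibCat.IsFibGrpd 𝒳.p) (h𝒴 : FibCat.IsFibGrpd 𝒴.p)
    (hΔ : AlgSt.IsSurjective (FibCat.diag f)) {k : Type u} [Field k] [IsAlgClosed k]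
    {s : Spec (CommRingCat.of k) ⟶ S} (y : 𝒴.obj) (hy : 𝒴.p.obj y = Over.mk s) {U : Over S} (u : ↥U.left)
    {v : FibCat.overCat U ⥤ᵇ FibCat.fp (yonF h𝒴 y hy) f}
    (hv : AlgSt.RepByAlgSpWith (AlgSp.LocP @LocallyOfFiniteType) v) :
    ∃ (x : 𝒳.obj) (φ : f.obj x ⟶ y), 𝒳.p.obj x = Over.mk s ∧ 𝒴.p.IsHomLift (𝟙 (Over.mk s)) φ := by
  have h𝒵 : FibCat.IsFibGrpd (FibCat.fp (yonF h𝒴 y hy) f).p := isFibGrpd_fp (isFibGrpd_overCat _) h𝒳 h𝒴 _ _
  obtain ⟨b, ⟨i⟩⟩ := exists_iso_overMap (BasedFunctor.comp v (FibCat.fpFst (yonF h𝒴 y hy) f))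
  -- the first component of `v a` is `a ≫ b`
  have key : ∀ {X : Over S} (a : X ⟶ U), ∃ θ : (v.obj (Over.mk a)).obj.fst ⟶ Over.mk (a ≫ b),
      Vert (FibCat.overCat (Over.mk s)).p θ := fun {X} a =>
    ⟨(isoApp i (Over.mk a)).hom, vert_isoApp i _⟩
  have H : ∀ (X : Over S) (a₁ a₂ : X ⟶ U) (φ : v.obj (Over.mk a₁) ⟶ v.obj (Over.mk a₂)),
      Vert (FibCat.fp (yonF h𝒴 y hy) f).p φ → a₁ ≫ b = a₂ ≫ b := by
    intro X a₁ a₂ φ hφ
    obtain ⟨θ₁, hθ₁⟩ := key a₁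
    obtain ⟨θ₂, hθ₂⟩ := key a₂
    have := hθ₁.isIso (isFibGrpd_overCat _)
    have h1 := hθ₁.inv.comp (((vert_fp_iff φ).1 hφ).comp hθ₂)
    have h2 : (inv θ₁ ≫ φ.hom.fst ≫ θ₂).left ≫ (a₂ ≫ b) = a₁ ≫ b := Over.w (inv θ₁ ≫ φ.hom.fst ≫ θ₂)
    have h3 : (inv θ₁ ≫ φ.hom.fst ≫ θ₂).left = 𝟙 X := h1.map_eq
    rw [h3] at h2
    exact h2.symm.trans (Category.id_comp _)
  have D : ∀ (Ω : Type u) [Field Ω] (s' : Spec (CommRingCat.of Ω) ⟶ S) (a₁ a₂ : Over.mk s' ⟶ U), a₁ ≫ b = a₂ ≫ b →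
      ∃ (Ω' : Type u) (_ : Field Ω') (s'' : Spec (CommRingCat.of Ω') ⟶ S) (h : Over.mk s'' ⟶ Over.mk s')
        (φ : v.obj (Over.mk (h ≫ a₁)) ⟶ v.obj (Over.mk (h ≫ a₂))), Vert (FibCat.fp (yonF h𝒴 y hy) f).p φ := by
    intro Ω _ s' a₁ a₂ ha
    obtain ⟨θ₁, hθ₁⟩ := key a₁
    obtain ⟨θ₂, hθ₂⟩ := key a₂
    have := hθ₂.isIso (isFibGrpd_overCat _)
    let z₁ := v.obj (Over.mk a₁)
    let z₂ := v.obj (Over.mk a₂)
    let θ : z₁.obj.fst ⟶ z₂.obj.fst := θ₁ ≫ eqToHom (by rw [ha]) ≫ inv θ₂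
    have hθ : Vert (FibCat.overCat (Over.mk s)).p θ := hθ₁.comp ((vert_eqToHom _).comp hθ₂.inv)
    let β : f.obj z₁.obj.snd ⟶ f.obj z₂.obj.snd := z₁.obj.iso.inv ≫ (yonF h𝒴 y hy).map θ ≫ z₂.obj.iso.hom
    have hβ : Vert 𝒴.p β := (fp_vert z₁).iso_inv.comp ((hθ.map _).comp (fp_vert z₂))
    obtain ⟨Ω', _, w, h, c, c₁, c₂, hc, hc₁, hc₂⟩ := exists_lift_hom h𝒳 h𝒴 hΔ z₁.obj.snd z₂.obj.snd
      ((fp_snd_eq z₁).trans (v.w_obj _)) β hβ
    refine ⟨Ω', inferInstance, w, h, ?_⟩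
    let e₁ : (Over.mk (h ≫ a₁) : (FibCat.overCat U).obj) ⟶ Over.mk a₁ := Over.homMk h rfl
    let e₂ : (Over.mk (h ≫ a₂) : (FibCat.overCat U).obj) ⟶ Over.mk a₂ := Over.homMk h rfl
    let r₁ := v.map e₁
    let r₂ := v.map e₂
    have hr₁ : 𝒳.p.map r₁.hom.snd = _ := map_map (BasedFunctor.comp v (FibCat.fpSnd (yonF h𝒴 y hy) f)) e₁
    have hr₁' : (FibCat.fp (yonF h𝒴 y hy) f).p.map r₁ = _ := map_map v e₁
    have hr₂' : (FibCat.fp (yonF h𝒴 y hy) f).p.map r₂ = _ := map_map v e₂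
    obtain ⟨κ, hκ, hκ'⟩ := exists_hom h𝒳 c₁ r₁.hom.snd (eqToHom (((fp_snd_eq _).trans (v.w_obj _)).trans hc.symm)) (by
      rw [hr₁, hc₁]
      simp
      rfl)
    have hρ : f.map (κ ≫ c₂) = f.map r₁.hom.snd ≫ β := by
      rw [f.map_comp, ← hc₂, ← Category.assoc, ← f.map_comp, hκ']
    let ρ : v.obj (Over.mk (h ≫ a₁)) ⟶ z₂ := homFp (r₁.hom.fst ≫ θ) (κ ≫ c₂) (fp_w_comp r₁ θ _ hρ)
    have hw : (FibCat.fp (yonF h𝒴 y hy) f).p.obj (v.obj (Over.mk (h ≫ a₁))) =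
        (FibCat.fp (yonF h𝒴 y hy) f).p.obj (v.obj (Over.mk (h ≫ a₂))) :=
      (v.w_obj (Over.mk (h ≫ a₁))).trans (v.w_obj (Over.mk (h ≫ a₂))).symm
    obtain ⟨φ, hφ, -⟩ := exists_hom h𝒵 r₂ ρ (eqToHom hw) (by
      have h5 : (FibCat.fp (yonF h𝒴 y hy) f).p.map ρ = (FibCat.fp (yonF h𝒴 y hy) f).p.map r₁ ≫
        (FibCat.overCat (Over.mk s)).p.map θ := rfl
      rw [hr₂', h5, hr₁', hθ.map_eq]
      simp
      rfl)
    exact ⟨φ, vert_of_map_eq _ hφ⟩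
  obtain ⟨σ, hσ⟩ := exists_section h𝒵 u b hv H D
  let ζ := v.obj (Over.mk σ)
  obtain ⟨θ, hθ⟩ := key σ
  let θ' : ζ.obj.fst ⟶ idObj (Over.mk s) := θ ≫ eqToHom (by rw [hσ])
  have hθ' : Vert (FibCat.overCat (Over.mk s)).p θ' := hθ.comp (vert_eqToHom _)
  refine ⟨ζ.obj.snd, ζ.obj.iso.inv ≫ (yonF h𝒴 y hy).map θ' ≫ (yonFIso h𝒴 y hy).hom, ?_, ?_⟩
  · exact (fp_snd_eq ζ).trans (v.w_obj _)
  · exact ((fp_vert ζ).iso_inv.comp ((hθ'.map _).comp (vert_yonFIso h𝒴 y hy))).isHomLift' hy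

/-- The same from an atlas of the fibre. -/
theorem exists_lift_algClosed_of_atlas (h𝒳 : FibCat.IsFibGrpd 𝒳.p) (h𝒴 : FibCat.IsFibGrpd 𝒴.p)
    (hΔ : AlgSt.IsSurjective (FibCat.diag f)) {k : Type u} [Field k] [IsAlgClosed k]
    {s : Spec (CommRingCat.of k) ⟶ S} (y : 𝒴.obj) (hy : 𝒴.p.obj y = Over.mk s)
    (hA : AlgSt.HasAtlas (AlgSp.LocP @Smooth) (FibCat.fp (yonF h𝒴 y hy) f))
    (h : AlgSt.Points.mk ⟨k, s, y, hy⟩ ∈ Set.range (AlgSt.Points.map f)) :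
    ∃ (x : 𝒳.obj) (φ : f.obj x ⟶ y), 𝒳.p.obj x = Over.mk s ∧ 𝒴.p.IsHomLift (𝟙 (Over.mk s)) φ := by
  have h𝒵 : FibCat.IsFibGrpd (FibCat.fp (yonF h𝒴 y hy) f).p := isFibGrpd_fp (isFibGrpd_overCat _) h𝒳 h𝒴 _ _
  obtain ⟨U, v, hv, hs⟩ := hA
  obtain ⟨z, hz⟩ := h
  let t : ↥(Over.mk s : Over S).left := IsLocalRing.closedPoint k
  obtain ⟨w, -, -⟩ := exists_fp h𝒳 (isFibGrpd_overCat _) h𝒴 (yonF h𝒴 y hy) f (AlgSt.Points.ofChart (BasedFunctor.id _) t) z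
    ((ofChart_yonF h𝒴 y hy t).trans hz.symm)
  obtain ⟨u', -⟩ := surjective_of_repByAlgSpWith h𝒵 (isFibGrpd_overCat U) hs w
  obtain ⟨u, -⟩ := exists_ofChart_id u'
  refine exists_lift_algClosed h𝒳 h𝒴 hΔ y hy u (AlgSt_RepByAlgSpWith_mono ?_ hv)
  intro F G q hq U V a b c ha hb hc
  have := hq a b c ha hb hc
  infer_instance

end Main

end K735.Descend
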