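import Groth.Agent.AlgSt.K735.Top
import Groth.Agent.AlgSt.K736.Cart
import Groth.Agent.AlgSt.K734.Rep

/-!
# 2-cartesian squares over slices (helper735)

Functors over `(Sch/S)` into a slice `(Sch/V)` have at most one 2-isomorphism between them, so that squares over a
slice need no bookkeeping of 2-isomorphisms.

* `K735.Cart.slice_hom_ext`, `sliceIso`, `cart_congr` (change of all sides of a cartesian square over a slice);
* `isTwoCartOver_overMap`: a pullback square of schemes gives a 2-cartesian square of slices;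
* `exists_lift_cart`, `exists_iso_of_comp` (existence and uniqueness of functors into a cartesian square);
* `cart_of_paste` (pasting over a slice), `exists_pt_of_cart` (points), `repByAlgSpWith_of_cart` (base change of
  properties), `exists_chart_bc` (base change of a scheme chart along a morphism of schemes).
-/

set_option autoImplicit false
set_option backward.isDefEq.respectTransparency false
set_option backward.isDefEq.respectTransparency.types false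

universe v₉ u₉ v₈ u₈ v₇ u₇ v₆ u₆ v₅ u₅ v₄ u₄ v₃ u₃ v₂ u₂ v u

open CategoryTheory CategoryTheory.Limits AlgebraicGeometry Opposite K735.Fib K735.Fp K735.Rep

namespace K735.Cart

section Slice

variable {C : Type u} [Category.{v} C] {𝒜 : BasedCategory.{v₂, u₂} C}

theorem slice_ext {V : C} {x y : (FibCat.overCat V).obj} {φ ψ : x ⟶ y}
    (h : (FibCat.overCat V).p.map φ = (FibCat.overCat V).p.map ψ) : φ = ψ :=
  Over.OverMorphism.ext h

theorem app_ext {V : C} {F G : 𝒜 ⥤ᵇ FibCat.overCat V} (α β : F ⟶ G) (a : 𝒜.obj) :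
    α.toNatTrans.app a = β.toNatTrans.app a := by
  apply slice_ext
  rw [(vert_app α a).map_eq, (vert_app β a).map_eq]

/-- 2-morphisms between functors to a slice are unique. -/
theorem slice_hom_ext {V : C} {F G : 𝒜 ⥤ᵇ FibCat.overCat V} (α β : F ⟶ G) : α = β := by
  apply BasedNatTrans.homCategory.ext
  ext a
  exact app_ext α β a

theorem vert_ext {V : C} {x y : (FibCat.overCat V).obj} {φ ψ : x ⟶ y} (h : Vert (FibCat.overCat V).p φ)
    (h' : Vert (FibCat.overCat V).p ψ) : φ = ψ := by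
  apply slice_ext
  rw [h.map_eq, h'.map_eq]

end Slice

section Any

variable {C : Type u} [Category.{v} C] {𝒳 : BasedCategory.{v₂, u₂} C} {𝒴 : BasedCategory.{v₃, u₃} C}
  {𝒮 : BasedCategory.{v₄, u₄} C} {𝒲 : BasedCategory.{v₅, u₅} C} {𝒜 : BasedCategory.{v₆, u₆} C}
  {F : 𝒳 ⥤ᵇ 𝒮} {G : 𝒴 ⥤ᵇ 𝒮} {a : 𝒲 ⥤ᵇ 𝒳} {b : 𝒲 ⥤ᵇ 𝒴} {e : BasedFunctor.comp a F ≅ BasedFunctor.comp b G}

/-- Functors into a 2-cartesian square. -/
theorem exists_lift_cart (h : FibCat.IsTwoCartOver a b e) (Φ₁ : 𝒜 ⥤ᵇ 𝒳) (Φ₂ : 𝒜 ⥤ᵇ 𝒴)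
    (i : BasedFunctor.comp Φ₁ F ≅ BasedFunctor.comp Φ₂ G) :
    ∃ Φ : 𝒜 ⥤ᵇ 𝒲, Nonempty (BasedFunctor.comp Φ a ≅ Φ₁) ∧ Nonempty (BasedFunctor.comp Φ b ≅ Φ₂) := by
  obtain ⟨L, _, ⟨e₂⟩, ⟨e₁⟩⟩ := IsEquivOver.exists_inv h
  let Ψ := FibCat.fpLift Φ₁ Φ₂ i
  have j : BasedFunctor.comp (BasedFunctor.comp Ψ L) (FibCat.fpLift a b e) ≅ Ψ :=
    whiskerLeftIso Ψ e₁
  exact ⟨BasedFunctor.comp Ψ L, ⟨whiskerRightIso j (FibCat.fpFst F G)⟩, ⟨whiskerRightIso j (FibCat.fpSnd F G)⟩⟩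

/-- Cancelling an equivalence over the base. -/
theorem exists_iso_of_comp_equiv {L : 𝒲 ⥤ᵇ 𝒮} (hL : FibCat.IsEquivOver L) {Φ Ψ : 𝒜 ⥤ᵇ 𝒲}
    (i : BasedFunctor.comp Φ L ≅ BasedFunctor.comp Ψ L) : Nonempty (Φ ≅ Ψ) := by
  obtain ⟨M, _, ⟨e₁⟩, ⟨e₂⟩⟩ := IsEquivOver.exists_inv hL
  exact ⟨(whiskerLeftIso Φ e₁).symm.trans ((whiskerRightIso i M).trans (whiskerLeftIso Ψ e₁))⟩

end Any

section Target

variable {C : Type u} [Category.{v} C] {V : C} {𝒳 : BasedCategory.{v₂, u₂} C} {𝒴 : BasedCategory.{v₃, u₃} C}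
  {𝒲 : BasedCategory.{v₅, u₅} C} {𝒜 : BasedCategory.{v₆, u₆} C}
  {F : 𝒳 ⥤ᵇ FibCat.overCat V} {G : 𝒴 ⥤ᵇ FibCat.overCat V} {a : 𝒲 ⥤ᵇ 𝒳} {b : 𝒲 ⥤ᵇ 𝒴}
  {e : BasedFunctor.comp a F ≅ BasedFunctor.comp b G}

/-- Functors into a 2-cartesian square over a slice are determined by their components. -/
theorem exists_iso_of_comp (h : FibCat.IsTwoCartOver a b e) {Φ Ψ : 𝒜 ⥤ᵇ 𝒲}
    (α : BasedFunctor.comp Φ a ≅ BasedFunctor.comp Ψ a) (β : BasedFunctor.comp Φ b ≅ BasedFunctor.comp Ψ b) :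
    Nonempty (Φ ≅ Ψ) := by
  refine exists_iso_of_comp_equiv h (K736.Fib.fpNatIso (P := BasedFunctor.comp Φ (FibCat.fpLift a b e))
    (Q := BasedFunctor.comp Ψ (FibCat.fpLift a b e)) α β (fun w => vert_ext ?_ ?_))
  · exact ((vert_app α.hom w).map F).comp (vert_app e.hom (Ψ.obj w))
  · exact (vert_app e.hom (Φ.obj w)).comp ((vert_app β.hom w).map G)

/-- Change of all the sides of a 2-cartesian square over a slice. -/
theorem cart_congr {F₂ : 𝒳 ⥤ᵇ FibCat.overCat V} {G₂ : 𝒴 ⥤ᵇ FibCat.overCat V} {a₂ : 𝒲 ⥤ᵇ 𝒳} {b₂ : 𝒲 ⥤ᵇ 𝒴}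
    {e₂ : BasedFunctor.comp a₂ F₂ ≅ BasedFunctor.comp b₂ G₂} (α : a ≅ a₂) (β : b ≅ b₂) (φ : F ≅ F₂) (γ : G ≅ G₂)
    (h : FibCat.IsTwoCartOver a b e) : FibCat.IsTwoCartOver a₂ b₂ e₂ := by
  refine K736.Fib.isTwoCartOver_of_iso α β (fun w => vert_ext ?_ ?_)
    (K736.Fib.isTwoCartOver_of_iso_cospan φ γ h)
  · exact ((vert_app α.hom w).map F₂).comp (vert_app e₂.hom w)
  · exact (vert_app _ w).comp ((vert_app β.hom w).map G₂)

/-- Pasting over a slice. -/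
theorem cart_of_paste {𝒳' : BasedCategory.{v₇, u₇} C} {H : 𝒳' ⥤ᵇ 𝒳} (h : FibCat.IsTwoCartOver a b e)
    {a' : 𝒜 ⥤ᵇ 𝒳'} {b' : 𝒜 ⥤ᵇ 𝒲} {e'' : BasedFunctor.comp a' (BasedFunctor.comp H F) ≅
      BasedFunctor.comp (BasedFunctor.comp b' b) G}
    (h' : FibCat.IsTwoCartOver a' (BasedFunctor.comp b' b) e'')
    (e' : BasedFunctor.comp a' H ≅ BasedFunctor.comp b' a) : FibCat.IsTwoCartOver a' b' e' :=
  (K736.Fib.isTwoCartOver_paste_iff h e').1
    (cart_congr (Iso.refl _) (Iso.refl _) (Iso.refl _) (Iso.refl _) h')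

end Target

section Slices

variable {S : Scheme.{u}}

/-- 2-isomorphic functors of slices for equal morphisms. -/
def overMapCongr {P V : Over S} {f g : P ⟶ V} (h : f = g) : AlgSt.overMap f ≅ AlgSt.overMap g :=
  eqToIso (congrArg AlgSt.overMap h)

theorem p_map_over {V : Over S} {x y : (FibCat.overCat V).obj} (φ : x ⟶ y) :
    (FibCat.overCat V).p.map φ = φ.left := rfl

/-- A composite of slice functors. -/
theorem exists_iso_overMap_comp {P U V : Over S} (f : P ⟶ U) (g : U ⟶ V) :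
    Nonempty (BasedFunctor.comp (AlgSt.overMap f) (AlgSt.overMap g) ≅ AlgSt.overMap (f ≫ g)) := by
  refine ⟨yonIso (isFibGrpd_overCat V) _ _ (Over.homMk (𝟙 P) ?_) ?_⟩
  · exact (Category.id_comp _).trans (Category.assoc _ _ _).symm
  · exact vert_of_map_eq rfl rfl

/-- A pullback square of schemes gives a 2-cartesian square of slices. -/
theorem isTwoCartOver_overMap {P U T V : Over S} {fst : P ⟶ U} {snd : P ⟶ T} {q : U ⟶ V} {b : T ⟶ V}
    (sq : IsPullback fst snd q b) (e : BasedFunctor.comp (AlgSt.overMap fst) (AlgSt.overMap q) ≅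
      BasedFunctor.comp (AlgSt.overMap snd) (AlgSt.overMap b)) :
    FibCat.IsTwoCartOver (AlgSt.overMap fst) (AlgSt.overMap snd) e := by
  rw [K736.Fib.isTwoCartOver_iff]
  have he : ∀ w, (e.hom.toNatTrans.app w).left = 𝟙 _ := fun w => (vert_app e.hom w).map_eq
  constructor
  · intro w w' f g hfg
    have h1 : f.left = g.left := by
      have h2 := congrArg CommaMorphism.left hfg
      change f.left ≫ (e.hom.toNatTrans.app w').left = (e.hom.toNatTrans.app w).left ≫ g.left at h2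
      rw [he, he] at h2
      exact (Category.comp_id _).symm.trans (h2.trans (Category.id_comp _))
    have hf : f.left ≫ w'.hom ≫ fst = w.hom ≫ fst := Over.w f
    have hg : g.left ≫ w'.hom ≫ snd = w.hom ≫ snd := Over.w g
    let k : w ⟶ w' := Over.homMk f.left (by
      apply sq.hom_ext
      · rw [Category.assoc]; exact hf
      · rw [Category.assoc, h1]; exact hg)
    refine ⟨k, ⟨Over.OverMorphism.ext rfl, Over.OverMorphism.ext h1⟩, ?_⟩
    rintro k' ⟨hk, -⟩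
    refine Over.OverMorphism.ext ?_
    have h2 := congrArg CommaMorphism.left hk
    exact h2
  · intro x y i h hi
    have hw : i.hom.left ≫ y.hom ≫ b = x.hom ≫ q := Over.w i.hom
    let w : (FibCat.overCat P).obj := Over.mk (sq.lift x.hom (i.hom.left ≫ y.hom) (by rw [Category.assoc, hw]))
    have h1 : w.hom ≫ fst = x.hom := sq.lift_fst _ _ _
    have h2 : w.hom ≫ snd = i.hom.left ≫ y.hom := sq.lift_snd _ _ _
    have h3 : i.hom.left ≫ i.inv.left = 𝟙 _ := congrArg CommaMorphism.left i.hom_inv_id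
    have h4 : i.inv.left ≫ i.hom.left = 𝟙 _ := congrArg CommaMorphism.left i.inv_hom_id
    let f : (AlgSt.overMap fst).obj w ≅ x := Over.isoMk (Iso.refl _) ((Category.id_comp _).trans h1.symm)
    let g : (AlgSt.overMap snd).obj w ≅ y := Over.isoMk ⟨i.hom.left, i.inv.left, h3, h4⟩ h2.symm
    refine ⟨w, f, g, rfl, rfl, ?_⟩
    refine Over.OverMorphism.ext ?_
    change 𝟙 _ ≫ i.hom.left = (e.hom.toNatTrans.app w).left ≫ i.hom.left
    rw [he]
    rfl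

end Slices

section Points

variable {S : Scheme.{u}} {𝒳 : BasedCategory.{v₂, u₂} (Over S)} {𝒴 : BasedCategory.{v₃, u₃} (Over S)}
  {𝒮 : BasedCategory.{v₄, u₄} (Over S)} {𝒲 : BasedCategory.{v₅, u₅} (Over S)}
  {F : 𝒳 ⥤ᵇ 𝒮} {G : 𝒴 ⥤ᵇ 𝒮} {a : 𝒲 ⥤ᵇ 𝒳} {b : 𝒲 ⥤ᵇ 𝒴} {e : BasedFunctor.comp a F ≅ BasedFunctor.comp b G}

/-- Points of a 2-cartesian square. -/
theorem exists_pt_of_cart (h𝒳 : FibCat.IsFibGrpd 𝒳.p) (h𝒴 : FibCat.IsFibGrpd 𝒴.p) (h𝒮 : FibCat.IsFibGrpd 𝒮.p)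
    (h : FibCat.IsTwoCartOver a b e) (x : AlgSt.Points 𝒳) (y : AlgSt.Points 𝒴)
    (hxy : AlgSt.Points.map F x = AlgSt.Points.map G y) :
    ∃ w : AlgSt.Points 𝒲, AlgSt.Points.map a w = x ∧ AlgSt.Points.map b w = y := by
  obtain ⟨z, h1, h2⟩ := K735.Pts.exists_fp h𝒴 h𝒳 h𝒮 F G x y hxy
  obtain ⟨w, rfl⟩ := (K735.Pts.map_bijective_of_isEquivOver h).2 z
  rw [← K735.Pts.map_comp] at h1 h2
  exact ⟨w, h1, h2⟩

/-- Base change in a 2-cartesian square of the property of being representable with `P`. -/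
theorem repByAlgSpWith_of_cart {P : MorphismProperty (AlgSp.Sp S)} (h : FibCat.IsTwoCartOver a b e)
    (hF : AlgSt.RepByAlgSpWith P F) : AlgSt.RepByAlgSpWith P b :=
  repByAlgSpWith_of_sq P (FibCat.fpSnd F G) b (FibCat.fpLift a b e) (BasedFunctor.id _) h isEquivOver_id
    (Iso.refl _) (K734.Rep.repByAlgSpWith_fpSnd P F G hF)

theorem repByAlgSpWith_of_cart' {P : MorphismProperty (AlgSp.Sp S)} (h : FibCat.IsTwoCartOver a b e)
    (hG : AlgSt.RepByAlgSpWith P G) : AlgSt.RepByAlgSpWith P a :=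
  repByAlgSpWith_of_cart (K736.Fib.isTwoCartOver_symm h) hG

end Points

section Chart

variable {S : Scheme.{u}} {𝒢 : BasedCategory.{v₂, u₂} (Over S)} {𝒲 : BasedCategory.{v₅, u₅} (Over S)}

/-- Base change of a scheme chart `x` of `𝒢` along `b : T ⟶ V`, `𝒢` over `V`: if `𝒲` is the base change of `𝒢` to `T`
and `P = U ×_V T`, there is `x' : (Sch/P) ⟶ 𝒲` making the square of `x'`, `x` 2-cartesian. -/
theorem exists_chart_bc {V U T P : Over S} {h : 𝒢 ⥤ᵇ FibCat.overCat V} {x : FibCat.overCat U ⥤ᵇ 𝒢} {q : U ⟶ V}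
    (θ : BasedFunctor.comp x h ≅ AlgSt.overMap q) {b : T ⟶ V} {a : 𝒲 ⥤ᵇ 𝒢} {p : 𝒲 ⥤ᵇ FibCat.overCat T}
    {e : BasedFunctor.comp a h ≅ BasedFunctor.comp p (AlgSt.overMap b)} (hc : FibCat.IsTwoCartOver a p e)
    {fst : P ⟶ U} {snd : P ⟶ T} (sq : IsPullback fst snd q b) :
    ∃ (x' : FibCat.overCat P ⥤ᵇ 𝒲) (e' : BasedFunctor.comp (AlgSt.overMap fst) x ≅ BasedFunctor.comp x' a),
      Nonempty (BasedFunctor.comp x' p ≅ AlgSt.overMap snd) ∧ FibCat.IsTwoCartOver (AlgSt.overMap fst) x' e' := by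
  obtain ⟨i1⟩ := exists_iso_overMap_comp fst q
  obtain ⟨i2⟩ := exists_iso_overMap_comp snd b
  have j : BasedFunctor.comp (AlgSt.overMap fst) (AlgSt.overMap q) ≅
      BasedFunctor.comp (AlgSt.overMap snd) (AlgSt.overMap b) :=
    i1.trans ((overMapCongr sq.w).trans i2.symm)
  obtain ⟨x', ⟨α⟩, ⟨β⟩⟩ := exists_lift_cart hc (BasedFunctor.comp (AlgSt.overMap fst) x) (AlgSt.overMap snd)
    ((whiskerLeftIso (AlgSt.overMap fst) θ).trans j)
  refine ⟨x', α.symm, ⟨β⟩, ?_⟩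
  refine cart_of_paste hc (e'' := (whiskerLeftIso (AlgSt.overMap fst) θ).trans
    (j.trans (whiskerRightIso β.symm (AlgSt.overMap b)))) ?_ α.symm
  exact cart_congr (Iso.refl _) β.symm θ.symm (Iso.refl _) (isTwoCartOver_overMap sq j)

end Chart

end K735.Cart
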