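import Groth.Agent.AlgSt.K735.Cart
import Groth.Agent.AlgSp.K603.UnivClosedMain

/-!
# Closedness on points over an affine test scheme from closedness over affine spaces (helper735)

* `K735.ClosedLim.isClosed_iff`: closed subsets of `|(Sch/T)|` are closed subsets of `T`;
* `isClosedMap_of_aff`: let `𝒢` be over `V = Spec R` with a smooth surjective chart from a quasi-compact scheme. If
  `|𝒢 ×_V 𝔸ⁿ_V| → |𝔸ⁿ_V|` is closed for all `n`, then `|𝒢 ×_V Spec B| → |Spec B|` is closed for all `R → B`.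
-/

set_option autoImplicit false
set_option backward.isDefEq.respectTransparency false
set_option backward.isDefEq.respectTransparency.types false

universe v₉ u₉ v₈ u₈ v₇ u₇ v₆ u₆ v₅ u₅ v₄ u₄ v₃ u₃ v₂ u₂ v u

open CategoryTheory CategoryTheory.Limits AlgebraicGeometry Opposite K735.Fib K735.Fp K735.Rep K735.Pts K735.PtsSp
  K735.Top K735.Cart

namespace K735.ClosedLim

section

variable {S : Scheme.{u}} {𝒢 : BasedCategory.{v₂, u₂} (Over S)} {𝒲 : BasedCategory.{v₅, u₅} (Over S)}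

/-- Closed subsets of the points of a slice. -/
theorem isClosed_iff {T : Over S} (E : Set (AlgSt.Points (FibCat.overCat T))) :
    IsClosed E ↔ IsClosed (AlgSt.Points.ofChart (BasedFunctor.id (FibCat.overCat T)) ⁻¹' E) := by
  refine ⟨fun h => h.preimage (continuous_ofChart_id T), fun h => ?_⟩
  rw [← isOpen_compl_iff]
  intro U x _
  obtain ⟨b, ⟨i⟩⟩ := exists_iso_overMap x
  have : AlgSt.Points.ofChart x ⁻¹' Eᶜ = b.left ⁻¹'
      (AlgSt.Points.ofChart (BasedFunctor.id (FibCat.overCat T)) ⁻¹' E)ᶜ := by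
    ext t
    simp only [Set.mem_preimage, Set.mem_compl_iff]
    rw [ofChart_congr i, ← ofChart_overMap]
    rfl
  rw [this]
  exact h.isOpen_compl.preimage b.left.continuous

theorem map_ofChart_over {U V : Over S} {x : FibCat.overCat U ⥤ᵇ 𝒢} {h : 𝒢 ⥤ᵇ FibCat.overCat V} {q : U ⟶ V}
    (θ : BasedFunctor.comp x h ≅ AlgSt.overMap q) (t : ↥U.left) :
    AlgSt.Points.map h (AlgSt.Points.ofChart x t) =
      AlgSt.Points.ofChart (BasedFunctor.id (FibCat.overCat V)) (q.left t) := by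
  rw [map_ofChart, ofChart_congr θ, ← ofChart_overMap]
  rfl

theorem map_overMap {U V : Over S} (q : U ⟶ V) (t : ↥U.left) :
    AlgSt.Points.map (AlgSt.overMap q) (AlgSt.Points.ofChart (BasedFunctor.id (FibCat.overCat U)) t) =
      AlgSt.Points.ofChart (BasedFunctor.id (FibCat.overCat V)) (q.left t) := by
  rw [← ofChart_overMap]
  rfl

/-- In a 2-cartesian square with a chart and its base change, as maps of points of schemes. -/
theorem exists_pt_chart (h𝒢 : FibCat.IsFibGrpd 𝒢.p) (h𝒲 : FibCat.IsFibGrpd 𝒲.p) {U P : Over S}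
    {f : P ⟶ U} {x : FibCat.overCat U ⥤ᵇ 𝒢} {x' : FibCat.overCat P ⥤ᵇ 𝒲} {a : 𝒲 ⥤ᵇ 𝒢}
    {e' : BasedFunctor.comp (AlgSt.overMap f) x ≅ BasedFunctor.comp x' a}
    (h : FibCat.IsTwoCartOver (AlgSt.overMap f) x' e') (u : ↥U.left) (z : AlgSt.Points 𝒲)
    (huz : AlgSt.Points.ofChart x u = AlgSt.Points.map a z) :
    ∃ t : ↥P.left, f.left t = u ∧ AlgSt.Points.ofChart x' t = z := by
  obtain ⟨w, h1, h2⟩ := exists_pt_of_cart (isFibGrpd_overCat U) h𝒲 h𝒢 h
    (AlgSt.Points.ofChart (BasedFunctor.id (FibCat.overCat U)) u) z huz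
  obtain ⟨t, rfl⟩ := (ofChart_id_bijective P).2 w
  refine ⟨t, ?_, h2⟩
  apply (ofChart_id_bijective U).1
  rw [← h1, map_overMap]

theorem surjective_of_cart (h𝒢 : FibCat.IsFibGrpd 𝒢.p) (h𝒲 : FibCat.IsFibGrpd 𝒲.p) {U P : Over S}
    {f : P ⟶ U} {x : FibCat.overCat U ⥤ᵇ 𝒢} {x' : FibCat.overCat P ⥤ᵇ 𝒲} {a : 𝒲 ⥤ᵇ 𝒢}
    {e' : BasedFunctor.comp (AlgSt.overMap f) x ≅ BasedFunctor.comp x' a}
    (h : FibCat.IsTwoCartOver (AlgSt.overMap f) x' e') (hs : Function.Surjective (AlgSt.Points.ofChart x)) :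
    Function.Surjective (AlgSt.Points.ofChart x') := by
  intro z
  obtain ⟨u, hu⟩ := hs (AlgSt.Points.map a z)
  obtain ⟨t, -, ht⟩ := exists_pt_chart h𝒢 h𝒲 h u z hu
  exact ⟨t, ht⟩

open K603.UnivClosedMain K603.UnivClosedAux in
/-- Closedness on points over an affine test scheme, from closedness over the affine spaces over the base. -/
theorem isClosedMap_of_aff {R B : Type u} [CommRing R] [CommRing B] [Algebra R B] (sV : Spec (.of R) ⟶ S)
    (h𝒢 : FibCat.IsFibGrpd 𝒢.p) (h𝒲 : FibCat.IsFibGrpd 𝒲.p) (h : 𝒢 ⥤ᵇ FibCat.overCat (Over.mk sV))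
    {U : Over S} [CompactSpace U.left] (x : FibCat.overCat U ⥤ᵇ 𝒢)
    (hx : AlgSt.RepByAlgSpWith (AlgSp.LocP @Smooth) x) (hs : Function.Surjective (AlgSt.Points.ofChart x))
    (H : ∀ n : ℕ, IsClosedMap (AlgSt.Points.map (FibCat.fpSnd h (AlgSt.overMap (affπ n (Over.mk sV))))))
    {a : 𝒲 ⥤ᵇ 𝒢} {p : 𝒲 ⥤ᵇ FibCat.overCat (Over.mk (Spec.map (CommRingCat.ofHom (algebraMap R B)) ≫ sV))}
    {e : BasedFunctor.comp a h ≅ BasedFunctor.comp p (AlgSt.overMap
      (Over.homMk (Spec.map (CommRingCat.ofHom (algebraMap R B))) rfl :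
        Over.mk (Spec.map (CommRingCat.ofHom (algebraMap R B)) ≫ sV) ⟶ Over.mk sV))}
    (hc : FibCat.IsTwoCartOver a p e) : IsClosedMap (AlgSt.Points.map p) := by
  let V : Over S := Over.mk sV
  let T : Over S := Over.mk (Spec.map (CommRingCat.ofHom (algebraMap R B)) ≫ sV)
  let φ : T ⟶ V := Over.homMk (Spec.map (CommRingCat.ofHom (algebraMap R B))) rfl
  change FibCat.IsTwoCartOver (G := AlgSt.overMap φ) a p e at hc
  obtain ⟨q, ⟨θ⟩⟩ := exists_iso_overMap (BasedFunctor.comp x h)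
  -- the fibre product of `U` and `T`
  let UT : Over S := Over.mk (pullback.fst q.left φ.left ≫ U.hom)
  let fstU : UT ⟶ U := Over.homMk (pullback.fst q.left φ.left)
  let sndU : UT ⟶ T := Over.homMk (pullback.snd q.left φ.left) (by
    have h1 := pullback.condition (f := q.left) (g := φ.left)
    change pullback.snd q.left φ.left ≫ T.hom = pullback.fst q.left φ.left ≫ U.hom
    rw [← Over.w q, ← Over.w φ, ← Category.assoc, ← Category.assoc, h1])
  have sqUl : IsPullback fstU.left sndU.left q.left φ.left :=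
    IsPullback.of_hasPullback q.left φ.left
  have sqU : IsPullback fstU sndU q φ := isPullback_of_left sqUl
  obtain ⟨xT, eT, ⟨βT⟩, hxT⟩ := exists_chart_bc θ hc sqU
  have hxTs : Function.Surjective (AlgSt.Points.ofChart xT) := surjective_of_cart h𝒢 h𝒲 hxT hs
  have hcont : ChartCont 𝒲 := chartCont_of_atlas h𝒲 xT (repByAlgSpWith_of_cart hxT hx)
    ((surjective_map_iff_surjective_ofChart xT).2 hxTs)
  intro D hD
  rw [isClosed_iff, ← isOpen_compl_iff, isOpen_iff_forall_mem_open]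
  intro t ht
  let Z : Set UT.left := AlgSt.Points.ofChart xT ⁻¹' D
  have hZ : IsClosed Z := hD.preimage (hcont UT xT)
  have hzt : ∀ z ∈ Z, sndU.left z ≠ t := by
    rintro z hz rfl
    exact ht ⟨_, hz, map_ofChart_over βT z⟩
  obtain ⟨n, b, W, hW1, hW2⟩ := exists_separating (R := R) (B := B) (X := U.left) q.left sqUl Z hZ t hzt
  -- base change to affine space
  obtain ⟨xA, eA, ⟨βA⟩, hxA⟩ := exists_chart_bc θ (K736.Fib.isTwoCartOver_fp h (AlgSt.overMap (affπ n V)))
    (isPullback_affMap n q).flip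
  let γ₀ : T ⟶ Aff n V := affVec n φ b
  let γU : UT ⟶ Aff n U := affVec n fstU (fun i => sndU.left.appTop (b i))
  have hγ₀ : γ₀ ≫ affπ n V = φ := Over.OverMorphism.ext (AffineSpace.homOfVector_over _ _)
  have hγU : γU ≫ affπ n U = fstU := Over.OverMorphism.ext (AffineSpace.homOfVector_over _ _)
  have sqγl : IsPullback γU.left sndU.left (affMap n q).left γ₀.left :=
    Groth.Agent.Ega43.UnivOpenAffine.isPullback_homOfVector sqUl b
  have sqγ : IsPullback γU sndU (affMap n q) γ₀ := isPullback_of_left sqγl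
  -- the functor from the fibre product over `T` to the one over the affine space
  obtain ⟨j1⟩ := exists_iso_overMap_comp γ₀ (affπ n V)
  have j2 : BasedFunctor.comp (AlgSt.overMap γ₀) (AlgSt.overMap (affπ n V)) ≅ AlgSt.overMap φ :=
    j1.trans (overMapCongr hγ₀)
  obtain ⟨m, ⟨m1⟩, ⟨m2⟩⟩ := exists_lift_cart (K736.Fib.isTwoCartOver_fp h (AlgSt.overMap (affπ n V))) a
    (BasedFunctor.comp p (AlgSt.overMap γ₀)) (e.trans (whiskerLeftIso p j2).symm)
  have hm : FibCat.IsTwoCartOver m p m2 := by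
    have h2 : FibCat.IsTwoCartOver p m m2.symm := by
      refine cart_of_paste (K736.Fib.isTwoCartOver_symm
        (K736.Fib.isTwoCartOver_fp h (AlgSt.overMap (affπ n V))))
        (e'' := (whiskerLeftIso p j2).trans (e.symm.trans (whiskerRightIso m1 h).symm)) ?_ m2.symm
      exact cart_congr (Iso.refl _) m1.symm j2.symm (Iso.refl _) (K736.Fib.isTwoCartOver_symm hc)
    exact K736.Fib.isTwoCartOver_symm h2
  obtain ⟨j3⟩ := exists_iso_overMap_comp γU (affπ n U)
  obtain ⟨j4⟩ := exists_iso_overMap_comp γU (affMap n q)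
  obtain ⟨j5⟩ := exists_iso_overMap_comp sndU γ₀
  have j6 : BasedFunctor.comp (AlgSt.overMap γU) (AlgSt.overMap (affMap n q)) ≅
      BasedFunctor.comp (AlgSt.overMap sndU) (AlgSt.overMap γ₀) := j4.trans ((overMapCongr sqγ.w).trans j5.symm)
  obtain ⟨e'⟩ := exists_iso_of_comp (K736.Fib.isTwoCartOver_fp h (AlgSt.overMap (affπ n V)))
    (Φ := BasedFunctor.comp (AlgSt.overMap γU) xA) (Ψ := BasedFunctor.comp xT m)
    ((whiskerLeftIso (AlgSt.overMap γU) eA.symm).trans
      ((whiskerRightIso (j3.trans (overMapCongr hγU)) x).trans (eT.trans (whiskerLeftIso xT m1.symm))))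
    ((whiskerLeftIso (AlgSt.overMap γU) βA).trans
      (j6.trans ((whiskerRightIso βT.symm (AlgSt.overMap γ₀)).trans (whiskerLeftIso xT m2.symm))))
  have hcart : FibCat.IsTwoCartOver (AlgSt.overMap γU) xT e' := by
    refine cart_of_paste hm (e'' := (whiskerLeftIso (AlgSt.overMap γU) βA).trans
      (j6.trans (whiskerRightIso βT.symm (AlgSt.overMap γ₀)))) ?_ e'
    exact cart_congr (Iso.refl _) βT.symm βA.symm (Iso.refl _) (isTwoCartOver_overMap sqγ j6)
  -- the chart over the affine space is open and surjective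
  have h𝒢A : FibCat.IsFibGrpd (FibCat.fp h (AlgSt.overMap (affπ n V))).p :=
    isFibGrpd_fp h𝒢 (isFibGrpd_overCat _) (isFibGrpd_overCat _) _ _
  have hxAs : Function.Surjective (AlgSt.Points.ofChart xA) := surjective_of_cart h𝒢 h𝒢A hxA hs
  have hxAo : IsOpenMap (AlgSt.Points.ofChart xA) := isOpenMap_ofChart xA
    (isOpenMap_map isOpenMap_of_smooth h𝒢A (isFibGrpd_overCat _) (chartCont_overCat _)
      (repByAlgSpWith_of_cart hxA hx))
  let W' : Set ↥(Aff n U).left := (W : Set ↥(𝔸(ULift.{u} (Fin n); U.left)))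
  have hW' : IsOpen W' := W.2
  let K : Set (AlgSt.Points (FibCat.overCat (Aff n V))) :=
    AlgSt.Points.map (FibCat.fpSnd h (AlgSt.overMap (affπ n V))) '' (AlgSt.Points.ofChart xA '' W')ᶜ
  have hK : IsClosed K := H n _ (hxAo _ hW').isClosed_compl
  rw [isClosed_iff] at hK
  refine ⟨γ₀.left ⁻¹' (AlgSt.Points.ofChart (BasedFunctor.id (FibCat.overCat (Aff n V))) ⁻¹' K)ᶜ, ?_,
    hK.isOpen_compl.preimage γ₀.left.continuous, ?_⟩
  · rintro t' ht' ⟨z, hz, hzt'⟩
    refine ht' ⟨AlgSt.Points.map m z, ?_, ?_⟩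
    · rintro ⟨w, hw, hwz⟩
      obtain ⟨u, hu1, hu2⟩ := exists_pt_chart h𝒢A h𝒲 hcart w z hwz
      refine hW1 u ?_ ?_
      · change AlgSt.Points.ofChart xT u ∈ D
        rwa [hu2]
      · change γU.left u ∈ W'
        rwa [hu1]
    · rw [← map_comp, map_congr m2, map_comp, hzt', map_overMap]
  · rintro ⟨c, hc', hct⟩
    obtain ⟨w, rfl⟩ := hxAs c
    rw [map_ofChart_over βA] at hct
    have h1 := (ofChart_id_bijective (Aff n V)).1 hct
    obtain ⟨u, hu1, hu2⟩ := Scheme.exists_preimage_of_isPullback sqγl w t h1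
    refine hc' ⟨w, ?_, rfl⟩
    have h2 : γU.left u ∈ W' := hW2 u hu2
    have h3 : γU.left u = w := hu1
    rwa [h3] at h2

end

end K735.ClosedLim
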