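import Groth.Agent.AlgSt.K735.EtQuot
import Groth.Agent.AlgSt.K743.FppfDesc
import Groth.Agent.AlgSt.K747.Mul
import Groth.Agent.AlgSp.K628.Props
import Groth.Agent.S10104

/-!
# The diagonal of a prestack with a chart represented by schemes

* `K735.DiagAff.diag_of_charts`: `z : (Sch/U) ⟶ 𝒳` represented by schemes `(π, φ) : V ⟶ T × U` with `π` affine, fppf,
  surjective; if `(π, φ)` has `P` then the diagonal of `𝒳` has `P` (`P` fpqc local on the base and stable under base change);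
* `K735.DiagAff.diag_quotSt`: `[X/G]` has affine diagonal when `X` has affine diagonal over `S` and `G` is flat, lfp, affine.
-/

set_option autoImplicit false
set_option backward.isDefEq.respectTransparency false
set_option backward.isDefEq.respectTransparency.types false

universe w v u

open CategoryTheory CategoryTheory.Limits AlgebraicGeometry Opposite
open AlgSt AlgSp K747 K747.Sc

namespace K735.DiagAff

variable {S : Scheme.{u}}

theorem isFpqcCover_yon {V W : Over S} (g : V ⟶ W) (hfl : Flat g.left) (ha : IsAffineHom g.left) (hs : Surjective g.left) :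
    AlgSp.IsFpqcCover (fun _ : PUnit.{u + 1} => (yon S).obj V) (fun _ => (yon S).map g) := by
  refine ⟨fun i => ?_, ?_⟩
  · exact K597.locP_of_repWith (P := @Flat)
        (fun _ _ _ e f he hf => by have := he; have := hf; infer_instance)
        ((AlgSp.repWith_yon_map_iff _ _).2 hfl)
  · intro Z hZ h
    obtain ⟨h, rfl⟩ := (yon S).map_surjective h
    have sq := (IsPullback.of_hasPullback g h).map (Over.forget S)
    have h1 : IsAffineHom (pullback.snd g h).left := MorphismProperty.of_isPullback (P := @IsAffineHom) sq ha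
    have h2 : Flat (pullback.snd g h).left := MorphismProperty.of_isPullback (P := @Flat) sq hfl
    have h3 : Surjective (pullback.snd g h).left := MorphismProperty.of_isPullback (P := @Surjective) sq hs
    have hZ' : IsAffine Z.left := hZ
    refine ⟨1, fun _ => pullback g h, fun _ => pullback.snd g h, fun _ => isAffine_of_isAffineHom (pullback.snd g h).left,
      fun _ => h2, fun z => ⟨0, h3.surj z⟩, fun _ => ⟨PUnit.unit, (yon S).map (pullback.fst g h), ?_⟩⟩
    rw [← Functor.map_comp, ← Functor.map_comp, pullback.condition]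

theorem descend (I : Sp S) {T V : Over S} {π : I ⟶ (yon S).obj T} {p : V ⟶ T}
    (hf : Flat p.left) (hp : LocallyOfFinitePresentation p.left) (hs : Surjective p.left)
    {Q : Sp S} {a : Q ⟶ I} {b : Q ⟶ (yon S).obj V} (sq : IsPullback a b π ((yon S).map p)) (hQ : IsAlgSpace Q) :
    IsAlgSpace I :=
  K743.FppfDesc.descend (fun F U p hp => Groth.Agent.S10104.result S F U p hp) hf hp hs sq hQ

theorem prop_descend {P : MorphismProperty (Sp S)} (hloc : IsLocalOnBase IsFpqcCover P)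
    {I : Sp S} {T V : Over S} {π : I ⟶ (yon S).obj T} {p : V ⟶ T}
    (hf : Flat p.left) (hp : LocallyOfFinitePresentation p.left) (ha : IsAffineHom p.left) (hs : Surjective p.left)
    {Q : Sp S} {a : Q ⟶ I} {b : Q ⟶ (yon S).obj V} (sq : IsPullback a b π ((yon S).map p)) (hQ : IsAlgSpace Q)
    (h : P b) : P π :=
  (hloc (fun _ : PUnit.{u + 1} => (yon S).obj V) (fun _ => (yon S).map p) (IsAlgSpace.yon_obj _)
    (fun _ => IsAlgSpace.yon_obj _) (isFpqcCover_yon p hf ha hs) π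
    (descend I hf hp hs sq hQ) (fun _ => Q) (fun _ => b) (fun _ => a) (fun _ => hQ) (fun _ => sq)).2 fun _ => h

variable {𝒳 : BasedCategory.{u, w} (Over S)}

theorem isSheaf_I (hs : Stk.IsPrestack (AlgSp.J S) 𝒳) {T : Over S} (x₁ x₂ : FibCat.overCat T ⥤ᵇ 𝒳) :
    Presheaf.IsSheaf (AlgSp.J S) (I hs.1 x₁ x₂) := by
  rw [isSheaf_iff_isSheaf_of_type]
  intro V R hR
  exact isSheafFor_isoPsh.{u + 1} hs.1 R (hs.2 R hR) (K747.Top.isSheafFor_yoneda Scheme.fppfPrecoverage T V R hR)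

variable {P : MorphismProperty (Sp S)} [P.IsStableUnderBaseChange]

/-- the representation of the pairs by schemes -/
structure Repd (h𝒳 : FibCat.IsFibGrpd 𝒳.p) {T U : Over S} (x : FibCat.overCat T ⥤ᵇ 𝒳) (z : FibCat.overCat U ⥤ᵇ 𝒳) where
  V : Over S
  i : Sc.P h𝒳 x z ≅ (pyon S).obj V
  π : V ⟶ T
  φ : V ⟶ U
  wT : prT h𝒳 x z = i.hom ≫ (pyon S).map π
  wU : prU h𝒳 x z = i.hom ≫ (pyon S).map φ

namespace Repd

variable {h𝒳 : FibCat.IsFibGrpd 𝒳.p} {T U : Over S} {x : FibCat.overCat T ⥤ᵇ 𝒳} {z : FibCat.overCat U ⥤ᵇ 𝒳}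

theorem wTU (r : Repd h𝒳 x z) : prTU h𝒳 x z = r.i.hom ≫ (pyon S).map (prod.lift r.π r.φ) := by
  ext V s
  have h1 := app_eq (a := 𝟙 _) (c := prT h𝒳 x z) (b := r.i.hom) (d := (pyon S).map r.π) (by rw [Category.id_comp, r.wT]) s
  have h2 := app_eq (a := 𝟙 _) (c := prU h𝒳 x z) (b := r.i.hom) (d := (pyon S).map r.φ) (by rw [Category.id_comp, r.wU]) s
  refine congrArg ULift.up ?_
  have h1' := congrArg ULift.down h1
  have h2' := congrArg ULift.down h2
  change prod.lift s.down.t s.down.u = (r.i.hom.app V s).down ≫ prod.lift r.π r.φ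
  change s.down.t = (r.i.hom.app V s).down ≫ r.π at h1'
  change s.down.u = (r.i.hom.app V s).down ≫ r.φ at h2'
  rw [prod.comp_lift, ← h1', ← h2']

end Repd

theorem diag_of_charts (hloc : IsLocalOnBase IsFpqcCover P) (hs : Stk.IsPrestack (AlgSp.J S) 𝒳)
    {U : Over S} {z : FibCat.overCat U ⥤ᵇ 𝒳}
    (hz : ∀ (T : Over S) (x : FibCat.overCat T ⥤ᵇ 𝒳), ∃ r : Repd hs.1 x z, Flat r.π.left ∧
      LocallyOfFinitePresentation r.π.left ∧ IsAffineHom r.π.left ∧ Surjective r.π.left ∧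
        P ((yon S).map (prod.lift r.π r.φ))) :
    RepByAlgSpWith P (FibCat.diag (FibCat.toSelf 𝒳)) := by
  intro T y
  refine (Rep.with_iff P _ (toDiag_isEquivOver.{u + 1} hs.1 y)).2 ?_
  have hI := isSheaf_I hs (y1 y) (y2 y)
  obtain ⟨r₁, -, -, -, -, hP⟩ := hz T (y1 y)
  obtain ⟨r, hf, hp, ha, hsj, -⟩ := hz T (y2 y)
  have sq := IsPullback.of_hasPullback (prI hs.1 (y1 y) (y2 y)) (prT hs.1 (y2 y) z)
  have sq2 := isPullback_mul sq
  -- replace `P(x₂, z)` by `V` and `P(x₁, z)` by `V₁`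
  have sq4 : IsPullback (pullback.fst (prI hs.1 (y1 y) (y2 y)) (prT hs.1 (y2 y) z)) (pullback.snd _ _ ≫ r.i.hom)
      (prI hs.1 (y1 y) (y2 y)) ((pyon S).map r.π) :=
    IsPullback.of_iso sq (Iso.refl _) (Iso.refl _) r.i (Iso.refl _) (by simp) (by simp) (by simp) (by simp [r.wT])
  have sq5 : IsPullback (mul sq ≫ r₁.i.hom) (pullback.snd _ _ ≫ r.i.hom)
      ((pyon S).map (prod.lift r₁.π r₁.φ)) ((pyon S).map (prod.lift r.π r.φ)) :=
    IsPullback.of_iso sq2 (Iso.refl _) r₁.i r.i (Iso.refl _) (by simp) (by simp) (by simp [r₁.wTU]) (by simp [r.wTU])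
  have hQ : Presheaf.IsSheaf (AlgSp.J S) (pullback (prI hs.1 (y1 y) (y2 y)) (prT hs.1 (y2 y) z)) :=
    AlgSp.isSheaf_of_isPullback (F := (AlgSp.yon S).obj r₁.V) (G := (AlgSp.yon S).obj (T ⨯ U)) (H := (AlgSp.yon S).obj r.V) sq5
  have sq4' : IsPullback (ObjectProperty.homMk (pullback.fst _ _) : (⟨_, hQ⟩ : AlgSp.Sp S) ⟶ ⟨_, hI⟩)
      (ObjectProperty.homMk (pullback.snd _ _ ≫ r.i.hom) : (⟨_, hQ⟩ : AlgSp.Sp S) ⟶ (AlgSp.yon S).obj r.V)
      (ObjectProperty.homMk (prI hs.1 (y1 y) (y2 y)) : (⟨_, hI⟩ : AlgSp.Sp S) ⟶ (AlgSp.yon S).obj T)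
      ((AlgSp.yon S).map r.π) :=
    IsPullback.of_map_of_faithful (sheafToPresheaf (AlgSp.J S) (Type (u + 1))) sq4
  have sq5' : IsPullback (ObjectProperty.homMk (mul sq ≫ r₁.i.hom) : (⟨_, hQ⟩ : AlgSp.Sp S) ⟶ (AlgSp.yon S).obj r₁.V)
      (ObjectProperty.homMk (pullback.snd _ _ ≫ r.i.hom) : (⟨_, hQ⟩ : AlgSp.Sp S) ⟶ (AlgSp.yon S).obj r.V)
      ((AlgSp.yon S).map (prod.lift r₁.π r₁.φ))
      ((AlgSp.yon S).map (prod.lift r.π r.φ)) :=
    IsPullback.of_map_of_faithful (sheafToPresheaf (AlgSp.J S) (Type (u + 1))) sq5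
  have hQA : AlgSp.IsAlgSpace (⟨_, hQ⟩ : AlgSp.Sp S) :=
    K608.Comp.isAlgSpace_of_isPullback sq5' (IsAlgSpace.yon_obj _) (IsAlgSpace.yon_obj _) (IsAlgSpace.yon_obj _)
  refine ⟨hI, descend _ hf hp hsj sq4' hQA, ?_⟩
  exact prop_descend hloc hf hp ha hsj sq4' hQA (MorphismProperty.of_isPullback sq5' hP)

/-! ### The chart `X ⟶ [X/G]` -/

section Quot

open K744.Quot K744.IsomFp K744.QuotFp MonoidalCategory

variable {K : Precoverage Scheme.{u}} {G : Over S} [GrpObj G] {X : Over S} {aX : AlgGrp.Action G X}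

theorem exists_repd [K.HasIsos] [K.IsStableUnderBaseChange] (h𝒳 : FibCat.IsFibGrpd (QuotSt K G aX).p) {T : Over S}
    (x : FibCat.overCat T ⥤ᵇ QuotSt K G aX) :
    ∃ r : Repd h𝒳 x (chart K G aX), r.V = (tors x).P ∧ HEq r.π (strU x) ∧ HEq r.φ (tors x).φ := by
  obtain ⟨e, he, he1, he2⟩ := exists_isEquivOver_overCat x
  have he' : FibCat.IsEquivOver (BasedFunctor.comp (toOverCat (tors x).P) e) :=
    K734.Fib.isEquivOver_comp (K735.Rep.isEquivOver_toOverCat _) he
  obtain ⟨i, ⟨α⟩⟩ := OfPsh.exists_iso_of_rep (toFp_isEquivOver.{u + 1} h𝒳 x (chart K G aX)) he'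
  have key : ∀ {W : Over S} (Φ : FibCat.fp x (chart K G aX) ⥤ᵇ FibCat.overCat W) (g : (tors x).P ⟶ W)
      (_ : BasedFunctor.comp e Φ = ovMap g), Rep.pMap (BasedFunctor.comp (toFp.{u + 1} h𝒳 x (chart K G aX)) Φ) =
        i.hom ≫ (pyon S).map g := by
    intro W Φ g hg
    have h1 := Rep.pMap_congr (K734.Fib.wr α.symm Φ)
    rw [h1]
    change i.hom ≫ Rep.pMap (BasedFunctor.comp (toOverCat (tors x).P) (BasedFunctor.comp e Φ)) = _
    rw [hg]
    have h2 := spMapOfOver_toOverCat_ovMap g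
    rw [Rep.spMapOfOver_eq] at h2
    have h3 := congrArg (fun f => f.hom) h2
    exact congrArg (fun f => i.hom ≫ f) h3
  refine ⟨⟨(tors x).P, i, strU x, (tors x).φ, ?_, ?_⟩, rfl, HEq.rfl, HEq.rfl⟩
  · rw [← pMap_toFp_fst]
    exact key _ _ he1
  · rw [← pMap_toFp_snd]
    exact key _ _ he2

theorem isAffineHom_prodFst_diag (T : Over S) (X : Over S) (hX : IsAffineHom (pullback.diagonal X.hom)) :
    IsAffineHom (pullback.diagonal (prod.fst : T ⨯ X ⟶ T).left) := by
  have sq : IsPullback (prod.fst : T ⨯ X ⟶ T) prod.snd (Over.mkIdTerminal.from T) (Over.mkIdTerminal.from X) :=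
    IsPullback.of_is_product (prodIsProd T X) Over.mkIdTerminal
  have sq' := sq.map (Over.forget S)
  have h1 : (Over.mkIdTerminal.from X).left = X.hom := by
    have := Over.w (Over.mkIdTerminal.from X)
    exact (Category.comp_id _).symm.trans this
  have : MorphismProperty.diagonal @IsAffineHom (prod.fst : T ⨯ X ⟶ T).left := by
    refine MorphismProperty.of_isPullback sq'.flip ?_
    change IsAffineHom (pullback.diagonal (Over.mkIdTerminal.from X).left)
    rw [h1]
    exact hX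
  exact this

theorem isAffineHom_lift {T X P : Over S} (π : P ⟶ T) (φ : P ⟶ X) (hπ : IsAffineHom π.left)
    (hX : IsAffineHom (pullback.diagonal X.hom)) : IsAffineHom (prod.lift π φ : P ⟶ T ⨯ X).left := by
  have h := (MorphismProperty.hasOfPostcompProperty_iff_le_diagonal (P := @IsAffineHom)
    (Q := MorphismProperty.diagonal @IsAffineHom)).2 le_rfl
  refine h.of_postcomp (prod.lift π φ : P ⟶ T ⨯ X).left (prod.fst : T ⨯ X ⟶ T).left
    (isAffineHom_prodFst_diag T X hX) ?_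
  have : (prod.lift π φ : P ⟶ T ⨯ X).left ≫ (prod.fst : T ⨯ X ⟶ T).left = π.left := by
    rw [← Over.comp_left, prod.lift_fst]
  rw [this]
  exact hπ

instance : (IsAffineMor (S := S)).IsStableUnderBaseChange :=
  ⟨fun sq h => K608.Field.isAffineMor_of_isPullback sq h⟩

theorem diag_quotSt [K.HasIsos] [K.IsStableUnderBaseChange] (hK : K ≤ Scheme.fppfPrecoverage)
    [Flat G.hom] [LocallyOfFinitePresentation G.hom] [IsAffineHom G.hom]
    (hX : IsAffineHom (pullback.diagonal X.hom)) (aX : AlgGrp.Action G X) :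
    RepByAlgSpWith IsAffineMor (FibCat.diag (FibCat.toSelf (QuotSt K G aX))) := by
  have hs := K750.QuotPre.isPrestack_quotSt K G aX (AlgSp.J S)
  refine diag_of_charts K628.Props.isLocalOnBase_isAffineMor hs (z := chart K G aX) fun T x => ?_
  obtain ⟨r, hV, hπ, hφ⟩ := exists_repd hs.1 x
  obtain ⟨V, i, π, φ, wT, wU⟩ := r
  obtain rfl : V = _ := hV
  obtain rfl : π = _ := eq_of_heq hπ
  obtain rfl : φ = _ := eq_of_heq hφ
  have key : ∀ (A : QuotObj K G aX) (V : Over S) (e : A.base = V), Flat (A.π ≫ eqToHom e).left ∧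
      LocallyOfFinitePresentation (A.π ≫ eqToHom e).left ∧ IsAffineHom (A.π ≫ eqToHom e).left ∧
      Surjective (A.π ≫ eqToHom e).left := by
    rintro A _ rfl
    rw [eqToHom_refl, Category.comp_id]
    exact ⟨K744.TorsProp.flat_of_torsor (EtQuot.coarsen hK A), K744.TorsProp.lfp_of_torsor (EtQuot.coarsen hK A),
      EtQuot.isAffineHom_of_torsor hK A, EtQuot.surjective_of_torsor hK A⟩
  have h := key (tors x) T (tors_base x)
  refine ⟨⟨_, i, _, _, wT, wU⟩, h.1, h.2.1, h.2.2.1, h.2.2.2, ?_⟩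
  exact EtQuot.isAffineMor_yon_map _ (isAffineHom_lift _ _ h.2.2.1 hX)

end Quot

end K735.DiagAff
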