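import Groth.Agent.AlgSt.K735.UnivClosedDvr
import Groth.Agent.AlgSt.K734.FpAlg
import Groth.Agent.AlgSt.K743.QC

/-!
# Universally closed morphisms and discrete valuation rings (helper735)

* `K735.DvrMain.isAlgStack_overCat_et`: slices are algebraic stacks for the etale topology;
* `exists_chart_lft`: a chart of `𝒳 ×_𝒴 V` is locally of finite type over `V`;
* `isUnivClosed_of_dvrLift`.
-/

set_option autoImplicit false
set_option backward.isDefEq.respectTransparency false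
set_option backward.isDefEq.respectTransparency.types false

universe v₉ u₉ v₈ u₈ v₇ u₇ v₆ u₆ v₅ u₅ v₄ u₄ v₃ u₃ v₂ u₂ v u

open CategoryTheory CategoryTheory.Limits AlgebraicGeometry Opposite K735.Fib K735.Fp K735.Rep K735.Pts K735.PtsSp
  K735.Top K735.Cart K735.ClosedLim K735.DvrSpec K735.UnivClosedDvr

namespace K735.DvrMain

variable {S : Scheme.{u}}

theorem isAlgStack_et_of_fppf {𝒳 : BasedCategory.{v₂, u₂} (Over S)} (h : AlgSt.IsAlgStack Scheme.fppfPrecoverage 𝒳) :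
    AlgSt.IsAlgStack Scheme.etalePrecoverage 𝒳 :=
  ⟨K747.EtFppf.isStack_mono (K747.Top.J_le S) h.isStack, h.diag, h.atlas⟩

theorem isAlgStack_overCat_et (U : Over S) : AlgSt.IsAlgStack Scheme.etalePrecoverage (FibCat.overCat U) :=
  isAlgStack_et_of_fppf (K744.AlgOver.isAlgStack_overCat U)

variable {𝒳 𝒴 : AlgSt.Cat S}

/-- A smooth chart of `𝒳 ×_𝒴 V` is locally of finite type over the smooth chart `V` of `𝒴` if `f` is locally of finite
type. -/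
theorem exists_chart_lft (h𝒳 : FibCat.IsFibGrpd 𝒳.p) (h𝒴 : FibCat.IsFibGrpd 𝒴.p) {f : 𝒳 ⥤ᵇ 𝒴}
    (hft : AlgSt.LocQ (AlgSp.LocP @LocallyOfFiniteType) f) {U V : Over S} (y : FibCat.overCat V ⥤ᵇ 𝒴)
    (hy : AlgSt.RepByAlgSpWith (AlgSp.LocP @Smooth) y) (x : FibCat.overCat U ⥤ᵇ FibCat.fp f y)
    (hx : AlgSt.RepByAlgSpWith (AlgSp.LocP @Smooth) x) :
    ∃ (q : U ⟶ V) (_ : BasedFunctor.comp x (FibCat.fpSnd f y) ≅ AlgSt.overMap q), LocallyOfFiniteType q.left := by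
  obtain ⟨q, α, ⟨e⟩⟩ := K741.exists_sq_of_fp h𝒳 h𝒴 f y x
  refine ⟨q, whiskerRightIso e (FibCat.fpSnd f y), ?_⟩
  exact AlgSp.locP_yon_map (K741.prop_of_locQ K894.SmST.isSmoothLocalST_lft h𝒳 h𝒴 hft _ y q α hy
    (repByAlgSpWith_of_iso _ e hx))

theorem isUnivClosed_of_dvrLift (h𝒳 : AlgSt.IsAlgStack Scheme.etalePrecoverage 𝒳)
    (h𝒴 : AlgSt.IsAlgStack Scheme.etalePrecoverage 𝒴) (hn𝒴 : AlgSt.SmoothLocally (fun T => IsLocallyNoetherian T) 𝒴)
    {f : 𝒳 ⥤ᵇ 𝒴} (hqc : AlgSt.IsQuasiCompactMor Scheme.etalePrecoverage f)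
    (hft : AlgSt.LocQ (AlgSp.LocP @LocallyOfFiniteType) f) (hval : DvrLift f) :
    AlgSt.IsUnivClosed Scheme.etalePrecoverage f := by
  have g𝒳 := h𝒳.isStack.1
  have g𝒴 := h𝒴.isStack.1
  have hfp : ∀ (𝒵 : AlgSt.Cat S), AlgSt.IsAlgStack Scheme.etalePrecoverage 𝒵 → ∀ (g : 𝒵 ⥤ᵇ 𝒴),
      AlgSt.IsAlgStack Scheme.etalePrecoverage (FibCat.fp g f) := fun 𝒵 h𝒵 g =>
    K734.Rep.isAlgStack_fp (K734.Rep.isPrestack_of_isStack h𝒴.isStack) h𝒴.diag h𝒵 h𝒳 g f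
  -- over a scheme
  have hT : ∀ (T : Over S) (v : FibCat.overCat T ⥤ᵇ 𝒴), IsClosedMap (AlgSt.Points.map (FibCat.fpFst v f)) := by
    intro T v
    refine isClosedMap_of_local g𝒳 g𝒴 h𝒴.atlas f v
      (chartCont_of_isAlgStack (hfp _ (isAlgStack_overCat_et T) v)) ?_
    intro R B _ _ _ sV y hy
    have hN : IsLocallyNoetherian (Spec (CommRingCat.of R)) := hn𝒴 _ y hy
    have : IsAffine (Over.mk sV : Over S).left := inferInstanceAs (IsAffine (Spec (CommRingCat.of R)))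
    obtain ⟨U, x₀, hU, hx₀, hx₀s⟩ := hqc (FibCat.overCat (Over.mk sV)) (isAlgStack_overCat_et _)
      (K743.QC.isQuasiCompact_overCat _) y
    -- swap the factors
    let x : FibCat.overCat U ⥤ᵇ FibCat.fp f y := BasedFunctor.comp x₀ (K735.Fp.fpSwap y f)
    have hsw := isEquivOver_fpSwap y f
    have hx : AlgSt.RepByAlgSpWith (AlgSp.LocP @Smooth) x :=
      (repByAlgSpWith_iff_of_sq _ x x₀ (BasedFunctor.id _) (K735.Fp.fpSwap y f) isEquivOver_id hsw (Iso.refl _)).2 hx₀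
    have hxs : Function.Surjective (AlgSt.Points.ofChart x) := by
      rw [← surjective_map_iff_surjective_ofChart]
      intro z
      obtain ⟨z, rfl⟩ := (map_bijective_of_isEquivOver hsw).2 z
      obtain ⟨w, rfl⟩ := surjective_of_repByAlgSpWith (isFibGrpd_fp (isFibGrpd_overCat _) g𝒳 g𝒴 y f)
        (isFibGrpd_overCat U) hx₀s z
      exact ⟨w, map_comp _ _ _⟩
    obtain ⟨q, θ, hq⟩ := exists_chart_lft g𝒳 g𝒴 hft y hy x hx
    exact isClosedMap_aff g𝒳 g𝒴 hval sV y x hx hxs θ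
  intro 𝒵 h𝒵 g D hD
  rw [← isOpen_compl_iff]
  intro T w _
  have h1 := preimage_image_fp g𝒳 g𝒴 h𝒵.isStack.1 g f w D
  rw [Set.preimage_compl, h1, isOpen_compl_iff, ← isClosed_iff]
  exact hT T _ _ (hD.preimage (continuous_map (chartCont_of_isAlgStack (hfp 𝒵 h𝒵 g)) _))

end K735.DvrMain
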