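import Groth.Agent.AlgSt.K735.DvrMain
import Groth.Agent.AlgSt.K736.Spectral

/-!
# Specializations of points of algebraic stacks (helper735)

* `K735.DvrReal.exists_generization`: generizations lift along a smooth chart of a quasi-separated stack;
* `exists_dvr_of_specializes`: specializations in the target of a morphism locally of finite type are realized by
  discrete valuation rings.
-/

set_option autoImplicit false
set_option backward.isDefEq.respectTransparency false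
set_option backward.isDefEq.respectTransparency.types false

universe v₉ u₉ v₈ u₈ v₇ u₇ v₆ u₆ v₅ u₅ v₄ u₄ v₃ u₃ v₂ u₂ v u

open CategoryTheory CategoryTheory.Limits AlgebraicGeometry Opposite K735.Fib K735.Fp K735.Rep K735.Pts K735.PtsSp
  K735.Top K735.Cart K735.ClosedLim K735.DvrSpec K735.UnivClosedDvr

namespace K735.DvrReal

variable {S : Scheme.{u}} {𝒳 𝒴 : AlgSt.Cat S}

/-- Generizations lift along an affine smooth chart of a stack with quasi-compact diagonal, at points of the image. -/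
theorem exists_generization [QuasiSeparatedSpace S] (h𝒴 : FibCat.IsFibGrpd 𝒴.p)
    (hΔ : AlgSt.RepByAlgSpWith AlgSp.IsQuasiCompactMor (FibCat.diag (FibCat.toSelf 𝒴)))
    {V : Over S} [IsAffine V.left] (y : FibCat.overCat V ⥤ᵇ 𝒴) (hy : AlgSt.RepByAlgSpWith (AlgSp.LocP @Smooth) y)
    (v₁ v₀ : ↥V.left) (h : AlgSt.Points.ofChart y v₁ ⤳ AlgSt.Points.ofChart y v₀) :
    ∃ v : ↥V.left, v ⤳ v₀ ∧ AlgSt.Points.ofChart y v = AlgSt.Points.ofChart y v₁ := by
  obtain ⟨R, hR, s, t, hst⟩ := K736.Spectral.exists_relation h𝒴 hΔ y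
  have ho : IsOpenMap (AlgSt.Points.ofChart y) := isOpenMap_ofChart y
    (isOpenMap_map isOpenMap_of_smooth h𝒴 (isFibGrpd_overCat _) (chartCont_overCat _) hy)
  have h1 : v₀ ∈ closure (AlgSt.Points.ofChart y ⁻¹' {AlgSt.Points.ofChart y v₁}) :=
    ho.preimage_closure_subset_closure_preimage (specializes_iff_mem_closure.1 h)
  let g : pullback s (V.left.fromSpecResidueField v₁) ⟶ V.left := pullback.fst _ _ ≫ t
  have h2 : AlgSt.Points.ofChart y ⁻¹' {AlgSt.Points.ofChart y v₁} = Set.range g := by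
    ext v
    simp only [Set.mem_preimage, Set.mem_singleton_iff]
    rw [eq_comm, hst]
    constructor
    · rintro ⟨r, hr, rfl⟩
      obtain ⟨z, hz, -⟩ := Scheme.Pullback.exists_preimage_pullback (f := s) (g := V.left.fromSpecResidueField v₁) r
        (IsLocalRing.closedPoint _) (hr.trans (Scheme.fromSpecResidueField_apply _ _).symm)
      exact ⟨z, (Scheme.Hom.comp_apply _ _ _).trans (congrArg t hz)⟩
    · rintro ⟨z, rfl⟩
      refine ⟨pullback.fst s (V.left.fromSpecResidueField v₁) z, ?_, (Scheme.Hom.comp_apply _ _ _).symm⟩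
      rw [← Scheme.Hom.comp_apply, pullback.condition, Scheme.Hom.comp_apply]
      exact Scheme.fromSpecResidueField_apply _ _
  rw [h2] at h1
  obtain ⟨z, hz⟩ := Groth.Agent.Fdesc.QuasiCompactTop.exists_specializes_of_mem_closure_range g v₀ h1
  have h3 : g z ∈ AlgSt.Points.ofChart y ⁻¹' {AlgSt.Points.ofChart y v₁} := h2 ▸ ⟨z, rfl⟩
  exact ⟨g z, hz, h3⟩

theorem exists_dvr_of_specializes [QuasiSeparatedSpace S] {K : Precoverage Scheme.{u}} (h𝒳 : AlgSt.IsAlgStack K 𝒳)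
    (h𝒴 : AlgSt.IsAlgStack K 𝒴) (hn𝒴 : AlgSt.SmoothLocally (fun T => IsLocallyNoetherian T) 𝒴)
    (hov : ∀ V : Over S, AlgSt.IsAlgStack K (FibCat.overCat V))
    (hqc : AlgSt.IsQuasiCompact 𝒴)
    (hΔ : AlgSt.RepByAlgSpWith AlgSp.IsQuasiCompactMor (FibCat.diag (FibCat.toSelf 𝒴)))
    {f : 𝒳 ⥤ᵇ 𝒴} (hft : AlgSt.LocQ (AlgSp.LocP @LocallyOfFiniteType) f)
    (x : AlgSt.Points 𝒳) (y₀ : AlgSt.Points 𝒴) (hsp : AlgSt.Points.map f x ⤳ y₀) :
    ∃ (R : Type u) (_ : CommRing R) (_ : IsDomain R) (_ : IsDiscreteValuationRing R)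
      (sR : Spec (CommRingCat.of R) ⟶ S)
      (a : FibCat.overCat (Over.mk (Spec.map (CommRingCat.ofHom (algebraMap R (FractionRing R))) ≫ sR)) ⥤ᵇ 𝒳)
      (b : FibCat.overCat (Over.mk sR) ⥤ᵇ 𝒴),
      Nonempty (BasedFunctor.comp a f ≅
        BasedFunctor.comp (AlgSt.overMap (Over.homMk (Spec.map (CommRingCat.ofHom (algebraMap R (FractionRing R)))) rfl :
          Over.mk (Spec.map (CommRingCat.ofHom (algebraMap R (FractionRing R))) ≫ sR) ⟶ Over.mk sR)) b) ∧
      (∀ p, AlgSt.Points.ofChart a p = x) ∧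
      AlgSt.Points.ofChart b (IsLocalRing.closedPoint R) = y₀ := by
  have g𝒳 := h𝒳.isStack.1
  have g𝒴 := h𝒴.isStack.1
  obtain ⟨V, y, hVa, hy, hys⟩ := hqc
  have hys' := (surjective_map_iff_surjective_ofChart y).1
    (surjective_of_repByAlgSpWith g𝒴 (isFibGrpd_overCat V) hys)
  obtain ⟨v₀, rfl⟩ := hys' y₀
  obtain ⟨v₁, hv₁⟩ := hys' (AlgSt.Points.map f x)
  rw [← hv₁] at hsp
  obtain ⟨v, hv, hv'⟩ := exists_generization g𝒴 hΔ y hy v₁ v₀ hsp
  obtain ⟨ω, hω1, hω2⟩ := exists_fp (isFibGrpd_overCat V) g𝒳 g𝒴 f y x (AlgSt.Points.ofChart (BasedFunctor.id _) v)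
    (by rw [← ofChart_eq_map, hv', hv₁])
  have hfp : AlgSt.IsAlgStack K (FibCat.fp f y) :=
    K734.Rep.isAlgStack_fp (K734.Rep.isPrestack_of_isStack h𝒴.isStack) h𝒴.diag h𝒳 (hov V) f y
  obtain ⟨U, c, hc, hcs⟩ := hfp.atlas
  obtain ⟨u, hu⟩ := (surjective_map_iff_surjective_ofChart c).1
    (surjective_of_repByAlgSpWith hfp.isStack.1 (isFibGrpd_overCat U) hcs) ω
  obtain ⟨q, θ, hq⟩ := DvrMain.exists_chart_lft g𝒳 g𝒴 hft y hy c hc
  have hqu : q.left u = v := by
    apply (ofChart_id_bijective V).1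
    rw [← hω2, ← hu, map_ofChart_over θ]
  have hN : IsLocallyNoetherian V.left := hn𝒴 _ y hy
  obtain ⟨R, _, _, _, g, κ, hκ, hκu, hg⟩ := exists_dvr q.left u v₀ (hqu ▸ hv)
  let sR : Spec (CommRingCat.of R) ⟶ S := g ≫ V.hom
  let ηR : Spec (CommRingCat.of (FractionRing R)) ⟶ Spec (CommRingCat.of R) :=
    Spec.map (CommRingCat.ofHom (algebraMap R (FractionRing R)))
  let j : Over.mk (ηR ≫ sR) ⟶ Over.mk sR := Over.homMk ηR rfl
  let gT : Over.mk sR ⟶ V := Over.homMk g rfl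
  let ιU : Over.mk (ηR ≫ sR) ⟶ U := Over.homMk κ (by
    change κ ≫ U.hom = ηR ≫ g ≫ V.hom
    rw [← Over.w q, reassoc_of% hκ])
  have hιU : ιU ≫ q = j ≫ gT := Over.OverMorphism.ext hκ
  obtain ⟨j1⟩ := exists_iso_overMap_comp ιU q
  obtain ⟨j2⟩ := exists_iso_overMap_comp j gT
  refine ⟨R, inferInstance, inferInstance, inferInstance, sR,
    BasedFunctor.comp (BasedFunctor.comp (AlgSt.overMap ιU) c) (FibCat.fpFst f y),
    BasedFunctor.comp (AlgSt.overMap gT) y, ⟨?_⟩, ?_, ?_⟩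
  · exact (whiskerLeftIso (BasedFunctor.comp (AlgSt.overMap ιU) c) (FibCat.fpIso f y)).trans
      (whiskerRightIso ((whiskerLeftIso (AlgSt.overMap ιU) θ).trans (j1.trans ((overMapCongr hιU).trans j2.symm))) y)
  · intro p
    rw [← map_ofChart, ofChart_overMap]
    have h1 : ιU.left p = u := hκu p
    rw [h1, hu, hω1]
  · rw [ofChart_overMap]
    exact congrArg _ hg

end K735.DvrReal
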