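import Groth.Agent.AlgSt.K735.ClosedLim
import Groth.Agent.AlgSp.K603.DvrSch

/-!
# The valuative criterion with discrete valuation rings: specializations (helper735)

* `K735.DvrSpec.exists_dvr`: a point `u` of `U`, `q : U ⟶ T` locally of finite type over a locally Noetherian scheme and a
  specialization `t'` of `q u` are realized by a discrete valuation ring;
* `DvrLift f`: the valuative criterion (with extensions) for `f` on discrete valuation rings;
* `exists_specializes`: under `DvrLift f`, specializations lift along `|𝒳 ×_𝒴 T| → |T|`, `T` locally Noetherian;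
* `isClosedMap_of_specializes`: closedness on points from lifting of specializations.
-/

set_option autoImplicit false
set_option backward.isDefEq.respectTransparency false
set_option backward.isDefEq.respectTransparency.types false

universe v₉ u₉ v₈ u₈ v₇ u₇ v₆ u₆ v₅ u₅ v₄ u₄ v₃ u₃ v₂ u₂ v u

open CategoryTheory CategoryTheory.Limits AlgebraicGeometry Opposite K735.Fib K735.Fp K735.Rep K735.Pts K735.PtsSp
  K735.Top K735.Cart K735.ClosedLim

namespace K735.DvrSpec

section Sch

/-- The image of a closed subset under a quasi-compact morphism is closed as soon as it is stable under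
specialization. -/
theorem isClosed_image_of_specializes {U T : Scheme.{u}} (q : U ⟶ T) [QuasiCompact q] (Z : Set U) (hZ : IsClosed Z)
    (hsp : ∀ u ∈ Z, ∀ t' : T, q u ⤳ t' → t' ∈ q '' Z) : IsClosed (q '' Z) := by
  let I := Scheme.IdealSheafData.vanishingIdeal (⟨Z, hZ⟩ : TopologicalSpace.Closeds U)
  have hI : Set.range I.subschemeι = Z := by
    rw [Scheme.IdealSheafData.range_subschemeι]
    rfl
  rw [← closure_subset_iff_isClosed]
  intro y hy
  have h1 : q '' Z = Set.range (I.subschemeι ≫ q) := by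
    rw [← hI, ← Set.range_comp]
    congr 1
  rw [h1] at hy
  obtain ⟨w, hw⟩ := Groth.Agent.Fdesc.QuasiCompactTop.exists_specializes_of_mem_closure_range (I.subschemeι ≫ q) y hy
  refine hsp (I.subschemeι w) (hI ▸ ⟨w, rfl⟩) y hw

/-- Discrete valuation rings through points of a scheme locally of finite type over a locally Noetherian scheme. -/
theorem exists_dvr {U T : Scheme.{u}} (q : U ⟶ T) [LocallyOfFiniteType q] [IsLocallyNoetherian T] (u : U) (t' : T)
    (h : q u ⤳ t') :
    ∃ (A : Type u) (_ : CommRing A) (_ : IsDomain A) (_ : IsDiscreteValuationRing A)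
      (α : Spec (CommRingCat.of A) ⟶ T) (κ : Spec (CommRingCat.of (FractionRing A)) ⟶ U),
      κ ≫ q = Spec.map (CommRingCat.ofHom (algebraMap A (FractionRing A))) ≫ α ∧
      (∀ s, κ s = u) ∧ α (IsLocalRing.closedPoint A) = t' := by
  by_cases hne : q u = t'
  · let k := U.residueField u
    let c : k ⟶ CommRingCat.of (PowerSeries k) := CommRingCat.ofHom (PowerSeries.C (R := k))
    refine ⟨PowerSeries k, inferInstance, inferInstance, inferInstance,
      Spec.map c ≫ U.fromSpecResidueField u ≫ q,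
      Spec.map (CommRingCat.ofHom (algebraMap (PowerSeries k) (FractionRing (PowerSeries k)))) ≫
        Spec.map c ≫ U.fromSpecResidueField u, ?_, ?_, ?_⟩
    · simp only [Category.assoc]
    · intro s
      rw [Scheme.Hom.comp_apply, Scheme.Hom.comp_apply, Scheme.fromSpecResidueField_apply]
    · rw [← hne, Scheme.Hom.comp_apply, Scheme.Hom.comp_apply, Scheme.fromSpecResidueField_apply]
  · obtain ⟨R, _, _, _, _, _, g, hg1, hg2⟩ :=
      Groth.Agent.Ega43.DvrScheme.exists_dvr_of_specializes_of_locallyOfFiniteType q u h hne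
    let e : FractionRing R ≃ₐ[R] (U.residueField u) := FractionRing.algEquiv R (U.residueField u)
    refine ⟨R, inferInstance, inferInstance, inferInstance, g,
      Spec.map (CommRingCat.ofHom (e.symm.toAlgHom : U.residueField u →ₐ[R] FractionRing R).toRingHom) ≫
        U.fromSpecResidueField u, ?_, ?_, hg1⟩
    · rw [Category.assoc, ← hg2, ← Category.assoc, ← Spec.map_comp]
      congr 2
      ext r
      simp
    · intro s
      rw [Scheme.Hom.comp_apply]
      exact Scheme.fromSpecResidueField_apply _ _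

end Sch

section St

variable {S : Scheme.{u}} {𝒳 : BasedCategory.{v₂, u₂} (Over S)} {𝒴 : BasedCategory.{v₃, u₃} (Over S)}
  {𝒢 : BasedCategory.{v₄, u₄} (Over S)}

/-- The valuative criterion (with extensions of the discrete valuation ring) for `f`. -/
def DvrLift (f : 𝒳 ⥤ᵇ 𝒴) : Prop :=
  ∀ (R : Type u) [CommRing R] [IsDomain R] [IsDiscreteValuationRing R]
        (sR : Spec (CommRingCat.of R) ⟶ S)
        (a : FibCat.overCat (Over.mk (Spec.map (CommRingCat.ofHom (algebraMap R (FractionRing R))) ≫ sR)) ⥤ᵇ 𝒳)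
        (b : FibCat.overCat (Over.mk sR) ⥤ᵇ 𝒴)
        (α : BasedFunctor.comp a f ≅
          BasedFunctor.comp (AlgSt.overMap (Over.homMk (Spec.map (CommRingCat.ofHom (algebraMap R (FractionRing R)))) rfl :
            Over.mk (Spec.map (CommRingCat.ofHom (algebraMap R (FractionRing R))) ≫ sR) ⟶ Over.mk sR)) b),
        ∃ (R' : Type u) (_ : CommRing R') (_ : IsDomain R') (_ : IsDiscreteValuationRing R') (φ : R →+* R')
          (_ : Function.Injective φ) (_ : IsLocalHom φ)
          (gψ : (Over.mk (Spec.map (CommRingCat.ofHom (algebraMap R' (FractionRing R'))) ≫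
                  Spec.map (CommRingCat.ofHom φ) ≫ sR) : Over S) ⟶
                Over.mk (Spec.map (CommRingCat.ofHom (algebraMap R (FractionRing R))) ≫ sR))
          (c : FibCat.overCat (Over.mk (Spec.map (CommRingCat.ofHom φ) ≫ sR)) ⥤ᵇ FibCat.fp f b),
          gψ ≫ (Over.homMk (Spec.map (CommRingCat.ofHom (algebraMap R (FractionRing R)))) rfl :
              Over.mk (Spec.map (CommRingCat.ofHom (algebraMap R (FractionRing R))) ≫ sR) ⟶ Over.mk sR) =
            (Over.homMk (Spec.map (CommRingCat.ofHom (algebraMap R' (FractionRing R')))) rfl :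
                Over.mk (Spec.map (CommRingCat.ofHom (algebraMap R' (FractionRing R'))) ≫
                  Spec.map (CommRingCat.ofHom φ) ≫ sR) ⟶ Over.mk (Spec.map (CommRingCat.ofHom φ) ≫ sR)) ≫
              (Over.homMk (Spec.map (CommRingCat.ofHom φ)) rfl :
                Over.mk (Spec.map (CommRingCat.ofHom φ) ≫ sR) ⟶ Over.mk sR) ∧
          Nonempty (BasedFunctor.comp c (FibCat.fpSnd f b) ≅
            AlgSt.overMap (Over.homMk (Spec.map (CommRingCat.ofHom φ)) rfl :
              Over.mk (Spec.map (CommRingCat.ofHom φ) ≫ sR) ⟶ Over.mk sR)) ∧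
          Nonempty (BasedFunctor.comp
              (AlgSt.overMap (Over.homMk (Spec.map (CommRingCat.ofHom (algebraMap R' (FractionRing R')))) rfl :
                Over.mk (Spec.map (CommRingCat.ofHom (algebraMap R' (FractionRing R'))) ≫
                  Spec.map (CommRingCat.ofHom φ) ≫ sR) ⟶ Over.mk (Spec.map (CommRingCat.ofHom φ) ≫ sR))) c ≅
            BasedFunctor.comp (AlgSt.overMap gψ)
              (FibCat.fpLift a
                (AlgSt.overMap (Over.homMk (Spec.map (CommRingCat.ofHom (algebraMap R (FractionRing R)))) rfl :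
                  Over.mk (Spec.map (CommRingCat.ofHom (algebraMap R (FractionRing R))) ≫ sR) ⟶ Over.mk sR)) α))

variable {f : 𝒳 ⥤ᵇ 𝒴}

/-- Under the valuative criterion for discrete valuation rings, specializations lift along the base change of `f` to
a locally Noetherian scheme. -/
theorem exists_specializes (hval : DvrLift f) {T U : Over S} [IsLocallyNoetherian T.left] {a : 𝒢 ⥤ᵇ 𝒳}
    {p : 𝒢 ⥤ᵇ FibCat.overCat T} {y : FibCat.overCat T ⥤ᵇ 𝒴} {e : BasedFunctor.comp a f ≅ BasedFunctor.comp p y}
    (hc : FibCat.IsTwoCartOver a p e) {x : FibCat.overCat U ⥤ᵇ 𝒢} {q : U ⟶ T}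
    (θ : BasedFunctor.comp x p ≅ AlgSt.overMap q) [LocallyOfFiniteType q.left] (hcont : ChartCont 𝒢)
    (u : ↥U.left) (t' : ↥T.left) (h : q.left u ⤳ t') :
    ∃ z' : AlgSt.Points 𝒢, AlgSt.Points.ofChart x u ⤳ z' ∧
      AlgSt.Points.map p z' = AlgSt.Points.ofChart (BasedFunctor.id (FibCat.overCat T)) t' := by
  obtain ⟨R, _, _, _, g, κ, hκ, hκu, hg⟩ := exists_dvr q.left u t' h
  let sR : Spec (CommRingCat.of R) ⟶ S := g ≫ T.hom
  let ηR : Spec (CommRingCat.of (FractionRing R)) ⟶ Spec (CommRingCat.of R) :=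
    Spec.map (CommRingCat.ofHom (algebraMap R (FractionRing R)))
  let j : Over.mk (ηR ≫ sR) ⟶ Over.mk sR := Over.homMk ηR rfl
  let gT : Over.mk sR ⟶ T := Over.homMk g rfl
  let ιU : Over.mk (ηR ≫ sR) ⟶ U := Over.homMk κ (by
    change κ ≫ U.hom = ηR ≫ g ≫ T.hom
    rw [← Over.w q, reassoc_of% hκ])
  have hιU : ιU ≫ q = j ≫ gT := Over.OverMorphism.ext hκ
  obtain ⟨j1⟩ := exists_iso_overMap_comp ιU q
  obtain ⟨j2⟩ := exists_iso_overMap_comp j gT
  let k : BasedFunctor.comp (BasedFunctor.comp (AlgSt.overMap ιU) x) p ≅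
      BasedFunctor.comp (AlgSt.overMap j) (AlgSt.overMap gT) :=
    (whiskerLeftIso (AlgSt.overMap ιU) θ).trans (j1.trans ((overMapCongr hιU).trans j2.symm))
  let a' := BasedFunctor.comp (BasedFunctor.comp (AlgSt.overMap ιU) x) a
  let b := BasedFunctor.comp (AlgSt.overMap gT) y
  let α : BasedFunctor.comp a' f ≅ BasedFunctor.comp (AlgSt.overMap j) b :=
    (whiskerLeftIso (BasedFunctor.comp (AlgSt.overMap ιU) x) e).trans (whiskerRightIso k y)
  obtain ⟨R', _, _, _, φ, _, hloc, gψ, c, hgψ, ⟨c2⟩, ⟨c3⟩⟩ := hval R sR a' b α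
  let sR' : Spec (CommRingCat.of R') ⟶ S := Spec.map (CommRingCat.ofHom φ) ≫ sR
  let ηR' : Spec (CommRingCat.of (FractionRing R')) ⟶ Spec (CommRingCat.of R') :=
    Spec.map (CommRingCat.ofHom (algebraMap R' (FractionRing R')))
  let j' : Over.mk (ηR' ≫ sR') ⟶ Over.mk sR' := Over.homMk ηR' rfl
  let φ' : Over.mk sR' ⟶ Over.mk sR := Over.homMk (Spec.map (CommRingCat.ofHom φ)) rfl
  obtain ⟨M, _, ⟨m1⟩, ⟨m2⟩⟩ := IsEquivOver.exists_inv hc
  let W₀ : FibCat.fp f b ⥤ᵇ FibCat.fp f y :=
    FibCat.fpLift (FibCat.fpFst f b) (BasedFunctor.comp (FibCat.fpSnd f b) (AlgSt.overMap gT)) (FibCat.fpIso f b)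
  have k2 : BasedFunctor.comp (BasedFunctor.comp (AlgSt.overMap ιU) x) (FibCat.fpLift a p e) ≅
      BasedFunctor.comp (FibCat.fpLift a' (AlgSt.overMap j) α) W₀ :=
    K736.Fib.fpNatIso (P := BasedFunctor.comp (BasedFunctor.comp (AlgSt.overMap ιU) x) (FibCat.fpLift a p e))
      (Q := BasedFunctor.comp (FibCat.fpLift a' (AlgSt.overMap j) α) W₀) (Iso.refl a') k (fun w => by
        have h1 : f.map ((Iso.refl a').hom.toNatTrans.app w) = 𝟙 _ := f.toFunctor.map_id _
        rw [h1]
        exact Category.id_comp _)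
  let D := BasedFunctor.comp (BasedFunctor.comp c W₀) M
  let pt : ↥(Over.mk (ηR' ≫ sR') : Over S).left := IsLocalRing.closedPoint (FractionRing R')
  let cl : ↥(Over.mk sR' : Over S).left := IsLocalRing.closedPoint R'
  refine ⟨AlgSt.Points.ofChart D cl, ?_, ?_⟩
  · have h1 : j'.left pt ⤳ cl := IsLocalRing.specializes_closedPoint _
    have h2 := h1.map (hcont _ D)
    have h3 : AlgSt.Points.ofChart D (j'.left pt) = AlgSt.Points.ofChart x u := by
      rw [← ofChart_overMap]
      have i1 : BasedFunctor.comp (AlgSt.overMap j') D ≅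
          BasedFunctor.comp (AlgSt.overMap gψ) (BasedFunctor.comp (AlgSt.overMap ιU) x) :=
        (whiskerRightIso c3 (BasedFunctor.comp W₀ M)).trans
          (whiskerLeftIso (AlgSt.overMap gψ) ((whiskerRightIso k2.symm M).trans
            (whiskerLeftIso (BasedFunctor.comp (AlgSt.overMap ιU) x) m1)))
      rw [ofChart_congr i1, ofChart_overMap, ofChart_overMap]
      exact congrArg _ (hκu _)
    rwa [h3] at h2
  · have i1 : BasedFunctor.comp D p ≅ BasedFunctor.comp (AlgSt.overMap φ') (AlgSt.overMap gT) :=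
      (whiskerLeftIso (BasedFunctor.comp c W₀) (whiskerRightIso m2 (FibCat.fpSnd f y))).trans
        (whiskerRightIso c2 (AlgSt.overMap gT))
    rw [map_ofChart, ofChart_congr i1, ofChart_overMap]
    have h1 : φ'.left cl = IsLocalRing.closedPoint R :=
      IsLocalRing.comap_closedPoint φ
    rw [h1]
    have h2 := ofChart_overMap gT (BasedFunctor.id (FibCat.overCat T)) (IsLocalRing.closedPoint R)
    have h3 : gT.left (IsLocalRing.closedPoint R) = t' := hg
    rw [h3] at h2
    exact h2

/-- Closedness on points of a morphism to a scheme with a quasi-compact smooth surjective chart along which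
specializations lift. -/
theorem isClosedMap_of_specializes {T U : Over S} {p : 𝒢 ⥤ᵇ FibCat.overCat T} {x : FibCat.overCat U ⥤ᵇ 𝒢} {q : U ⟶ T}
    (θ : BasedFunctor.comp x p ≅ AlgSt.overMap q) (hcont : Continuous (AlgSt.Points.ofChart x))
    (hs : Function.Surjective (AlgSt.Points.ofChart x)) [QuasiCompact q.left]
    (hsp : ∀ (u : ↥U.left) (t' : ↥T.left), q.left u ⤳ t' →
      ∃ z' : AlgSt.Points 𝒢, AlgSt.Points.ofChart x u ⤳ z' ∧
        AlgSt.Points.map p z' = AlgSt.Points.ofChart (BasedFunctor.id (FibCat.overCat T)) t') :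
    IsClosedMap (AlgSt.Points.map p) := by
  intro D hD
  rw [isClosed_iff]
  have h1 : AlgSt.Points.ofChart (BasedFunctor.id (FibCat.overCat T)) ⁻¹' (AlgSt.Points.map p '' D) =
      q.left '' (AlgSt.Points.ofChart x ⁻¹' D) := by
    ext t
    constructor
    · rintro ⟨z, hz, hzt⟩
      obtain ⟨u, rfl⟩ := hs z
      rw [map_ofChart_over θ] at hzt
      exact ⟨u, hz, (ofChart_id_bijective T).1 hzt⟩
    · rintro ⟨u, hu, rfl⟩
      exact ⟨_, hu, map_ofChart_over θ u⟩
  rw [h1]
  refine isClosed_image_of_specializes q.left _ (hD.preimage hcont) ?_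
  intro u hu t' ht'
  obtain ⟨z', hz', hz't⟩ := hsp u t' ht'
  rw [← h1]
  exact ⟨z', hz'.mem_closed hD hu, hz't⟩

end St

end K735.DvrSpec
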