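import Groth.Agent.AlgSt.K735.SpFp
import Groth.Agent.AlgSt.K735.Pts

/-!
# Points of the category of a sheaf and of a scheme (helper735)

* `K735.PtsSp.ptsEquiv F : AlgSt.Points (ofSp F) ≃ AlgSp.Points F`, natural.
* `K735.PtsSp.ofChart_eq`: `ofChart x t` through `map x`.
* `K735.PtsSp.chartEquiv`: `ofChart id : U ⟶ |(Sch/U)|` is a bijection.
-/

set_option autoImplicit false
set_option backward.isDefEq.respectTransparency false
set_option backward.isDefEq.respectTransparency.types false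

universe v₉ u₉ v₈ u₈ v₇ u₇ v₆ u₆ v₅ u₅ v₄ u₄ v₃ u₃ v₂ u₂ v u

open CategoryTheory CategoryTheory.Limits AlgebraicGeometry Opposite K735.Fib K735.Fp K735.Rep K735.Setoid K735.SpFp
  K735.Pts

namespace K735.PtsSp

variable {S : Scheme.{u}}

section

variable {F G : AlgSp.Sp S}

/-- The field-valued point of the sheaf attached to a field-valued point of its category. -/
noncomputable def toField (p : AlgSt.FPt (AlgSt.ofSp F)) : AlgSp.FieldPt F :=
  ⟨p.K, p.str, F.obj.map (eqToHom p.lies.symm).op p.obj.sec⟩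

/-- The converse construction. -/
noncomputable def ofField (q : AlgSp.FieldPt F) : AlgSt.FPt (AlgSt.ofSp F) :=
  { K := q.K, str := q.str, obj := ⟨Over.mk q.str, q.val⟩, lies := rfl }

theorem toField_ofField (q : AlgSp.FieldPt F) : toField (ofField q) = q := by
  obtain ⟨K, str, val⟩ := q
  change (⟨K, str, F.obj.map (𝟙 _) val⟩ : AlgSp.FieldPt F) = _
  rw [F.obj.map_id]
  rfl

/-- The comparison morphism. -/
theorem exists_ofField_toField (p : AlgSt.FPt (AlgSt.ofSp F)) :
    Nonempty ((ofField (toField p)).obj ⟶ p.obj) :=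
  ⟨⟨eqToHom p.lies.symm, rfl⟩⟩

theorem rel_toField {p q : AlgSt.FPt (AlgSt.ofSp F)} (h : AlgSt.FPt.Rel p q) :
    AlgSp.FieldPt.Rel (toField p) (toField q) := by
  obtain ⟨r, a, b, -⟩ := h
  refine ⟨r.K, r.field, r.str, baseHom a, baseHom b, ?_⟩
  change F.obj.map (baseHom a).op (F.obj.map (eqToHom p.lies.symm).op p.obj.sec) =
    F.obj.map (baseHom b).op (F.obj.map (eqToHom q.lies.symm).op q.obj.sec)
  have h1 : ∀ {s : AlgSt.FPt (AlgSt.ofSp F)} (c : r.obj ⟶ s.obj),
      F.obj.map (baseHom c).op (F.obj.map (eqToHom s.lies.symm).op s.obj.sec) =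
      F.obj.map (eqToHom r.lies.symm).op r.obj.sec := by
    intro s c
    rw [← c.map_sec]
    refine (sec_map_map F _ _ _).trans (Eq.trans ?_ (sec_map_map F _ _ _).symm)
    have h2 : baseHom c ≫ eqToHom s.lies.symm = eqToHom r.lies.symm ≫ c.hom := by
      change (eqToHom r.lies.symm ≫ c.hom ≫ eqToHom s.lies) ≫ eqToHom s.lies.symm = _
      simp
    rw [h2]
    rfl
  rw [h1 a, h1 b]

theorem rel_ofField {p q : AlgSp.FieldPt F} (h : AlgSp.FieldPt.Rel p q) :
    AlgSt.FPt.Rel (ofField p) (ofField q) := by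
  obtain ⟨Ω, _, w, a, b, h⟩ := h
  exact ⟨{ K := Ω, str := w, obj := ⟨Over.mk w, F.obj.map a.op p.val⟩, lies := rfl }, ⟨a, rfl⟩, ⟨b, h.symm⟩, trivial⟩

/-- The points of the category of a sheaf are the points of the sheaf. -/
noncomputable def ptsEquiv (F : AlgSp.Sp S) : AlgSt.Points (AlgSt.ofSp F) ≃ AlgSp.Points F where
  toFun := Quot.lift (fun p => AlgSp.Points.mk (toField p)) (fun _ _ h => AlgSp.Points.sound (rel_toField h))
  invFun := Quotient.lift (fun q => AlgSt.Points.mk (ofField q)) (fun _ _ h => AlgSt.Points.sound (rel_ofField h))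
  left_inv x := by
    obtain ⟨p, rfl⟩ := AlgSt.Points.mk_surjective x
    change AlgSt.Points.mk (ofField (toField p)) = _
    obtain ⟨a⟩ := exists_ofField_toField p
    exact mk_eq_of_hom a
  right_inv x := by
    obtain ⟨p, rfl⟩ := AlgSp.Points.mk_surjective x
    change AlgSp.Points.mk (toField (ofField p)) = _
    rw [toField_ofField]

theorem ptsEquiv_mk (p : AlgSt.FPt (AlgSt.ofSp F)) : ptsEquiv F (AlgSt.Points.mk p) = AlgSp.Points.mk (toField p) := rfl

theorem ptsEquiv_symm_mk (q : AlgSp.FieldPt F) :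
    (ptsEquiv F).symm (AlgSp.Points.mk q) = AlgSt.Points.mk (ofField q) := rfl

/-- Naturality of the comparison of points. -/
theorem ptsEquiv_map (a : F ⟶ G) (x : AlgSt.Points (AlgSt.ofSp F)) :
    ptsEquiv G (AlgSt.Points.map (AlgSt.ofSpMap a) x) = AlgSp.Points.map a (ptsEquiv F x) := by
  obtain ⟨p, rfl⟩ := AlgSt.Points.mk_surjective x
  change AlgSp.Points.mk (toField (p.map (AlgSt.ofSpMap a))) = AlgSp.Points.mk ((toField p).map a)
  congr 1
  obtain ⟨K, str, obj, lies⟩ := p
  change (⟨K, str, G.obj.map _ (a.hom.app _ obj.sec)⟩ : AlgSp.FieldPt G) = ⟨K, str, a.hom.app _ (F.obj.map _ obj.sec)⟩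
  rw [NatTrans.naturality_apply]

theorem ptsEquiv_symm_map (a : F ⟶ G) (x : AlgSp.Points F) :
    AlgSt.Points.map (AlgSt.ofSpMap a) ((ptsEquiv F).symm x) = (ptsEquiv G).symm (AlgSp.Points.map a x) := by
  apply (ptsEquiv G).injective
  rw [ptsEquiv_map, Equiv.apply_symm_apply, Equiv.apply_symm_apply]

theorem ptsEquiv_ofChart {U : Over S} (a : (AlgSp.yon S).obj U ⟶ F) (t : ↥U.left) :
    ptsEquiv F (AlgSt.Points.ofChart (chart a) t) = AlgSp.Points.ofPt a t := by
  change AlgSp.Points.mk (toField _) = AlgSp.Points.mk (AlgSp.FieldPt.ofPt a t)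
  congr 1
  change (⟨_, _, F.obj.map (𝟙 _) _⟩ : AlgSp.FieldPt F) = _
  rw [F.obj.map_id]
  rfl

end

section

variable {𝒳 : BasedCategory.{v₂, u₂} (Over S)} {𝒴 : BasedCategory.{v₃, u₃} (Over S)}

theorem map_ofChart {U : Over S} (x : FibCat.overCat U ⥤ᵇ 𝒳) (f : 𝒳 ⥤ᵇ 𝒴) (t : ↥U.left) :
    AlgSt.Points.map f (AlgSt.Points.ofChart x t) = AlgSt.Points.ofChart (BasedFunctor.comp x f) t := rfl

theorem ofChart_congr {U : Over S} {x y : FibCat.overCat U ⥤ᵇ 𝒳} (e : x ≅ y) (t : ↥U.left) :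
    AlgSt.Points.ofChart x t = AlgSt.Points.ofChart y t := by
  have h1 : AlgSt.Points.ofChart x t = AlgSt.Points.map x (AlgSt.Points.ofChart (BasedFunctor.id _) t) := rfl
  have h2 : AlgSt.Points.ofChart y t = AlgSt.Points.map y (AlgSt.Points.ofChart (BasedFunctor.id _) t) := rfl
  rw [h1, h2, map_congr e]

theorem ofChart_eq_map {U : Over S} (x : FibCat.overCat U ⥤ᵇ 𝒳) (t : ↥U.left) :
    AlgSt.Points.ofChart x t = AlgSt.Points.map x (AlgSt.Points.ofChart (BasedFunctor.id _) t) := rfl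

/-- The bijection `U ≃ |(Sch/U)|`. -/
theorem ofChart_id_bijective (U : Over S) :
    Function.Bijective (AlgSt.Points.ofChart (BasedFunctor.id (FibCat.overCat U))) := by
  have h1 : ∀ t, ptsEquiv _ (AlgSt.Points.map (AlgSt.ofOverCat U)
      (AlgSt.Points.ofChart (BasedFunctor.id (FibCat.overCat U)) t)) = AlgSp.Points.ofScheme U t := fun t =>
    ptsEquiv_ofChart (𝟙 _) t
  have h2 : Function.Bijective (fun z => ptsEquiv _ (AlgSt.Points.map (AlgSt.ofOverCat U) z)) :=
    (ptsEquiv _).bijective.comp (map_bijective_of_isEquivOver (isEquivOver_ofOverCat U))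
  have h3 : (fun t => AlgSp.Points.ofScheme U t) = (fun z => ptsEquiv _ (AlgSt.Points.map (AlgSt.ofOverCat U) z)) ∘
      AlgSt.Points.ofChart (BasedFunctor.id (FibCat.overCat U)) := by
    funext t
    exact (h1 t).symm
  have h4 : Function.Bijective (AlgSp.Points.ofScheme U) := (AlgSp.Points.schemeEquiv U).bijective
  exact (Function.Bijective.of_comp_iff' h2 _).1 (h3 ▸ h4)

theorem exists_ofChart_id {U : Over S} (z : AlgSt.Points (FibCat.overCat U)) :
    ∃ t : ↥U.left, AlgSt.Points.ofChart (BasedFunctor.id (FibCat.overCat U)) t = z :=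
  (ofChart_id_bijective U).2 z

/-- The range of a chart on points. -/
theorem range_map_eq_range_ofChart {U : Over S} (x : FibCat.overCat U ⥤ᵇ 𝒳) :
    Set.range (AlgSt.Points.map x) = Set.range (AlgSt.Points.ofChart x) := by
  ext y
  constructor
  · rintro ⟨z, rfl⟩
    obtain ⟨t, rfl⟩ := exists_ofChart_id z
    exact ⟨t, rfl⟩
  · rintro ⟨t, rfl⟩
    exact ⟨AlgSt.Points.ofChart (BasedFunctor.id _) t, rfl⟩

theorem surjective_map_iff_surjective_ofChart {U : Over S} (x : FibCat.overCat U ⥤ᵇ 𝒳) :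
    Function.Surjective (AlgSt.Points.map x) ↔ Function.Surjective (AlgSt.Points.ofChart x) := by
  rw [← Set.range_eq_univ, ← Set.range_eq_univ, range_map_eq_range_ofChart]

/-- The map `ofChart` and composition with a morphism of schemes. -/
theorem ofChart_overMap {U V : Over S} (h : U ⟶ V) (x : FibCat.overCat V ⥤ᵇ 𝒳) (t : ↥U.left) :
    AlgSt.Points.ofChart (BasedFunctor.comp (AlgSt.overMap h) x) t = AlgSt.Points.ofChart x (h.left t) := by
  rw [ofChart_eq_map, ofChart_eq_map x, map_comp]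
  congr 1
  apply (map_bijective_of_isEquivOver (isEquivOver_ofOverCat V)).1
  apply (ptsEquiv _).injective
  have h1 : ptsEquiv _ (AlgSt.Points.map (AlgSt.ofOverCat V) (AlgSt.Points.map (AlgSt.overMap h)
      (AlgSt.Points.ofChart (BasedFunctor.id (FibCat.overCat U)) t))) = AlgSp.Points.ofPt ((AlgSp.yon S).map h) t := by
    rw [← ptsEquiv_ofChart]
    congr 1
  have h2 : ptsEquiv _ (AlgSt.Points.map (AlgSt.ofOverCat V)
      (AlgSt.Points.ofChart (BasedFunctor.id (FibCat.overCat V)) (h.left t))) =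
      AlgSp.Points.ofScheme V (h.left t) := ptsEquiv_ofChart (𝟙 _) _
  rw [h1, h2, K609.Points.ofPt_yon_map]

end

end K735.PtsSp
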