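import Groth.Agent.AlgSt.K744.TorsProp
import Groth.Agent.AlgSt.K750.QuotEff
import Groth.Agent.AlgSt.K750.QuotPre
import Groth.Agent.CurvSt.K742.AtlasMain
import Groth.Prelude.Def_BigSite
import Mathlib.AlgebraicGeometry.Sites.Etale

/-!
# The quotient category `[X/G]` for torsors in a topology `K` between the isomorphisms and fppf

* `K735.EtQuot.prop_of_torsor` and corollaries: properties of the structure map of a torsor;
* `K735.EtQuot.repByAlgSpWith_chart`: the chart `X ⟶ [X/G]` is representable with any property which torsors have;
* `K735.EtQuot.isAlgStack_et`: for `G` smooth and affine, `[X/G]` with étale torsors is an algebraic stack for the étale topology.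
-/

set_option autoImplicit false
set_option backward.isDefEq.respectTransparency false
set_option backward.isDefEq.respectTransparency.types false

universe w v u

open CategoryTheory CategoryTheory.Limits MonoidalCategory CartesianMonoidalCategory MonObj GrpObj AlgebraicGeometry
open AlgSt

namespace K735.EtQuot

open K744.Quot K744.IsomFp K744.QuotFp

variable {S : Scheme.{u}} {K : Precoverage Scheme.{u}} {G : Over S} [GrpObj G] {X : Over S} {aX : AlgGrp.Action G X}

/-- a torsor for a coarser topology as a torsor for a finer topology -/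
noncomputable def coarsen {K' : Precoverage Scheme.{u}} (h : K ≤ K') (A : QuotObj K G aX) : QuotObj K' G aX where
  base := A.base
  P := A.P
  act := A.act
  π := A.π
  cart := A.cart
  loc := by
    obtain ⟨R, hR, hR'⟩ := A.loc
    exact ⟨R, h _ hR, hR'⟩
  φ := A.φ
  eqv := A.eqv

section Props

variable (hK : K ≤ Scheme.fppfPrecoverage) (A : QuotObj K G aX)

include hK

theorem smooth_of_torsor [Smooth G.hom] : Smooth A.π.left :=
  K744.TorsProp.smooth_of_torsor (coarsen hK A)

theorem isAffineHom_of_torsor [IsAffineHom G.hom] : IsAffineHom A.π.left :=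
  K744.TorsProp.isAffineHom_of_torsor (coarsen hK A)

theorem surjective_of_torsor : Surjective A.π.left :=
  K744.TorsProp.surjective_of_torsor (coarsen hK A)

end Props

/-- the main statement about the chart: it is representable by the torsors, with any property they have. -/
theorem repByAlgSpWith_chart [K.HasIsos] [K.IsStableUnderBaseChange] (Q : MorphismProperty (AlgSp.Sp S))
    (h : ∀ A : QuotObj K G aX, Q ((AlgSp.yon S).map A.π)) :
    RepByAlgSpWith Q (chart K G aX) := by
  intro U y
  obtain ⟨e, he, he1, -⟩ := exists_isEquivOver_overCat y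
  refine ⟨⟨(AlgSp.yon S).obj (tors y).P, AlgSp.IsAlgSpace.yon_obj _⟩,
    BasedFunctor.comp (toOverCat (tors y).P) e, ?_, ?_⟩
  · exact K734.Fib.isEquivOver_comp (K735.Rep.isEquivOver_toOverCat _) he
  · have h1 : BasedFunctor.comp (BasedFunctor.comp (toOverCat (tors y).P) e)
        (FibCat.fpFst y (chart K G aX)) = BasedFunctor.comp (toOverCat (tors y).P) (ovMap (strU y)) :=
      congrArg (BasedFunctor.comp (toOverCat (tors y).P)) he1
    have h2 : ∀ (A : QuotObj K G aX) (V : Over S) (e : A.base = V),
        Q ((AlgSp.yon S).map (A.π ≫ eqToHom e)) := by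
      rintro A _ rfl
      rw [eqToHom_refl, Category.comp_id]
      exact h A
    rw [h1, spMapOfOver_toOverCat_ovMap]
    exact h2 (tors y) U (tors_base y)

theorem isAffineMor_yon_map {U V : Over S} (f : U ⟶ V) (hf : IsAffineHom f.left) :
    AlgSp.IsAffineMor ((AlgSp.yon S).map f) := by
  intro Z hZ g
  obtain ⟨g, rfl⟩ := (AlgSp.yon S).map_surjective g
  refine ⟨pullback f g, pullback.snd f g, (AlgSp.yon S).map (pullback.fst f g),
    (IsPullback.of_hasPullback f g).map (AlgSp.yon S), ?_⟩
  have sq := (IsPullback.of_hasPullback f g).map (Over.forget S)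
  have h1 : IsAffineHom (pullback.snd f g).left :=
    MorphismProperty.of_isPullback (P := @IsAffineHom) sq hf
  have h2 : IsAffine Z.left := hZ
  exact isAffine_of_isAffineHom (pullback.snd f g).left

section Chart

variable [K.HasIsos] [K.IsStableUnderBaseChange] (hK : K ≤ Scheme.fppfPrecoverage)

include hK

theorem chart_smooth [Smooth G.hom] : RepByAlgSpWith (AlgSp.LocP @Smooth) (chart K G aX) :=
  repByAlgSpWith_chart _ fun A => K744.TorsProp.locP_yon _ K597.etLoc_smooth _ (smooth_of_torsor hK A)

theorem chart_surjective : RepByAlgSpWith AlgSp.IsSurjectiveMor (chart K G aX) :=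
  repByAlgSpWith_chart _ fun A => K744.TorsProp.surj_yon _ (surjective_of_torsor hK A)

theorem chart_affine [IsAffineHom G.hom] : RepByAlgSpWith AlgSp.IsAffineMor (chart K G aX) :=
  repByAlgSpWith_chart _ fun A => isAffineMor_yon_map _ (isAffineHom_of_torsor hK A)

end Chart

instance : Scheme.etalePrecoverage.{u}.IsStableUnderComposition :=
  inferInstanceAs (Scheme.precoverage @Etale).IsStableUnderComposition

/-- `[X/G]` is algebraic for the étale topology when `G` is smooth and affine -/
theorem isAlgStack_et [Smooth G.hom] [IsAffineHom G.hom] (aX : AlgGrp.Action G X) :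
    IsAlgStack Scheme.etalePrecoverage (QuotSt Scheme.etalePrecoverage G aX) where
  isStack := K750.QuotEff.isStack_quotSt
    (BigSite.etalePrecoverage_le_fppfPrecoverage.trans Scheme.fppfPrecoverage_le_fpqcPrecoverage) aX
  diag := K742.Atlas0.diag_of_smooth_chart (K750.QuotPre.isPrestack_quotSt Scheme.etalePrecoverage G aX (AlgSp.J S))
    (chart Scheme.etalePrecoverage G aX) (chart_smooth BigSite.etalePrecoverage_le_fppfPrecoverage)
    (chart_surjective BigSite.etalePrecoverage_le_fppfPrecoverage)
  atlas := ⟨X, chart Scheme.etalePrecoverage G aX, chart_smooth BigSite.etalePrecoverage_le_fppfPrecoverage,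
    chart_surjective BigSite.etalePrecoverage_le_fppfPrecoverage⟩

end K735.EtQuot
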