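import Groth.Prelude.Def_FibCat2

/-!
# Basic lemmas on categories fibred in groupoids (helper735)

* `K735.exists_lift`, `K735.lift_ext`, `K735.lift_unique`: lifting in a category fibred in groupoids with objects read through `p`.
* `K735.isIso_of_isIso_map`, `K735.isIso_of_vert`: a morphism over an isomorphism is an isomorphism.
* `K735.isEquivOver_of`, `K735.IsEquivOver.*`: criterion for equivalences over the base and formal properties.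
* `K735.isFibGrpd_fp`, `K735.isFibGrpd_overCat`, `K735.isFibGrpd_of_isEquivOver`.
* `K735.yonF`: the 2-Yoneda functor `C/U ⟶ 𝒳` attached to an object over `U`, `K735.yonNat`: 2-Yoneda on 2-morphisms.
-/

set_option autoImplicit false
set_option backward.isDefEq.respectTransparency false
set_option backward.isDefEq.respectTransparency.types false

universe v₅ u₅ v₄ u₄ v₃ u₃ v₂ u₂ v u

open CategoryTheory CategoryTheory.Limits

namespace K735.Fib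

variable {C : Type u} [Category.{v} C]

theorem eqToHom_cancel {a b c d : C} (e : a = b) (e' : c = d) {f g : b ⟶ c}
    (h : eqToHom e ≫ f ≫ eqToHom e' = eqToHom e ≫ g ≫ eqToHom e') : f = g := by
  subst e e'
  simpa using h

section Basic

variable {𝒳 : Type u₂} [Category.{v₂} 𝒳] {p : 𝒳 ⥤ C}

/-- Lifts exist, with the domain condition as an equality. -/
theorem exists_lift (h : FibCat.IsFibGrpd p) {x : 𝒳} {V : C} (f : V ⟶ p.obj x) :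
    ∃ (y : 𝒳) (φ : y ⟶ x) (e : p.obj y = V), p.map φ = eqToHom e ≫ f := by
  obtain ⟨y, φ, hφ⟩ := h.exists_lift f
  exact ⟨y, φ, IsHomLift.domain_eq p f φ, by simpa using IsHomLift.fac' p f φ⟩

/-- Lifting along a morphism of a category fibred in groupoids. -/
theorem existsUnique_hom (h : FibCat.IsFibGrpd p) {x y z : 𝒳} (φ : y ⟶ x) (ψ : z ⟶ x)
    (g : p.obj z ⟶ p.obj y) (w : g ≫ p.map φ = p.map ψ) :
    ∃! χ : z ⟶ y, p.map χ = g ∧ χ ≫ φ = ψ := by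
  have hc := h.isStronglyCartesian φ
  have hψ : p.IsHomLift (g ≫ p.map φ) ψ := by rw [w]; infer_instance
  obtain ⟨χ, ⟨h1, h2⟩, h3⟩ := hc.universal_property' g ψ
  refine ⟨χ, ⟨(IsHomLift.eq_of_isHomLift p g χ).symm, h2⟩, ?_⟩
  rintro χ' ⟨h4, h5⟩
  exact h3 χ' ⟨by rw [← h4]; infer_instance, h5⟩

theorem exists_hom (h : FibCat.IsFibGrpd p) {x y z : 𝒳} (φ : y ⟶ x) (ψ : z ⟶ x)
    (g : p.obj z ⟶ p.obj y) (w : g ≫ p.map φ = p.map ψ) :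
    ∃ χ : z ⟶ y, p.map χ = g ∧ χ ≫ φ = ψ :=
  (existsUnique_hom h φ ψ g w).exists

theorem hom_ext' (h : FibCat.IsFibGrpd p) {x y z : 𝒳} (φ : y ⟶ x) {χ χ' : z ⟶ y}
    (h1 : p.map χ = p.map χ') (h2 : χ ≫ φ = χ' ≫ φ) : χ = χ' :=
  (existsUnique_hom h φ (χ ≫ φ) (p.map χ) (by simp)).unique ⟨rfl, rfl⟩ ⟨h1.symm, h2.symm⟩

theorem isIso_of_isIso_map (h : FibCat.IsFibGrpd p) {x y : 𝒳} (φ : y ⟶ x) [IsIso (p.map φ)] :
    IsIso φ := by
  have := h.isStronglyCartesian φ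
  exact Functor.IsStronglyCartesian.isIso_of_base_isIso p (p.map φ) φ

/-- A morphism over an identity is an isomorphism. -/
theorem isIso_of_isHomLift_id (h : FibCat.IsFibGrpd p) {x y : 𝒳} (φ : y ⟶ x) {S : C}
    (hφ : p.IsHomLift (𝟙 S) φ) : IsIso φ := by
  have : p.map φ = eqToHom _ ≫ 𝟙 S ≫ eqToHom _ := IsHomLift.fac' p (𝟙 S) φ
  have : IsIso (p.map φ) := by rw [this]; infer_instance
  exact isIso_of_isIso_map h φ

end Basic

/-! ### Vertical morphisms -/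

section Vert

variable {𝒳 : Type u₂} [Category.{v₂} 𝒳] (p : 𝒳 ⥤ C)

/-- `φ` is vertical: it lies over an identity. -/
def Vert {a b : 𝒳} (φ : a ⟶ b) : Prop := p.IsHomLift (𝟙 (p.obj a)) φ

variable {p}

theorem Vert.eq {a b : 𝒳} {φ : a ⟶ b} (h : Vert p φ) : p.obj b = p.obj a := by
  unfold Vert at h
  exact IsHomLift.codomain_eq p (𝟙 (p.obj a)) φ

theorem Vert.map_eq {a b : 𝒳} {φ : a ⟶ b} (h : Vert p φ) : p.map φ = eqToHom h.eq.symm := by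
  have h' := h
  unfold Vert at h'
  simpa using IsHomLift.fac' p (𝟙 (p.obj a)) φ

theorem vert_iff {a b : 𝒳} {φ : a ⟶ b} : Vert p φ ↔ ∃ e : p.obj a = p.obj b, p.map φ = eqToHom e := by
  constructor
  · intro h
    exact ⟨h.eq.symm, h.map_eq⟩
  · rintro ⟨e, h⟩
    exact IsHomLift.of_fac' p _ _ rfl e.symm (by simpa using h)

theorem vert_of_map_eq {a b : 𝒳} {φ : a ⟶ b} (e : p.obj a = p.obj b) (h : p.map φ = eqToHom e) : Vert p φ :=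
  vert_iff.2 ⟨e, h⟩

theorem isHomLift_id_iff {a b : 𝒳} {φ : a ⟶ b} {S : C} :
    p.IsHomLift (𝟙 S) φ ↔ p.obj a = S ∧ Vert p φ := by
  constructor
  · intro h
    have : p.obj a = S := IsHomLift.domain_eq p (𝟙 S) φ
    subst this
    exact ⟨rfl, h⟩
  · rintro ⟨rfl, h⟩
    exact h

theorem Vert.isHomLift {a b : 𝒳} {φ : a ⟶ b} (h : Vert p φ) {S : C} (e : p.obj a = S) :
    p.IsHomLift (𝟙 S) φ := isHomLift_id_iff.2 ⟨e, h⟩

theorem Vert.isHomLift' {a b : 𝒳} {φ : a ⟶ b} (h : Vert p φ) {S : C} (e : p.obj b = S) :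
    p.IsHomLift (𝟙 S) φ := h.isHomLift (h.eq.symm.trans e)

theorem vert_of_isHomLift {a b : 𝒳} {φ : a ⟶ b} {S : C} (h : p.IsHomLift (𝟙 S) φ) : Vert p φ :=
  (isHomLift_id_iff.1 h).2

theorem vert_id (a : 𝒳) : Vert p (𝟙 a) := by unfold Vert; infer_instance

theorem vert_eqToHom {a b : 𝒳} (e : a = b) : Vert p (eqToHom e) := by subst e; exact vert_id a

theorem Vert.comp {a b c : 𝒳} {φ : a ⟶ b} {ψ : b ⟶ c} (h : Vert p φ) (h' : Vert p ψ) : Vert p (φ ≫ ψ) :=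
  vert_of_map_eq (h.eq.symm.trans h'.eq.symm) (by rw [p.map_comp, h.map_eq, h'.map_eq, eqToHom_trans])

theorem Vert.of_comp_left {a b c : 𝒳} {φ : a ⟶ b} {ψ : b ⟶ c} (h : Vert p ψ) (h' : Vert p (φ ≫ ψ)) :
    Vert p φ :=
  vert_of_map_eq (h'.eq.symm.trans h.eq) (by
    have := h'.map_eq
    rw [p.map_comp, h.map_eq] at this
    rw [← cancel_mono (eqToHom h.eq.symm), this, eqToHom_trans])

theorem Vert.of_comp_right {a b c : 𝒳} {φ : a ⟶ b} {ψ : b ⟶ c} (h : Vert p φ) (h' : Vert p (φ ≫ ψ)) :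
    Vert p ψ :=
  vert_of_map_eq (h.eq.trans h'.eq.symm) (by
    have := h'.map_eq
    rw [p.map_comp, h.map_eq] at this
    rw [← cancel_epi (eqToHom h.eq.symm), this, eqToHom_trans])

theorem Vert.inv {a b : 𝒳} {φ : a ⟶ b} [IsIso φ] (h : Vert p φ) : Vert p (CategoryTheory.inv φ) :=
  Vert.of_comp_right h (by simpa using vert_id a)

theorem Vert.iso_inv {a b : 𝒳} {φ : a ≅ b} (h : Vert p φ.hom) : Vert p φ.inv :=
  Vert.of_comp_right h (by simpa using vert_id a)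

theorem Vert.isIso (hp : FibCat.IsFibGrpd p) {a b : 𝒳} {φ : a ⟶ b} (h : Vert p φ) : IsIso φ :=
  isIso_of_isHomLift_id hp φ h

/-- Lifts exist over an object of the base given up to equality. -/
theorem exists_lift_eq (h : FibCat.IsFibGrpd p) {x : 𝒳} {V U : C} (e : p.obj x = U) (f : V ⟶ U) :
    ∃ (y : 𝒳) (φ : y ⟶ x) (e' : p.obj y = V), p.map φ = eqToHom e' ≫ f ≫ eqToHom e.symm := by
  subst e
  simpa using exists_lift h f

end Vert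

/-! ### Based functors -/

section Based

variable {𝒳 : BasedCategory.{v₂, u₂} C} {𝒴 : BasedCategory.{v₃, u₃} C} {𝒵 : BasedCategory.{v₄, u₄} C}

theorem map_map (F : 𝒳 ⥤ᵇ 𝒴) {a b : 𝒳.obj} (φ : a ⟶ b) :
    𝒴.p.map (F.map φ) = eqToHom (F.w_obj a) ≫ 𝒳.p.map φ ≫ eqToHom (F.w_obj b).symm := by
  have := Functor.congr_hom F.w φ
  simpa using this

theorem vert_map_iff (F : 𝒳 ⥤ᵇ 𝒴) {a b : 𝒳.obj} (φ : a ⟶ b) : Vert 𝒴.p (F.map φ) ↔ Vert 𝒳.p φ := by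
  constructor
  · intro h
    refine vert_of_map_eq ((F.w_obj a).symm.trans (h.eq.symm.trans (F.w_obj b))) ?_
    have := map_map F φ
    rw [h.map_eq] at this
    rw [← cancel_epi (eqToHom (F.w_obj a)), ← cancel_mono (eqToHom (F.w_obj b).symm), Category.assoc, ← this]
    simp
  · intro h
    refine vert_of_map_eq ((F.w_obj a).trans (h.eq.symm.trans (F.w_obj b).symm)) ?_
    rw [map_map, h.map_eq]
    simp

theorem Vert.map (F : 𝒳 ⥤ᵇ 𝒴) {a b : 𝒳.obj} {φ : a ⟶ b} (h : Vert 𝒳.p φ) : Vert 𝒴.p (F.map φ) :=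
  (vert_map_iff F φ).2 h

theorem vert_app {F G : 𝒳 ⥤ᵇ 𝒴} (α : F ⟶ G) (a : 𝒳.obj) : Vert 𝒴.p (α.toNatTrans.app a) :=
  vert_of_isHomLift (α.isHomLift' a)

/-- Build a based natural isomorphism from components. -/
def mkIso {F G : 𝒳 ⥤ᵇ 𝒴} (α : ∀ a : 𝒳.obj, F.obj a ≅ G.obj a)
    (nat : ∀ {a b : 𝒳.obj} (φ : a ⟶ b), F.map φ ≫ (α b).hom = (α a).hom ≫ G.map φ)
    (hv : ∀ a, Vert 𝒴.p (α a).hom) : F ≅ G :=
  BasedNatIso.mkNatIso (NatIso.ofComponents α nat) (fun a => (hv a).isHomLift (F.w_obj a))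

@[simp] theorem mkIso_hom_app {F G : 𝒳 ⥤ᵇ 𝒴} (α : ∀ a : 𝒳.obj, F.obj a ≅ G.obj a)
    (nat : ∀ {a b : 𝒳.obj} (φ : a ⟶ b), F.map φ ≫ (α b).hom = (α a).hom ≫ G.map φ)
    (hv : ∀ a, Vert 𝒴.p (α a).hom) (a : 𝒳.obj) : (mkIso α nat hv).hom.toNatTrans.app a = (α a).hom := rfl

@[simp] theorem mkIso_inv_app {F G : 𝒳 ⥤ᵇ 𝒴} (α : ∀ a : 𝒳.obj, F.obj a ≅ G.obj a)
    (nat : ∀ {a b : 𝒳.obj} (φ : a ⟶ b), F.map φ ≫ (α b).hom = (α a).hom ≫ G.map φ)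
    (hv : ∀ a, Vert 𝒴.p (α a).hom) (a : 𝒳.obj) : (mkIso α nat hv).inv.toNatTrans.app a = (α a).inv := rfl

/-- The component of a based natural isomorphism. -/
def isoApp {F G : 𝒳 ⥤ᵇ 𝒴} (e : F ≅ G) (a : 𝒳.obj) : F.obj a ≅ G.obj a where
  hom := e.hom.toNatTrans.app a
  inv := e.inv.toNatTrans.app a
  hom_inv_id := by
    have := congrArg (fun t : F ⟶ F => t.toNatTrans.app a) e.hom_inv_id
    exact this
  inv_hom_id := by
    have := congrArg (fun t : G ⟶ G => t.toNatTrans.app a) e.inv_hom_id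
    exact this

theorem vert_isoApp {F G : 𝒳 ⥤ᵇ 𝒴} (e : F ≅ G) (a : 𝒳.obj) : Vert 𝒴.p (isoApp e a).hom := vert_app e.hom a

theorem isoApp_nat {F G : 𝒳 ⥤ᵇ 𝒴} (e : F ≅ G) {a b : 𝒳.obj} (φ : a ⟶ b) :
    F.map φ ≫ (isoApp e b).hom = (isoApp e a).hom ≫ G.map φ := e.hom.toNatTrans.naturality φ

theorem isoApp_inv_nat {F G : 𝒳 ⥤ᵇ 𝒴} (e : F ≅ G) {a b : 𝒳.obj} (φ : a ⟶ b) :
    G.map φ ≫ (isoApp e b).inv = (isoApp e a).inv ≫ F.map φ := e.inv.toNatTrans.naturality φ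

/-- Whiskering an isomorphism on the left. -/
def whiskerLeftIso (F : 𝒳 ⥤ᵇ 𝒴) {G H : 𝒴 ⥤ᵇ 𝒵} (e : G ≅ H) : BasedFunctor.comp F G ≅ BasedFunctor.comp F H :=
  mkIso (fun a => isoApp e (F.obj a)) (fun φ => isoApp_nat e (F.map φ)) (fun a => vert_isoApp e (F.obj a))

/-- Whiskering an isomorphism on the right. -/
def whiskerRightIso {F G : 𝒳 ⥤ᵇ 𝒴} (e : F ≅ G) (H : 𝒴 ⥤ᵇ 𝒵) : BasedFunctor.comp F H ≅ BasedFunctor.comp G H :=
  mkIso (fun a => H.mapIso (isoApp e a))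
    (fun {a b} φ => by
      change H.map (F.map φ) ≫ H.map (isoApp e b).hom = H.map (isoApp e a).hom ≫ H.map (G.map φ)
      rw [← H.map_comp, ← H.map_comp, isoApp_nat])
    (fun a => Vert.map H (vert_isoApp e a))

theorem isEquivOver_id : FibCat.IsEquivOver (BasedFunctor.id 𝒳) :=
  ⟨BasedFunctor.id 𝒳, ⟨Iso.refl _⟩, ⟨Iso.refl _⟩⟩

theorem IsEquivOver.comp {F : 𝒳 ⥤ᵇ 𝒴} {G : 𝒴 ⥤ᵇ 𝒵} (hF : FibCat.IsEquivOver F) (hG : FibCat.IsEquivOver G) :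
    FibCat.IsEquivOver (BasedFunctor.comp F G) := by
  obtain ⟨F', ⟨a⟩, ⟨b⟩⟩ := hF
  obtain ⟨G', ⟨c⟩, ⟨d⟩⟩ := hG
  refine ⟨BasedFunctor.comp G' F', ⟨?_⟩, ⟨?_⟩⟩
  · exact (whiskerRightIso (whiskerLeftIso F c) F' : BasedFunctor.comp (BasedFunctor.comp F
      (BasedFunctor.comp G G')) F' ≅ BasedFunctor.comp (BasedFunctor.comp F (BasedFunctor.id _)) F') ≪≫ a
  · exact (whiskerRightIso (whiskerLeftIso G' b) G : BasedFunctor.comp (BasedFunctor.comp G'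
      (BasedFunctor.comp F' F)) G ≅ BasedFunctor.comp (BasedFunctor.comp G' (BasedFunctor.id _)) G) ≪≫ d

theorem IsEquivOver.exists_inv {F : 𝒳 ⥤ᵇ 𝒴} (hF : FibCat.IsEquivOver F) :
    ∃ G : 𝒴 ⥤ᵇ 𝒳, FibCat.IsEquivOver G ∧ Nonempty (BasedFunctor.comp F G ≅ BasedFunctor.id 𝒳) ∧
      Nonempty (BasedFunctor.comp G F ≅ BasedFunctor.id 𝒴) := by
  obtain ⟨G, a, b⟩ := hF
  exact ⟨G, ⟨F, b, a⟩, a, b⟩

theorem IsEquivOver.of_iso {F G : 𝒳 ⥤ᵇ 𝒴} (hF : FibCat.IsEquivOver F) (e : F ≅ G) : FibCat.IsEquivOver G := by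
  obtain ⟨F', ⟨a⟩, ⟨b⟩⟩ := hF
  exact ⟨F', ⟨whiskerRightIso e.symm F' ≪≫ a⟩, ⟨whiskerLeftIso F' e.symm ≪≫ b⟩⟩

theorem IsEquivOver.faithful {F : 𝒳 ⥤ᵇ 𝒴} (hF : FibCat.IsEquivOver F) {a b : 𝒳.obj} {φ ψ : a ⟶ b}
    (h : F.map φ = F.map ψ) : φ = ψ := by
  obtain ⟨G, ⟨e⟩, -⟩ := hF
  have h1 := isoApp_nat e φ
  have h2 := isoApp_nat e ψ
  have h3 : (BasedFunctor.comp F G).map φ = (BasedFunctor.comp F G).map ψ := congrArg G.map h
  rw [h3, h2] at h1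
  exact ((cancel_epi _).1 h1).symm

theorem IsEquivOver.full {F : 𝒳 ⥤ᵇ 𝒴} (hF : FibCat.IsEquivOver F) {a b : 𝒳.obj} (φ : F.obj a ⟶ F.obj b) :
    ∃ ψ : a ⟶ b, F.map ψ = φ := by
  obtain ⟨G, hG, ⟨e⟩, ⟨e'⟩⟩ := IsEquivOver.exists_inv hF
  let ψ : a ⟶ b := (isoApp e a).inv ≫ G.map φ ≫ (isoApp e b).hom
  refine ⟨ψ, ?_⟩
  apply IsEquivOver.faithful hG
  have h1 := isoApp_nat e ψ
  have h2 : (BasedFunctor.comp F G).map ψ = (isoApp e a).hom ≫ ψ ≫ (isoApp e b).inv := by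
    have h3 : (BasedFunctor.id 𝒳).map ψ = ψ := rfl
    rw [h3] at h1
    rw [← Category.assoc, ← h1, Category.assoc]
    simp
  change (BasedFunctor.comp F G).map ψ = G.map φ
  rw [h2]
  simp [ψ]

theorem IsEquivOver.essSurj {F : 𝒳 ⥤ᵇ 𝒴} (hF : FibCat.IsEquivOver F) (y : 𝒴.obj) :
    ∃ (x : 𝒳.obj) (e : F.obj x ≅ y), Vert 𝒴.p e.hom := by
  obtain ⟨G, -, ⟨e⟩⟩ := hF
  exact ⟨G.obj y, isoApp e y, vert_isoApp e y⟩

/-- A fully faithful functor over `C` whose image meets every object up to vertical isomorphism is an equivalence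
over `C`. -/
theorem isEquivOver_of {F : 𝒳 ⥤ᵇ 𝒴} (hfaith : ∀ {a b : 𝒳.obj} (φ ψ : a ⟶ b), F.map φ = F.map ψ → φ = ψ)
    (hfull : ∀ {a b : 𝒳.obj} (φ : F.obj a ⟶ F.obj b), ∃ ψ : a ⟶ b, F.map ψ = φ)
    (hess : ∀ y : 𝒴.obj, ∃ (x : 𝒳.obj) (e : F.obj x ≅ y), Vert 𝒴.p e.hom) : FibCat.IsEquivOver F := by
  choose g eg hg using hess
  choose l hl using @hfull
  let G₀ : 𝒴.obj ⥤ 𝒳.obj :=
    { obj := g
      map := fun {a b} φ => l ((eg a).hom ≫ φ ≫ (eg b).inv)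
      map_id := fun a => by apply hfaith; rw [hl]; simp
      map_comp := fun {a b c} φ ψ => by apply hfaith; rw [F.map_comp, hl, hl, hl]; simp }
  have hGobj : ∀ y : 𝒴.obj, 𝒳.p.obj (g y) = 𝒴.p.obj y := fun y => (F.w_obj (g y)).symm.trans (hg y).eq.symm
  let G : 𝒴 ⥤ᵇ 𝒳 :=
    { toFunctor := G₀
      w := Functor.ext hGobj (fun a b φ => by
        change 𝒳.p.map (l ((eg a).hom ≫ φ ≫ (eg b).inv)) = _
        have h1 := map_map F (l ((eg a).hom ≫ φ ≫ (eg b).inv))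
        rw [hl, Functor.map_comp, Functor.map_comp, (hg a).map_eq, (Vert.iso_inv (hg b)).map_eq] at h1
        rw [← cancel_epi (eqToHom (F.w_obj (g a))), ← cancel_mono (eqToHom (F.w_obj (g b)).symm),
          Category.assoc, ← h1]
        simp) }
  refine ⟨G, ⟨mkIso (fun a => ⟨l (eg (F.obj a)).hom, l (eg (F.obj a)).inv, ?_, ?_⟩) ?_ ?_⟩, ⟨mkIso eg ?_ ?_⟩⟩
  · apply hfaith
    rw [F.map_comp, hl, hl, Iso.hom_inv_id, F.map_id]
  · apply hfaith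
    change F.map (_ ≫ _) = F.map (𝟙 _)
    rw [F.map_comp, hl, hl, Iso.inv_hom_id, F.map_id]
  · intro a b φ
    apply hfaith
    change F.map (l ((eg (F.obj a)).hom ≫ F.map φ ≫ (eg (F.obj b)).inv) ≫ l (eg (F.obj b)).hom) =
      F.map (l (eg (F.obj a)).hom ≫ φ)
    rw [F.map_comp, F.map_comp, hl, hl, hl]
    simp
  · intro a
    rw [← vert_map_iff F]
    change Vert 𝒴.p (F.map (l (eg (F.obj a)).hom))
    rw [hl]
    exact hg _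
  · intro a b φ
    change F.map (l ((eg a).hom ≫ φ ≫ (eg b).inv)) ≫ (eg b).hom = (eg a).hom ≫ φ
    rw [hl]
    simp
  · exact hg

theorem isEquivOver_iff {F : 𝒳 ⥤ᵇ 𝒴} : FibCat.IsEquivOver F ↔
    (∀ {a b : 𝒳.obj} (φ ψ : a ⟶ b), F.map φ = F.map ψ → φ = ψ) ∧
    (∀ {a b : 𝒳.obj} (φ : F.obj a ⟶ F.obj b), ∃ ψ : a ⟶ b, F.map ψ = φ) ∧
    (∀ y : 𝒴.obj, ∃ (x : 𝒳.obj) (e : F.obj x ≅ y), Vert 𝒴.p e.hom) :=
  ⟨fun h => ⟨fun _ _ => IsEquivOver.faithful h, fun φ => IsEquivOver.full h φ, IsEquivOver.essSurj h⟩,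
    fun h => isEquivOver_of h.1 h.2.1 h.2.2⟩

/-- For categories fibred in groupoids it is enough to test vertical morphisms and objects. -/
theorem isEquivOver_of_vert (h𝒳 : FibCat.IsFibGrpd 𝒳.p) (h𝒴 : FibCat.IsFibGrpd 𝒴.p) {F : 𝒳 ⥤ᵇ 𝒴}
    (hfaith : ∀ {a b : 𝒳.obj} (φ ψ : a ⟶ b), Vert 𝒳.p φ → Vert 𝒳.p ψ → F.map φ = F.map ψ → φ = ψ)
    (hfull : ∀ {a b : 𝒳.obj} (φ : F.obj a ⟶ F.obj b), Vert 𝒴.p φ → ∃ ψ : a ⟶ b, F.map ψ = φ)
    (hess : ∀ y : 𝒴.obj, ∃ (x : 𝒳.obj) (φ : F.obj x ⟶ y), Vert 𝒴.p φ) : FibCat.IsEquivOver F := by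
  refine isEquivOver_of ?_ ?_ ?_
  · intro a b φ ψ h
    have hp : 𝒳.p.map φ = 𝒳.p.map ψ := by
      have h1 := map_map F φ
      have h2 := map_map F ψ
      rw [h, h2] at h1
      exact (eqToHom_cancel _ _ h1).symm
    obtain ⟨χ, ⟨h1, h2⟩, -⟩ := existsUnique_hom h𝒳 φ ψ (𝟙 _) (by simp [hp])
    have hχ : Vert 𝒳.p χ := vert_of_map_eq rfl (by simpa using h1)
    have : χ = 𝟙 a := by
      apply hfaith _ _ hχ (vert_id a)
      apply hom_ext' h𝒴 (F.map φ)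
      · rw [map_map, h1, map_map]; simp
      · rw [← F.map_comp, h2, F.map_id, Category.id_comp, h]
    rw [← h2, this, Category.id_comp]
  · intro a b φ
    -- lift `p φ` to a morphism `a' ⟶ b`
    obtain ⟨a', ψ, e, hψ⟩ := exists_lift_eq h𝒳 (F.w_obj b).symm (𝒴.p.map φ)
    obtain ⟨χ, hχ1, hχ2⟩ := exists_hom h𝒴 (F.map ψ) φ (eqToHom ((F.w_obj a').trans e).symm) (by
      rw [map_map, hψ]; simp)
    have hχ : Vert 𝒴.p χ := vert_of_map_eq _ hχ1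
    obtain ⟨θ, hθ⟩ := hfull χ hχ
    exact ⟨θ ≫ ψ, by rw [F.map_comp, hθ, hχ2]⟩
  · intro y
    obtain ⟨x, φ, hφ⟩ := hess y
    have := hφ.isIso h𝒴
    exact ⟨x, asIso φ, hφ⟩

/-- Being fibred in groupoids is invariant under equivalence over the base. -/
theorem isFibGrpd_of_isEquivOver {F : 𝒳 ⥤ᵇ 𝒴} (hF : FibCat.IsEquivOver F) (h𝒳 : FibCat.IsFibGrpd 𝒳.p) :
    FibCat.IsFibGrpd 𝒴.p := by
  have key : ∀ {x y z : 𝒴.obj} (φ : y ⟶ x) (ψ : z ⟶ x) (g : 𝒴.p.obj z ⟶ 𝒴.p.obj y)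
      (_ : g ≫ 𝒴.p.map φ = 𝒴.p.map ψ), ∃! χ : z ⟶ y, 𝒴.p.map χ = g ∧ χ ≫ φ = ψ := by
    intro x y z φ ψ g w
    obtain ⟨G, hG, -, -⟩ := IsEquivOver.exists_inv hF
    obtain ⟨χ, ⟨h1, h2⟩, h3⟩ := existsUnique_hom h𝒳 (G.map φ) (G.map ψ)
      (eqToHom (G.w_obj z) ≫ g ≫ eqToHom (G.w_obj y).symm) (by
        rw [map_map, map_map, ← w]; simp)
    obtain ⟨θ, hθ⟩ := IsEquivOver.full hG χ
    refine ⟨θ, ⟨?_, ?_⟩, ?_⟩
    · have := map_map G θ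
      rw [hθ, h1] at this
      exact (eqToHom_cancel _ _ this).symm
    · apply IsEquivOver.faithful hG
      rw [G.map_comp, hθ, h2]
    · rintro θ' ⟨h4, h5⟩
      apply IsEquivOver.faithful hG
      rw [hθ]
      apply h3
      refine ⟨?_, by rw [← G.map_comp, h5]⟩
      rw [map_map, h4]
  constructor
  · intro x V f
    obtain ⟨x', e, he⟩ := IsEquivOver.essSurj hF x
    obtain ⟨y, φ, e', h⟩ := exists_lift_eq h𝒳 (F.w_obj x').symm (f ≫ eqToHom he.eq)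
    refine ⟨F.obj y, F.map φ ≫ e.hom, IsHomLift.of_fac' _ _ _ ((F.w_obj y).trans e') rfl ?_⟩
    rw [Functor.map_comp, map_map, h, he.map_eq]
    simp
  · intro y x φ
    refine ⟨fun {z} g ψ hψ => ?_⟩
    have hw : g ≫ 𝒴.p.map φ = 𝒴.p.map ψ := IsHomLift.eq_of_isHomLift 𝒴.p _ ψ
    obtain ⟨χ, ⟨h1, h2⟩, h3⟩ := key φ ψ g hw
    refine ⟨χ, ⟨by rw [← h1]; infer_instance, h2⟩, ?_⟩
    rintro χ' ⟨h4, h5⟩
    exact h3 χ' ⟨(IsHomLift.eq_of_isHomLift 𝒴.p g χ').symm, h5⟩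

end Based

end K735.Fib
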