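import Groth.Agent.AlgSt.K735.Univ

/-!
# Products of morphisms over the base category (helper735)

* `K735.Prod.isEquivOver_left/right`: `f₁ × 1` and `1 × f₂` are base changes of `f₁`, `f₂`.
* `K735.Prod.repByAlgSpWith_left/right`: hence have `P` when `f₁`, `f₂` have.
* `K735.Prod.repByAlgSpWith_prodMap`: `f₁ × f₂` from stability under composition.
-/

set_option autoImplicit false
set_option backward.isDefEq.respectTransparency false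
set_option backward.isDefEq.respectTransparency.types false

universe v₆ u₆ v₅ u₅ v₄ u₄ v₃ u₃ v₂ u₂ v u

open CategoryTheory CategoryTheory.Limits AlgebraicGeometry Opposite K735.Fib K735.Fp K735.Rep K735.Univ

namespace K735.Prod

section

variable {C : Type u} [Category.{v} C] {𝒳₁ : BasedCategory.{v₂, u₂} C} {𝒳₂ : BasedCategory.{v₃, u₃} C}
  {𝒴₁ : BasedCategory.{v₄, u₄} C} {𝒴₂ : BasedCategory.{v₅, u₅} C} {𝒲 : BasedCategory.{v₆, u₆} C}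

theorem comp_eqToHom_iff_heq {a b a' b' : C} (f : a ⟶ b) (g : a' ⟶ b') (e : b = b') (e' : a = a') :
    f ≫ eqToHom e = eqToHom e' ≫ g ↔ f ≍ g := by
  subst e e'
  simp

theorem prod_w {x y : (FibCat.fp (FibCat.toSelf 𝒳₁) (FibCat.toSelf 𝒳₂)).obj} (f : x.obj.fst ⟶ y.obj.fst)
    (g : x.obj.snd ⟶ y.obj.snd) :
    (FibCat.toSelf 𝒳₁).map f ≫ y.obj.iso.hom = x.obj.iso.hom ≫ (FibCat.toSelf 𝒳₂).map g ↔
      𝒳₁.p.map f ≍ 𝒳₂.p.map g := by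
  have h1 : y.obj.iso.hom = eqToHom (vert_of_isHomLift y.property).eq.symm := (vert_of_isHomLift y.property).map_eq
  have h2 : x.obj.iso.hom = eqToHom (vert_of_isHomLift x.property).eq.symm := (vert_of_isHomLift x.property).map_eq
  rw [h1, h2]
  exact comp_eqToHom_iff_heq _ _ _ _

theorem heq_w {𝒳 : BasedCategory.{v₂, u₂} C} {𝒴 : BasedCategory.{v₃, u₃} C} (F : 𝒳 ⥤ᵇ 𝒴) {x y : 𝒳.obj}
    (f : x ⟶ y) : 𝒴.p.map (F.map f) ≍ 𝒳.p.map f :=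
  Functor.hcongr_hom F.w f

theorem heq_id {a b : C} (h : a = b) : (𝟙 a : a ⟶ a) ≍ (𝟙 b : b ⟶ b) := by subst h; rfl

theorem heq_eqToHom {a b a' b' : C} (h : a = b) (h' : a' = b') (e : a = a') : eqToHom h ≍ eqToHom h' := by
  subst h h' e; rfl

/-- Any two functors to the base are canonically isomorphic. -/
def selfIso (F G : 𝒲 ⥤ᵇ FibCat.selfOver C) : F ≅ G :=
  have h : ∀ a, F.obj a = G.obj a := fun a => (F.w_obj a).trans (G.w_obj a).symm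
  mkIso (fun a => eqToIso (h a))
    (fun {a b} φ => (comp_eqToHom_iff_heq (C := C) (F.map φ) (G.map φ) (h b) (h a)).2
      ((heq_w F φ).trans (heq_w G φ).symm))
    (fun a => vert_eqToHom (h a))

/-- Any two 2-isomorphisms of functors to the base are equal. -/
theorem self_iso_ext {F G : 𝒲 ⥤ᵇ FibCat.selfOver C} (α β : F ≅ G) (a : 𝒲.obj) :
    α.hom.toNatTrans.app a = β.hom.toNatTrans.app a :=
  (vert_app α.hom a).map_eq.trans (vert_app β.hom a).map_eq.symm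

/-- 2-isomorphisms into a product. -/
def prodExt {H K : 𝒲 ⥤ᵇ FibCat.fp (FibCat.toSelf 𝒳₁) (FibCat.toSelf 𝒳₂)}
    (α : BasedFunctor.comp H (FibCat.fpFst _ _) ≅ BasedFunctor.comp K (FibCat.fpFst _ _))
    (β : BasedFunctor.comp H (FibCat.fpSnd _ _) ≅ BasedFunctor.comp K (FibCat.fpSnd _ _)) : H ≅ K :=
  K734.Fib.liftExt α β (fun x => (prod_w _ _).2 (by
    have h1 := (vert_isoApp α x).map_eq
    have h2 := (vert_isoApp β x).map_eq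
    have h3 := (vert_of_isHomLift (H.obj x).property).eq
    exact ((heq_of_eq h1).trans (heq_eqToHom _ _ h3.symm)).trans (heq_of_eq h2).symm))

variable (f₁ : 𝒳₁ ⥤ᵇ 𝒴₁) (f₂ : 𝒳₂ ⥤ᵇ 𝒴₂)

variable (𝒳₂) in
/-- `f₁ × 1`. -/
def left : FibCat.fp (FibCat.toSelf 𝒳₁) (FibCat.toSelf 𝒳₂) ⥤ᵇ FibCat.fp (FibCat.toSelf 𝒴₁) (FibCat.toSelf 𝒳₂) :=
  FibCat.fpLift (BasedFunctor.comp (FibCat.fpFst _ _) f₁) (FibCat.fpSnd _ _) (selfIso _ _)

variable (𝒴₁) in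
/-- `1 × f₂`. -/
def right : FibCat.fp (FibCat.toSelf 𝒴₁) (FibCat.toSelf 𝒳₂) ⥤ᵇ FibCat.fp (FibCat.toSelf 𝒴₁) (FibCat.toSelf 𝒴₂) :=
  FibCat.fpLift (FibCat.fpFst _ _) (BasedFunctor.comp (FibCat.fpSnd _ _) f₂) (selfIso _ _)

variable (𝒳₂) in
/-- `f₁ × 1` is a base change of `f₁`. -/
theorem isEquivOver_left : FibCat.IsEquivOver (FibCat.fpLift (F := FibCat.fpFst (FibCat.toSelf 𝒴₁) (FibCat.toSelf 𝒳₂))
    (G := f₁) (left 𝒳₂ f₁) (FibCat.fpFst _ _) (Iso.refl _)) := by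
  refine K734.Fib.isTwoCart_of _ _ _ ?_ ?_ ?_
  · intro w w' f g h
    have h' : f.hom.fst = f₁.map g := (Category.comp_id _).symm.trans (h.trans (Category.id_comp _))
    have h'' : 𝒳₁.p.map g ≍ 𝒳₂.p.map f.hom.snd := by
      have h1 := (prod_w _ _).1 f.hom.w
      rw [h'] at h1
      exact (heq_w f₁ g).symm.trans h1
    exact ⟨homFp g f.hom.snd ((prod_w _ _).2 h''), fp_hom_ext h'.symm rfl, rfl⟩
  · intro w w' h h' h1 h2
    exact fp_hom_ext h2 (congrArg (fun k => k.hom.snd) h1)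
  · intro x y φ hφ
    have e1 : 𝒳₁.p.obj y = 𝒳₂.p.obj x.obj.snd :=
      (f₁.w_obj y).symm.trans (hφ.obj_eq.symm.trans (vert_of_isHomLift x.property).eq.symm)
    refine ⟨mkFp (FibCat.toSelf 𝒳₁) (FibCat.toSelf 𝒳₂) y x.obj.snd (eqToIso e1) (vert_eqToHom e1),
      isoFp φ.symm (Iso.refl _) ((prod_w _ _).2 ?_), Iso.refl _, ?_, ?_⟩
    · have h1 := (K734.Fib.IsVert.inv hφ).map_eq
      refine (heq_of_eq h1).trans ?_
      refine HEq.trans ?_ (heq_of_eq (𝒳₂.p.map_id _)).symm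
      exact heq_eqToHom (C := C) _ (rfl : 𝒳₂.p.obj x.obj.snd = 𝒳₂.p.obj x.obj.snd) ((f₁.w_obj y).trans e1)
    · exact K734.Fib.vert_fp_iff_fst.2 (K734.Fib.IsVert.inv hφ)
    · change φ.inv ≫ φ.hom = 𝟙 _ ≫ f₁.map (𝟙 _)
      rw [φ.inv_hom_id, f₁.map_id, Category.comp_id]

variable (𝒴₁) in
/-- `1 × f₂` is a base change of `f₂`. -/
theorem isEquivOver_right : FibCat.IsEquivOver (FibCat.fpLift (F := FibCat.fpSnd (FibCat.toSelf 𝒴₁) (FibCat.toSelf 𝒴₂))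
    (G := f₂) (right 𝒴₁ f₂) (FibCat.fpSnd _ _) (Iso.refl _)) := by
  refine K734.Fib.isTwoCart_of _ _ _ ?_ ?_ ?_
  · intro w w' f g h
    have h' : f.hom.snd = f₂.map g := (Category.comp_id _).symm.trans (h.trans (Category.id_comp _))
    have h'' : 𝒴₁.p.map f.hom.fst ≍ 𝒳₂.p.map g := by
      have h1 := (prod_w _ _).1 f.hom.w
      rw [h'] at h1
      exact h1.trans (heq_w f₂ g)
    exact ⟨homFp f.hom.fst g ((prod_w (x := w) (y := w') f.hom.fst g).2 h''), fp_hom_ext rfl h'.symm, rfl⟩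
  · intro w w' h h' h1 h2
    exact fp_hom_ext (congrArg (fun k => k.hom.fst) h1) h2
  · intro x y φ hφ
    have e1 : 𝒴₁.p.obj x.obj.fst = 𝒳₂.p.obj y :=
      (vert_of_isHomLift x.property).eq.symm.trans (hφ.obj_eq.trans (f₂.w_obj y))
    refine ⟨mkFp (FibCat.toSelf 𝒴₁) (FibCat.toSelf 𝒳₂) x.obj.fst y (eqToIso e1) (vert_eqToHom e1),
      isoFp (Iso.refl _) φ.symm ((prod_w _ _).2 ?_), Iso.refl _, ?_, ?_⟩
    · have h1 := (K734.Fib.IsVert.inv hφ).map_eq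
      refine HEq.trans ?_ (heq_of_eq h1).symm
      refine (heq_of_eq (𝒴₁.p.map_id _)).trans ?_
      exact heq_eqToHom (C := C) (rfl : 𝒴₁.p.obj x.obj.fst = 𝒴₁.p.obj x.obj.fst) _ (e1.trans (f₂.w_obj y).symm)
    · exact K734.Fib.vert_fp_iff_fst.2 (K734.Fib.IsVert.id _)
    · change φ.inv ≫ φ.hom = 𝟙 _ ≫ f₂.map (𝟙 _)
      rw [φ.inv_hom_id, f₂.map_id, Category.comp_id]

end

section Rep

variable {S : Scheme.{u}} {𝒳₁ : BasedCategory.{v₂, u₂} (Over S)} {𝒳₂ : BasedCategory.{v₃, u₃} (Over S)}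
  {𝒴₁ : BasedCategory.{v₄, u₄} (Over S)} {𝒴₂ : BasedCategory.{v₅, u₅} (Over S)} {P : MorphismProperty (AlgSp.Sp S)}
  {f₁ : 𝒳₁ ⥤ᵇ 𝒴₁} {f₂ : 𝒳₂ ⥤ᵇ 𝒴₂}

theorem repByAlgSpWith_left (h : AlgSt.RepByAlgSpWith P f₁) : AlgSt.RepByAlgSpWith P (left 𝒳₂ f₁) :=
  repByAlgSpWith_of_sq P (FibCat.fpFst (FibCat.fpFst (FibCat.toSelf 𝒴₁) (FibCat.toSelf 𝒳₂)) f₁) (left 𝒳₂ f₁) _
    (BasedFunctor.id _) (isEquivOver_left 𝒳₂ f₁) isEquivOver_id (Iso.refl _) (repByAlgSpWith_fpFst _ h)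

theorem repByAlgSpWith_right (h : AlgSt.RepByAlgSpWith P f₂) : AlgSt.RepByAlgSpWith P (right 𝒴₁ f₂) :=
  repByAlgSpWith_of_sq P (FibCat.fpFst (FibCat.fpSnd (FibCat.toSelf 𝒴₁) (FibCat.toSelf 𝒴₂)) f₂) (right 𝒴₁ f₂) _
    (BasedFunctor.id _) (isEquivOver_right 𝒴₁ f₂) isEquivOver_id (Iso.refl _) (repByAlgSpWith_fpFst _ h)

/-- `f₁ × f₂` is the composition of `f₁ × 1` and `1 × f₂`. -/
def prodIso (f₁ : 𝒳₁ ⥤ᵇ 𝒴₁) (f₂ : 𝒳₂ ⥤ᵇ 𝒴₂)
    (e : BasedFunctor.comp (BasedFunctor.comp (FibCat.fpFst (FibCat.toSelf 𝒳₁) (FibCat.toSelf 𝒳₂)) f₁) (FibCat.toSelf 𝒴₁) ≅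
      BasedFunctor.comp (BasedFunctor.comp (FibCat.fpSnd (FibCat.toSelf 𝒳₁) (FibCat.toSelf 𝒳₂)) f₂) (FibCat.toSelf 𝒴₂)) :
    BasedFunctor.comp (left 𝒳₂ f₁) (right 𝒴₁ f₂) ≅
      FibCat.fpLift (BasedFunctor.comp (FibCat.fpFst (FibCat.toSelf 𝒳₁) (FibCat.toSelf 𝒳₂)) f₁)
        (BasedFunctor.comp (FibCat.fpSnd (FibCat.toSelf 𝒳₁) (FibCat.toSelf 𝒳₂)) f₂) e :=
  prodExt (Iso.refl _) (Iso.refl _)

end Rep

end K735.Prod
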