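import Groth.Agent.AlgSt.K735.Top
import Groth.Agent.AlgSt.K734.FibFp
import Groth.Agent.AlgSp.K613.Chart

/-!
# Universal topological properties of morphisms of algebraic stacks (helper735)

* `K735.Univ.repByAlgSpWith_fpFst`: base change of `RepByAlgSpWith P`.
* `K735.Univ.mapHomeo`: an equivalence over the base induces a homeomorphism on points.
* `K735.Univ.exists_ofSp_fp`: base change to an algebraic space.
* `isOpenMap_fpFst`, `isClosedMap_fpFst`, `isQuotientMap_fpFst`, `injective_fpFst` and the converses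
  `repByAlgSpWith_univ`.
-/

set_option autoImplicit false
set_option backward.isDefEq.respectTransparency false
set_option backward.isDefEq.respectTransparency.types false

universe v₉ u₉ v₈ u₈ v₇ u₇ v₆ u₆ v₅ u₅ v₄ u₄ v₃ u₃ v₂ u₂ v u

open CategoryTheory CategoryTheory.Limits AlgebraicGeometry Opposite K735.Fib K735.Fp K735.Rep K735.Setoid K735.SpFp
  K735.Pts K735.PtsSp K735.Top

namespace K735.Univ

variable {S : Scheme.{u}}

section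

variable {𝒳 : BasedCategory.{v₂, u₂} (Over S)} {𝒴 : BasedCategory.{v₃, u₃} (Over S)}
  {𝒱 : BasedCategory.{v₄, u₄} (Over S)} {𝒵 : BasedCategory.{v₅, u₅} (Over S)}

/-- Base change of `RepByAlgSpWith P` (for every `P`). -/
theorem repByAlgSpWith_fpFst {P : MorphismProperty (AlgSp.Sp S)} {f : 𝒳 ⥤ᵇ 𝒴} (g : 𝒵 ⥤ᵇ 𝒴)
    (hf : AlgSt.RepByAlgSpWith P f) : AlgSt.RepByAlgSpWith P (FibCat.fpFst g f) := by
  intro U y
  exact RepOver.of_equiv (hf U (BasedFunctor.comp y g)) (K734.Fib.fpPaste y g f)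
    (K734.Fib.isEquivOver_fpPaste y g f) (Iso.refl _)

theorem repByAlgSp1_fpFst {f : 𝒳 ⥤ᵇ 𝒴} (g : 𝒵 ⥤ᵇ 𝒴) (hf : AlgSt.RepByAlgSp1 f) :
    AlgSt.RepByAlgSp1 (FibCat.fpFst g f) := by
  rw [repByAlgSp1_iff_top] at hf ⊢
  exact repByAlgSpWith_fpFst g hf

/-- Composition of a chart with an equivalence over the base. -/
theorem repByAlgSpWith_comp_equiv {P : MorphismProperty (AlgSp.Sp S)} {x : 𝒱 ⥤ᵇ 𝒳} {k : 𝒳 ⥤ᵇ 𝒴}
    (hk : FibCat.IsEquivOver k) (hx : AlgSt.RepByAlgSpWith P x) :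
    AlgSt.RepByAlgSpWith P (BasedFunctor.comp x k) :=
  (repByAlgSpWith_iff_of_sq P (BasedFunctor.comp x k) x (BasedFunctor.id _) k isEquivOver_id hk (Iso.refl _)).2 hx

theorem continuous_map_of_isEquivOver {k : 𝒳 ⥤ᵇ 𝒴} (hk : FibCat.IsEquivOver k) :
    Continuous (AlgSt.Points.map k) :=
  ⟨fun _ hW U x hx => hW U (BasedFunctor.comp x k) (repByAlgSpWith_comp_equiv hk hx)⟩

/-- An equivalence over the base induces a homeomorphism on points. -/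
theorem isHomeomorph_map_of_isEquivOver {k : 𝒳 ⥤ᵇ 𝒴} (hk : FibCat.IsEquivOver k) :
    IsHomeomorph (AlgSt.Points.map k) := by
  obtain ⟨l, hl, ⟨a⟩, ⟨b⟩⟩ := IsEquivOver.exists_inv hk
  have hb := map_bijective_of_isEquivOver hk
  refine ⟨continuous_map_of_isEquivOver hk, ?_, hb⟩
  intro W hW
  have : AlgSt.Points.map k '' W = AlgSt.Points.map l ⁻¹' W := by
    ext y
    constructor
    · rintro ⟨x, hx, rfl⟩
      rw [Set.mem_preimage, ← map_comp, map_congr a, map_id]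
      exact hx
    · intro hy
      refine ⟨_, hy, ?_⟩
      rw [← map_comp, map_congr b, map_id]
  rw [this]
  exact (continuous_map_of_isEquivOver hl).isOpen_preimage _ hW

/-- The second projection of a represented fibre product, on points. -/
theorem continuous_of_ofSp (h𝒱 : ChartCont 𝒱) {F : AlgSp.Sp S} (r : AlgSt.ofSp F ⥤ᵇ 𝒱) :
    Continuous (fun ξ => AlgSt.Points.map r ((ptsEquiv F).symm ξ)) := by
  refine ⟨fun W hW => ?_⟩
  rw [AlgSp.Points.isOpen_iff]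
  intro T g
  have h2 : AlgSp.Points.ofPt g ⁻¹' ((fun ξ => AlgSt.Points.map r ((ptsEquiv F).symm ξ)) ⁻¹' W) =
      AlgSt.Points.ofChart (BasedFunctor.comp (chart g) r) ⁻¹' W := by
    ext t
    simp only [Set.mem_preimage]
    rw [← ptsEquiv_ofChart, Equiv.symm_apply_apply]
    rfl
  rw [h2]
  exact (h𝒱 T _).isOpen_preimage _ hW

/-! ### From spaces to stacks -/

theorem isOpenMap_of_with (h𝒳 : FibCat.IsFibGrpd 𝒳.p) (h𝒱 : FibCat.IsFibGrpd 𝒱.p) (h𝒱' : ChartCont 𝒱)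
    {v : 𝒱 ⥤ᵇ 𝒳} (hv : AlgSt.RepByAlgSpWith AlgSp.IsOpenMor v) : IsOpenMap (AlgSt.Points.map v) := by
  intro D hD U y _
  obtain ⟨F, e, he, hq⟩ := hv U y
  rw [preimage_image_map h𝒳 h𝒱 y e he]
  exact (AlgSp.Points.continuous_ofPt _).isOpen_preimage _ (hq _ ((continuous_of_ofSp h𝒱' _).isOpen_preimage _ hD))

theorem isClosed_iff {W : Set (AlgSt.Points 𝒳)} : IsClosed W ↔ ∀ (U : Over S) (x : FibCat.overCat U ⥤ᵇ 𝒳),
    AlgSt.RepByAlgSpWith (AlgSp.LocP @Smooth) x → IsClosed (AlgSt.Points.ofChart x ⁻¹' W) := by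
  rw [← isOpen_compl_iff, AlgSt.Points.isOpen_iff]
  refine forall_congr' fun U => forall_congr' fun x => forall_congr' fun _ => ?_
  rw [Set.preimage_compl, isOpen_compl_iff]

theorem isClosedMap_of_with (h𝒳 : FibCat.IsFibGrpd 𝒳.p) (h𝒱 : FibCat.IsFibGrpd 𝒱.p) (h𝒱' : ChartCont 𝒱)
    {v : 𝒱 ⥤ᵇ 𝒳} (hv : AlgSt.RepByAlgSpWith AlgSp.IsClosedMor v) : IsClosedMap (AlgSt.Points.map v) := by
  intro D hD
  rw [isClosed_iff]
  intro U y _
  obtain ⟨F, e, he, hq⟩ := hv U y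
  rw [preimage_image_map h𝒳 h𝒱 y e he]
  exact (hq _ (hD.preimage (continuous_of_ofSp h𝒱' _))).preimage (AlgSp.Points.continuous_ofPt _)

theorem isQuotientMap_of_with (h𝒳 : FibCat.IsFibGrpd 𝒳.p) (h𝒳' : ChartCont 𝒳) (h𝒱 : FibCat.IsFibGrpd 𝒱.p)
    (h𝒱' : ChartCont 𝒱) {v : 𝒱 ⥤ᵇ 𝒳} (hv : AlgSt.RepByAlgSpWith AlgSp.IsSubmersiveMor v) :
    Topology.IsQuotientMap (AlgSt.Points.map v) := by
  rw [Topology.isQuotientMap_iff, Topology.isCoinducing_iff]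
  refine ⟨fun W => ⟨fun hW U y _ => ?_, fun hW => (continuous_map h𝒳' v).isOpen_preimage _ hW⟩,
    surjective_of_repByAlgSpWith h𝒳 h𝒱 (AlgSt_RepByAlgSpWith_mono (fun _ _ _ h => h.surjective) hv)⟩
  obtain ⟨F, e, he, hq⟩ := hv U y
  have h1 := (continuous_of_ofSp h𝒱' (BasedFunctor.comp e (FibCat.fpSnd y v))).isOpen_preimage _ hW
  have h2 := mem_preimage_iff h𝒳 h𝒱 y e he W
  change IsOpen ((fun ξ => AlgSt.Points.map (BasedFunctor.comp e (FibCat.fpSnd y v)) ((ptsEquiv F.obj).symm ξ)) ⁻¹'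
        (AlgSt.Points.map v ⁻¹' W)) at h1
  rw [h2] at h1
  have h3 := hq.isOpen_preimage.1 h1
  have h4 := (AlgSp.Points.continuous_ofPt (𝟙 ((AlgSp.yon S).obj U))).isOpen_preimage _ h3
  have h5 : AlgSp.Points.ofPt (𝟙 ((AlgSp.yon S).obj U)) ⁻¹' (AlgSp.Points.ofScheme U '' (AlgSt.Points.ofChart y ⁻¹' W)) =
      AlgSt.Points.ofChart y ⁻¹' W := Set.preimage_image_eq _ (AlgSp.Points.schemeEquiv U).injective
  rwa [h5] at h4

theorem injective_of_with (h𝒳 : FibCat.IsFibGrpd 𝒳.p) (h𝒱 : FibCat.IsFibGrpd 𝒱.p)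
    {v : 𝒱 ⥤ᵇ 𝒳} (hv : AlgSt.RepByAlgSpWith (fun _ _ f => Function.Injective (AlgSp.Points.map f)) v) :
    Function.Injective (AlgSt.Points.map v) := by
  intro z₁ z₂ hz
  obtain ⟨K, _, s, y, hy⟩ := exists_fpt_chart h𝒳 (AlgSt.Points.map v z₁)
  obtain ⟨F, e, he, hq⟩ := hv _ y
  let t : ↥(Over.mk s : Over S).left := IsLocalRing.closedPoint K
  obtain ⟨ξ₁, h1, h2⟩ := (exists_rep_fp h𝒳 h𝒱 y e he t z₁).1 (hy t)
  obtain ⟨ξ₂, h3, h4⟩ := (exists_rep_fp h𝒳 h𝒱 y e he t z₂).1 ((hy t).trans hz)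
  have : ξ₁ = ξ₂ := hq (h1.trans h3.symm)
  rw [← h2, ← h4, this]

theorem isHomeomorph_of_with (h𝒳 : FibCat.IsFibGrpd 𝒳.p) (h𝒳' : ChartCont 𝒳) (h𝒱 : FibCat.IsFibGrpd 𝒱.p)
    (h𝒱' : ChartCont 𝒱) {v : 𝒱 ⥤ᵇ 𝒳} (hv : AlgSt.RepByAlgSpWith (fun _ _ f => IsHomeomorph (AlgSp.Points.map f)) v) :
    IsHomeomorph (AlgSt.Points.map v) :=
  ⟨continuous_map h𝒳' v, isOpenMap_of_with h𝒳 h𝒱 h𝒱' (AlgSt_RepByAlgSpWith_mono (fun _ _ _ h => h.isOpenMap) hv),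
    injective_of_with h𝒳 h𝒱 (AlgSt_RepByAlgSpWith_mono (fun _ _ _ h => h.injective) hv),
    surjective_of_repByAlgSpWith h𝒳 h𝒱 (AlgSt_RepByAlgSpWith_mono (fun _ _ _ h => h.surjective) hv)⟩

/-- Every `UnivSp Q` morphism to a scheme has `Q`. -/
theorem univSp_le (Q : MorphismProperty (AlgSp.Sp S)) {F : AlgSp.Sp S} {U : Over S} {q : F ⟶ (AlgSp.yon S).obj U}
    (h : AlgSp.UnivSp Q q) : Q q :=
  h (AlgSp.IsAlgSpace.yon_obj U) (𝟙 _) (𝟙 _) q (IsPullback.of_id_fst)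

theorem with_of_univSp {Q : MorphismProperty (AlgSp.Sp S)} {v : 𝒱 ⥤ᵇ 𝒳}
    (h : AlgSt.RepByAlgSpWith (AlgSp.UnivSp Q) v) : AlgSt.RepByAlgSpWith Q v := by
  intro U y
  obtain ⟨F, e, he, hq⟩ := h U y
  exact ⟨F, e, he, univSp_le Q hq⟩

/-! ### From stacks to spaces -/

/-- Base change of a morphism representable by algebraic spaces to an algebraic space over a scheme. -/
theorem exists_ofSp_fp {f : 𝒳 ⥤ᵇ 𝒴} {U : Over S} (y : FibCat.overCat U ⥤ᵇ 𝒴) {F : AlgSp.Sp S}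
    (e : AlgSt.ofSp F ⥤ᵇ FibCat.fp y f) (he : FibCat.IsEquivOver e) {Z Z' : AlgSp.Sp S}
    (g : Z ⟶ (AlgSp.yon S).obj U) {fst : Z' ⟶ F} {snd : Z' ⟶ Z}
    (sq : IsPullback fst snd (AlgSt.spMapOfOver (BasedFunctor.comp e (FibCat.fpFst y f))) g) :
    ∃ k : AlgSt.ofSp Z' ⥤ᵇ FibCat.fp (BasedFunctor.comp (BasedFunctor.comp (AlgSt.ofSpMap g) (AlgSt.toOverCat U)) y) f,
      FibCat.IsEquivOver k ∧ Nonempty (BasedFunctor.comp k (FibCat.fpFst _ f) ≅ AlgSt.ofSpMap snd) := by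
  obtain ⟨i⟩ := exists_iso_spMapOfOver (BasedFunctor.comp e (FibCat.fpFst y f))
  let q := AlgSt.spMapOfOver (BasedFunctor.comp e (FibCat.fpFst y f))
  -- `ofSp Z' ≃ fp (ofSpMap g) (ofSpMap q)`
  let k₁ : AlgSt.ofSp Z' ⥤ᵇ FibCat.fp (AlgSt.ofSpMap g) (AlgSt.ofSpMap q) := theta sq.flip.w
  have hk₁ : FibCat.IsEquivOver k₁ := isEquivOver_theta sq.flip
  -- `≃ fp (ofSpMap g ⋙ toOverCat) (e ⋙ fpFst y f)`
  let G₀ := BasedFunctor.comp (AlgSt.ofSpMap g) (AlgSt.toOverCat U)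
  let k₂ : FibCat.fp (AlgSt.ofSpMap g) (AlgSt.ofSpMap q) ⥤ᵇ FibCat.fp G₀ (FibCat.fpFst y f) :=
    fpMap (AlgSt.ofSpMap g) (AlgSt.ofSpMap q) G₀ (FibCat.fpFst y f) (BasedFunctor.id _) e (AlgSt.toOverCat U)
      (Iso.refl _) i
  have hk₂ : FibCat.IsEquivOver k₂ :=
    isEquivOver_fpMap' _ _ _ _ _ _ _ _ _ isEquivOver_id he (isEquivOver_toOverCat U)
  obtain ⟨l, hl, ⟨a⟩, ⟨b⟩⟩ := IsEquivOver.exists_inv (K734.Fib.isEquivOver_fpPaste G₀ y f)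
  refine ⟨BasedFunctor.comp (BasedFunctor.comp k₁ k₂) l, IsEquivOver.comp (IsEquivOver.comp hk₁ hk₂) hl, ⟨?_⟩⟩
  -- compatibility with the first projections
  exact (whiskerLeftIso (BasedFunctor.comp k₁ k₂) (whiskerRightIso b (FibCat.fpFst G₀ (FibCat.fpFst y f))) :
    BasedFunctor.comp (BasedFunctor.comp k₁ k₂) (BasedFunctor.comp (BasedFunctor.comp l
      (K734.Fib.fpPaste G₀ y f)) (FibCat.fpFst G₀ (FibCat.fpFst y f))) ≅ _)

/-- If every base change of `f` to an algebraic stack has a topological property on points, then `f` has the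
universal property for spaces. -/
theorem repByAlgSpWith_univ {f : 𝒳 ⥤ᵇ 𝒴} (hf : AlgSt.RepByAlgSp1 f)
    (Q : ∀ {X Y : Type (u + 1)} [TopologicalSpace X] [TopologicalSpace Y], (X → Y) → Prop)
    (Q' : ∀ {X : Type (max (u + 1) (max (u + 1) u₂ v₃))} {Y : Type (u + 1)} [TopologicalSpace X] [TopologicalSpace Y],
      (X → Y) → Prop)
    (hQ : ∀ {X : Type (u + 1)} {Y : Type (u + 1)} {X' : Type (max (u + 1) (max (u + 1) u₂ v₃))} {Y' : Type (u + 1)}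
      [TopologicalSpace X] [TopologicalSpace Y] [TopologicalSpace X'] [TopologicalSpace Y'] (α : X → X') (β : Y → Y')
      (_ : IsHomeomorph α) (_ : IsHomeomorph β) (φ : X → Y) (ψ : X' → Y'), ψ ∘ α = β ∘ φ → Q' ψ → Q φ)
    (h : ∀ (Z : AlgSp.Space S) (g : AlgSt.ofSp Z.obj ⥤ᵇ 𝒴), Q' (AlgSt.Points.map (FibCat.fpFst g f))) :
    AlgSt.RepByAlgSpWith (AlgSp.UnivSp (fun _ _ m => Q (AlgSp.Points.map m))) f := by
  intro U y
  obtain ⟨F, e, he⟩ := hf U y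
  refine ⟨F, e, he, ?_⟩
  intro Z Z' hZ g fst snd sq
  obtain ⟨k, hk, ⟨i⟩⟩ := exists_ofSp_fp y e he g sq
  have hZ' : AlgSp.IsAlgSpace Z' :=
    K613.Chart.isAlgSpace_of_isPullback (AlgSp.IsAlgSpace.yon_obj U).diag F.property hZ sq
  let Gf := BasedFunctor.comp (BasedFunctor.comp (AlgSt.ofSpMap g) (AlgSt.toOverCat U)) y
  refine hQ (fun ξ => AlgSt.Points.map k ((ptsHomeo hZ').symm ξ)) (fun ξ => (ptsHomeo hZ).symm ξ)
    ((isHomeomorph_map_of_isEquivOver hk).comp (ptsHomeo hZ').symm.isHomeomorph) (ptsHomeo hZ).symm.isHomeomorph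
    (AlgSp.Points.map snd) (AlgSt.Points.map (FibCat.fpFst Gf f)) ?_ (h ⟨Z, hZ⟩ Gf)
  funext ξ
  change AlgSt.Points.map (FibCat.fpFst Gf f) (AlgSt.Points.map k ((ptsEquiv Z').symm ξ)) =
    (ptsEquiv Z).symm (AlgSp.Points.map snd ξ)
  rw [← map_comp, map_congr i, ptsEquiv_symm_map]

end

end K735.Univ
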