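import Groth.Agent.AlgSt.K735.DvrSpec
import Groth.Agent.AlgSt.K735.Univ
import Groth.Agent.AlgSt.K743.FpChart
import Groth.Agent.AlgSt.K741.Charts
import Groth.Agent.AlgSt.K736.BC
import Groth.Agent.AlgSt.K744.AlgOver
import Groth.Agent.AlgSt.K747.EtFppf2
import Groth.Agent.Gerb.K894.SmST

/-!
# Universal closedness from the valuative criterion for discrete valuation rings (helper735)

* `K735.UnivClosedDvr.preimage_image_fp`: base change of images along scheme charts;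
* `isClosedMap_of_local`: closedness of `|𝒵 ×_𝒴 𝒳| → |𝒵|` from closedness over affine schemes over smooth charts of `𝒴`;
* `isClosedMap_aff`: the affine case, from `DvrLift f`.
-/

set_option autoImplicit false
set_option backward.isDefEq.respectTransparency false
set_option backward.isDefEq.respectTransparency.types false

universe v₉ u₉ v₈ u₈ v₇ u₇ v₆ u₆ v₅ u₅ v₄ u₄ v₃ u₃ v₂ u₂ v u

open CategoryTheory CategoryTheory.Limits AlgebraicGeometry Opposite K735.Fib K735.Fp K735.Rep K735.Pts K735.PtsSp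
  K735.Top K735.Cart K735.ClosedLim K735.DvrSpec

namespace K735.UnivClosedDvr

variable {S : Scheme.{u}} {𝒳 : BasedCategory.{v₂, u₂} (Over S)} {𝒴 : BasedCategory.{v₃, u₃} (Over S)}
  {𝒵 : BasedCategory.{v₄, u₄} (Over S)}

/-- The base change of `g` along `f` precomposed with a functor `w`. -/
abbrev pre {𝒜 : BasedCategory.{v₅, u₅} (Over S)} (w : 𝒜 ⥤ᵇ 𝒵) (g : 𝒵 ⥤ᵇ 𝒴) (f : 𝒳 ⥤ᵇ 𝒴) :
    FibCat.fp (BasedFunctor.comp w g) f ⥤ᵇ FibCat.fp g f :=
  BasedFunctor.comp (K734.Fib.fpPaste w g f) (FibCat.fpSnd w (FibCat.fpFst g f))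

/-- The preimage under a scheme chart of the image of a set of points of a 2-fibre product. -/
theorem preimage_image_fp (h𝒳 : FibCat.IsFibGrpd 𝒳.p) (h𝒴 : FibCat.IsFibGrpd 𝒴.p) (h𝒵 : FibCat.IsFibGrpd 𝒵.p)
    (g : 𝒵 ⥤ᵇ 𝒴) (f : 𝒳 ⥤ᵇ 𝒴) {T : Over S} (w : FibCat.overCat T ⥤ᵇ 𝒵) (D : Set (AlgSt.Points (FibCat.fp g f))) :
    AlgSt.Points.ofChart w ⁻¹' (AlgSt.Points.map (FibCat.fpFst g f) '' D) =
      AlgSt.Points.ofChart (BasedFunctor.id (FibCat.overCat T)) ⁻¹'
        (AlgSt.Points.map (FibCat.fpFst (BasedFunctor.comp w g) f) ''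
          (AlgSt.Points.map (pre w g f) ⁻¹' D)) := by
  ext t
  simp only [Set.mem_preimage, Set.mem_image]
  constructor
  · rintro ⟨z, hz, h⟩
    obtain ⟨ω, h1, h2⟩ := exists_fp (isFibGrpd_fp h𝒵 h𝒳 h𝒴 g f) (isFibGrpd_overCat T) h𝒵 w (FibCat.fpFst g f)
      (AlgSt.Points.ofChart (BasedFunctor.id (FibCat.overCat T)) t) z h.symm
    obtain ⟨ω', rfl⟩ := (map_bijective_of_isEquivOver (K734.Fib.isEquivOver_fpPaste w g f)).2 ω
    refine ⟨ω', ?_, ?_⟩
    · rw [map_comp, h2]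
      exact hz
    · rw [← h1, ← map_comp]
      rfl
  · rintro ⟨ω, hω, h⟩
    refine ⟨_, hω, ?_⟩
    rw [ofChart_eq_map, ← h, ← map_comp, ← map_comp]
    rfl

/-- Change of the first functor of a 2-fibre product by a 2-isomorphism. -/
theorem isClosedMap_fpFst_congr {g g' : 𝒵 ⥤ᵇ 𝒴} (α : g ≅ g') (f : 𝒳 ⥤ᵇ 𝒴)
    (h : IsClosedMap (AlgSt.Points.map (FibCat.fpFst g f))) :
    IsClosedMap (AlgSt.Points.map (FibCat.fpFst g' f)) := by
  have h1 : AlgSt.Points.map (FibCat.fpFst g' f) =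
      AlgSt.Points.map (FibCat.fpFst g f) ∘ AlgSt.Points.map (K734.Fib.fpCongrL α f) := by
    funext z
    rw [Function.comp_apply, ← map_comp]
    rfl
  rw [h1]
  exact h.comp (K735.Univ.isHomeomorph_map_of_isEquivOver (K734.Fib.isEquivOver_fpCongrL α f)).isClosedMap

/-- Closedness of a subset of a scheme, tested on open neighbourhoods for a family of open maps. -/
theorem isClosed_of_local {T : Scheme.{u}} (E : Set T)
    (H : ∀ t : T, ∃ (O : Scheme.{u}) (w : O ⟶ T), IsOpenMap w ∧ t ∈ Set.range w ∧ IsClosed (w ⁻¹' E)) :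
    IsClosed E := by
  rw [← isOpen_compl_iff, isOpen_iff_forall_mem_open]
  intro t ht
  obtain ⟨O, w, hw, ⟨o, rfl⟩, hc⟩ := H t
  refine ⟨w '' (w ⁻¹' E)ᶜ, ?_, hw _ hc.isOpen_compl, ⟨o, ht, rfl⟩⟩
  rintro _ ⟨o', ho', rfl⟩
  exact ho'

/-- Closedness of a base change of `f` to a scheme over `𝒴`, from closedness over affine schemes over smooth charts of
`𝒴` by affine schemes. -/
theorem isClosedMap_of_local (h𝒳 : FibCat.IsFibGrpd 𝒳.p) (h𝒴 : FibCat.IsFibGrpd 𝒴.p)
    (hat : AlgSt.HasAtlas (AlgSp.LocP @Smooth) 𝒴) (f : 𝒳 ⥤ᵇ 𝒴) {T : Over S} (v : FibCat.overCat T ⥤ᵇ 𝒴)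
    (hcont : ChartCont (FibCat.fp v f))
    (H : ∀ (R B : Type u) [CommRing R] [CommRing B] [Algebra R B] (sV : Spec (CommRingCat.of R) ⟶ S)
      (y : FibCat.overCat (Over.mk sV) ⥤ᵇ 𝒴), AlgSt.RepByAlgSpWith (AlgSp.LocP @Smooth) y →
      IsClosedMap (AlgSt.Points.map (FibCat.fpFst (BasedFunctor.comp (AlgSt.overMap
        (Over.homMk (Spec.map (CommRingCat.ofHom (algebraMap R B))) rfl :
          Over.mk (Spec.map (CommRingCat.ofHom (algebraMap R B)) ≫ sV) ⟶ Over.mk sV)) y) f))) :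
    IsClosedMap (AlgSt.Points.map (FibCat.fpFst v f)) := by
  obtain ⟨V, y, hy, hys⟩ := hat
  obtain ⟨W, s, r, E, ⟨i⟩, ⟨j⟩, hs, hE⟩ := K743.Chart.exists_chart v y hy (FibCat.fpSnd v y)
  intro D hD
  rw [isClosed_iff]
  refine isClosed_of_local _ fun t => ?_
  -- a point of the chart over `t`
  obtain ⟨w', rfl⟩ : ∃ w' : W.left, s.left w' = t := by
    obtain ⟨z, hz⟩ := surjective_fpFst (isFibGrpd_overCat V) (isFibGrpd_overCat T) h𝒴 v y
      (surjective_of_repByAlgSpWith h𝒴 (isFibGrpd_overCat V) hys) (AlgSt.Points.ofChart (BasedFunctor.id _) t)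
    obtain ⟨ω, rfl⟩ := hE z
    obtain ⟨w', rfl⟩ := (ofChart_id_bijective W).2 ω
    refine ⟨w', (ofChart_id_bijective T).1 ?_⟩
    rw [← hz]
    exact (map_ofChart_over i w').symm
  obtain ⟨V₀, hV₀, hwV, -⟩ := exists_isAffineOpen_mem_and_subset (x := r.left w') (U := (⊤ : V.left.Opens)) trivial
  obtain ⟨O, hO, hwO, hle⟩ := exists_isAffineOpen_mem_and_subset (x := w') (U := r.left ⁻¹ᵁ V₀) hwV
  let ρ := r.left.appLE V₀ O hle
  let _ : Algebra Γ(V.left, V₀) Γ(W.left, O) := ρ.hom.toAlgebra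
  have hρ : Spec.map ρ ≫ hV₀.fromSpec = hO.fromSpec ≫ r.left := hV₀.SpecMap_appLE_fromSpec _ hO hle
  let sV : Spec Γ(V.left, V₀) ⟶ S := hV₀.fromSpec ≫ V.hom
  let iV : Over.mk sV ⟶ V := Over.homMk hV₀.fromSpec rfl
  let φ : Over.mk (Spec.map ρ ≫ sV) ⟶ Over.mk sV := Over.homMk (Spec.map ρ) rfl
  let iO : Over.mk (Spec.map ρ ≫ sV) ⟶ W := Over.homMk hO.fromSpec (by
    change hO.fromSpec ≫ W.hom = Spec.map ρ ≫ hV₀.fromSpec ≫ V.hom
    rw [← Over.w r, reassoc_of% hρ])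
  have hiO : φ ≫ iV = iO ≫ r := Over.OverMorphism.ext hρ
  have hy₁ : AlgSt.RepByAlgSpWith (AlgSp.LocP @Smooth) (BasedFunctor.comp (AlgSt.overMap iV) y) :=
    K743.Comp.locP_overMap_comp K597.etLoc_smooth iV (inferInstanceAs (Smooth hV₀.fromSpec)) y hy
  have hH := H Γ(V.left, V₀) Γ(W.left, O) sV _ hy₁
  obtain ⟨j1⟩ := exists_iso_overMap_comp iO s
  obtain ⟨j2⟩ := exists_iso_overMap_comp iO r
  obtain ⟨j3⟩ := exists_iso_overMap_comp φ iV
  have k : BasedFunctor.comp (AlgSt.overMap φ) (BasedFunctor.comp (AlgSt.overMap iV) y) ≅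
      BasedFunctor.comp (AlgSt.overMap (iO ≫ s)) v :=
    (whiskerRightIso (j3.trans ((overMapCongr hiO).trans j2.symm)) y).trans
      ((whiskerLeftIso (AlgSt.overMap iO) ((whiskerRightIso j.symm y).trans
        ((whiskerLeftIso E (FibCat.fpIso v y).symm).trans (whiskerRightIso i v)))).trans
        (whiskerRightIso j1 v))
  have hcl := isClosedMap_fpFst_congr k f hH
  refine ⟨_, (iO ≫ s).left, ?_, ?_, ?_⟩
  · have : Smooth s.left := hs
    have : Smooth (iO ≫ s).left := inferInstanceAs (Smooth (hO.fromSpec ≫ s.left))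
    exact isOpenMap_of_smooth _ this
  · obtain ⟨o, ho⟩ : w' ∈ Set.range hO.fromSpec := by rw [hO.range_fromSpec]; exact hwO
    exact ⟨o, congrArg s.left ho⟩
  · have h1 := preimage_image_fp h𝒳 h𝒴 (isFibGrpd_overCat T) v f (AlgSt.overMap (iO ≫ s)) D
    have h2 : AlgSt.Points.ofChart (AlgSt.overMap (iO ≫ s)) =
        AlgSt.Points.ofChart (BasedFunctor.id (FibCat.overCat T)) ∘ (iO ≫ s).left := by
      funext o
      exact ofChart_overMap (iO ≫ s) (BasedFunctor.id _) o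
    rw [h2, Set.preimage_comp] at h1
    rw [h1, ← isClosed_iff]
    exact hcl _ (hD.preimage (continuous_map hcont _))

open K603.UnivClosedMain in
/-- The affine case: closedness of the base change of `f` along `Spec B ⟶ Spec R ⟶ 𝒴`, `R` Noetherian. -/
theorem isClosedMap_aff (h𝒳 : FibCat.IsFibGrpd 𝒳.p) (h𝒴 : FibCat.IsFibGrpd 𝒴.p) {f : 𝒳 ⥤ᵇ 𝒴} (hval : DvrLift f)
    {R B : Type u} [CommRing R] [IsLocallyNoetherian (Spec (CommRingCat.of R))] [CommRing B] [Algebra R B]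
    (sV : Spec (CommRingCat.of R) ⟶ S) (y : FibCat.overCat (Over.mk sV) ⥤ᵇ 𝒴) {U : Over S} [IsAffine U.left]
    (x : FibCat.overCat U ⥤ᵇ FibCat.fp f y) (hx : AlgSt.RepByAlgSpWith (AlgSp.LocP @Smooth) x)
    (hs : Function.Surjective (AlgSt.Points.ofChart x)) {q : U ⟶ Over.mk sV}
    (θ : BasedFunctor.comp x (FibCat.fpSnd f y) ≅ AlgSt.overMap q) [LocallyOfFiniteType q.left] :
    IsClosedMap (AlgSt.Points.map (FibCat.fpFst (BasedFunctor.comp (AlgSt.overMap
        (Over.homMk (Spec.map (CommRingCat.ofHom (algebraMap R B))) rfl :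
          Over.mk (Spec.map (CommRingCat.ofHom (algebraMap R B)) ≫ sV) ⟶ Over.mk sV)) y) f)) := by
  let V : Over S := Over.mk sV
  let T : Over S := Over.mk (Spec.map (CommRingCat.ofHom (algebraMap R B)) ≫ sV)
  let φ : T ⟶ V := Over.homMk (Spec.map (CommRingCat.ofHom (algebraMap R B))) rfl
  let h : FibCat.fp f y ⥤ᵇ FibCat.overCat V := FibCat.fpSnd f y
  have h𝒢 : FibCat.IsFibGrpd (FibCat.fp f y).p := isFibGrpd_fp h𝒳 (isFibGrpd_overCat _) h𝒴 f y
  have sq1 := K736.Fib.isTwoCartOver_symm (K736.Fib.isTwoCartOver_fp f y)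
  let aT : FibCat.fp (BasedFunctor.comp (AlgSt.overMap φ) y) f ⥤ᵇ FibCat.fp f y :=
    FibCat.fpLift (FibCat.fpSnd _ f) (BasedFunctor.comp (FibCat.fpFst (BasedFunctor.comp (AlgSt.overMap φ) y) f)
      (AlgSt.overMap φ)) (FibCat.fpIso _ f).symm
  let e : BasedFunctor.comp aT h ≅
    BasedFunctor.comp (FibCat.fpFst (BasedFunctor.comp (AlgSt.overMap φ) y) f) (AlgSt.overMap φ) := Iso.refl _
  have hc : FibCat.IsTwoCartOver aT (FibCat.fpFst (BasedFunctor.comp (AlgSt.overMap φ) y) f) e := by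
    have h1 : FibCat.IsTwoCartOver (FibCat.fpFst (BasedFunctor.comp (AlgSt.overMap φ) y) f) aT e.symm := by
      refine (K736.Fib.isTwoCartOver_paste_iff sq1 e.symm).1 ?_
      refine K736.Fib.isTwoCartOver_congr (e := FibCat.fpIso (BasedFunctor.comp (AlgSt.overMap φ) y) f) (fun w => ?_)
        (K736.Fib.isTwoCartOver_fp (BasedFunctor.comp (AlgSt.overMap φ) y) f)
      rw [K736.Fib.pasteIso_hom_app]
      have h2 : y.map (e.symm.hom.toNatTrans.app w) = 𝟙 _ := y.toFunctor.map_id _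
      rw [h2]
      exact (Category.id_comp _).symm
    exact K736.Fib.isTwoCartOver_symm h1
  refine isClosedMap_of_aff (R := R) (B := B) sV h𝒢 (isFibGrpd_fp (isFibGrpd_overCat _) h𝒳 h𝒴 _ _) h x hx hs
    (fun n => ?_) hc
  let π : Aff n V ⟶ V := affπ n V
  have sq2 := K736.Fib.isTwoCartOver_symm (K736.Fib.isTwoCartOver_fp h (AlgSt.overMap π))
  have sq3 := K736.Fib.isTwoCartOver_symm ((K736.Fib.isTwoCartOver_paste_iff sq1
    (FibCat.fpIso h (AlgSt.overMap π)).symm).2 sq2)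
  obtain ⟨xA, eA, ⟨βA⟩, hxA⟩ := exists_chart_bc θ (K736.Fib.isTwoCartOver_fp h (AlgSt.overMap π))
    (isPullback_affMap n q).flip
  have h𝒢A : FibCat.IsFibGrpd (FibCat.fp h (AlgSt.overMap π)).p :=
    isFibGrpd_fp h𝒢 (isFibGrpd_overCat _) (isFibGrpd_overCat _) _ _
  have hxAs : Function.Surjective (AlgSt.Points.ofChart xA) := surjective_of_cart h𝒢 h𝒢A hxA hs
  have hcont : ChartCont (FibCat.fp h (AlgSt.overMap π)) :=
    chartCont_of_atlas h𝒢A xA (repByAlgSpWith_of_cart hxA hx) ((surjective_map_iff_surjective_ofChart xA).2 hxAs)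
  have hft : LocallyOfFiniteType (affMap n q).left :=
    MorphismProperty.of_isPullback (P := @LocallyOfFiniteType)
      (AffineSpace.isPullback_map (n := ULift.{u} (Fin n)) q.left).flip inferInstance
  have hVa : IsAffine V.left := inferInstanceAs (IsAffine (Spec (CommRingCat.of R)))
  have hVn : IsLocallyNoetherian V.left := inferInstanceAs (IsLocallyNoetherian (Spec (CommRingCat.of R)))
  have hqq : QuasiCompact q.left := by
    have : IsAffineHom q.left := isAffineHom_of_isAffine (X := U.left) (Y := V.left) q.left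
    infer_instance
  have hqc : QuasiCompact (affMap n q).left :=
    MorphismProperty.of_isPullback (P := @QuasiCompact)
      (AffineSpace.isPullback_map (n := ULift.{u} (Fin n)) q.left).flip inferInstance
  have hN : IsLocallyNoetherian (Aff n V).left :=
    LocallyOfFiniteType.isLocallyNoetherian (𝔸(ULift.{u} (Fin n); V.left) ↘ V.left)
  exact isClosedMap_of_specializes βA (hcont _ xA) hxAs
    (fun u t' ht => exists_specializes hval sq3 βA hcont u t' ht)

end K735.UnivClosedDvr
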